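import Groth.Agent.ShriekAlgLib.Coext
import Groth.Agent.DualCxLib.FlatDev
import Groth.Agent.DualCxLib.LocMain
import Groth.Agent.PCHomLib.RelLocal

/-!
# Flat base change of coextension
-/

set_option autoImplicit false
set_option backward.isDefEq.respectTransparency false
set_option linter.style.haveILetI false

universe u

open CategoryTheory Limits
open scoped TensorProduct
attribute [local instance] HasDerivedCategory.standard

noncomputable section

namespace Groth.Agent.ShriekAlgLib

open DRingLib DCohLib DTenLib DualCxLib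

variable (P P' A A' : Type u) [CommRing P] [CommRing P'] [CommRing A] [CommRing A'] [Algebra P P']
  [Algebra P A] [Algebra A A'] [Algebra P' A'] [Algebra P A'] [IsScalarTower P P' A']
  [IsScalarTower P A A'] [Algebra.IsPushout P P' A A'] [Module.Flat P P']

theorem flat_of_isPushout (P P' A A' : Type u) [CommRing P] [CommRing P'] [CommRing A] [CommRing A'] [Algebra P P']
    [Algebra P A] [Algebra A A'] [Algebra P' A'] [Algebra P A'] [IsScalarTower P P' A'] [IsScalarTower P A A']
    [Algebra.IsPushout P P' A A'] [Module.Flat P P'] : Module.Flat A A' :=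
  haveI : Algebra.IsPushout P A P' A' := Algebra.IsPushout.symm inferInstance
  Module.Flat.isBaseChange P A P' A' (f := (IsScalarTower.toAlgHom P P' A').toLinearMap)
    Algebra.IsPushout.out

variable [Module.Flat A A'] [DRing.HasLBaseChange (algebraMap P P')] [DRing.HasLBaseChange (algebraMap A A')]

/-- Restriction commutes with flat base change on derived categories. -/
def resBCIso : DRing.restrictD (algebraMap P A) ⋙ bcD P P' ≅
    bcD A A' ⋙ DRing.restrictD (algebraMap P' A') :=
  let c := ComplexShape.up ℤ
  let F := ModuleCat.restrictScalars.{u} (algebraMap P A)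
  let H := ModuleCat.restrictScalars.{u} (algebraMap P' A')
  let G₁ : DRing.Cx A ⥤ Dual.D P' := DTen.resCx (algebraMap P A) ⋙ DTen.extCx (algebraMap P P') ⋙ DerivedCategory.Q
  let G₂ : DRing.Cx A ⥤ Dual.D P' := DTen.extCx (algebraMap A A') ⋙ DTen.resCx (algebraMap P' A') ⋙ DerivedCategory.Q
  letI : Localization.Lifting DerivedCategory.Q (HomologicalComplex.quasiIso (ModuleCat.{u} A) c) G₁
      (DRing.restrictD (algebraMap P A) ⋙ bcD P P') :=
    ⟨(Functor.associator _ _ _).symm ≪≫ Functor.isoWhiskerRight F.mapDerivedCategoryFactors (bcD P P') ≪≫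
      Functor.associator _ _ _ ≪≫ Functor.isoWhiskerLeft (F.mapHomologicalComplex c) (bcQIso P P')⟩
  letI : Localization.Lifting DerivedCategory.Q (HomologicalComplex.quasiIso (ModuleCat.{u} A) c) G₂
      (bcD A A' ⋙ DRing.restrictD (algebraMap P' A')) :=
    ⟨(Functor.associator _ _ _).symm ≪≫ Functor.isoWhiskerRight (bcQIso A A') _ ≪≫
      Functor.associator _ _ _ ≪≫
      Functor.isoWhiskerLeft (DTen.extCx (algebraMap A A')) H.mapDerivedCategoryFactors⟩
  Localization.liftNatIso DerivedCategory.Q (HomologicalComplex.quasiIso (ModuleCat.{u} A) c) G₁ G₂ _ _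
    ((Functor.associator _ _ _).symm ≪≫
      Functor.isoWhiskerRight (Functor.mapHomologicalComplexCompIso
        (PCHomLib.pushoutExtendIso P P' A A') c ≪≫ (Functor.mapHomologicalComplexCompIso (Iso.refl _) c).symm)
        DerivedCategory.Q ≪≫
      Functor.associator _ _ _)

omit [Module.Flat A A'] [DRing.HasLBaseChange (algebraMap A A')] in
/-- Morphisms into an object are detected in one degree on the unit. -/
theorem bijective_homologyMap_of_test (k : ℤ) {W W' : Dual.D A'} (γ : W ⟶ W')
    (h : Function.Bijective fun v : DRing.toD (sng k (ModuleCat.of A' A')) ⟶ W => v ≫ γ) :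
    IsIso ((DerivedCategory.homologyFunctor (ModuleCat.{u} A') k).map γ) := by
  let H := DerivedCategory.homologyFunctor (ModuleCat.{u} A') k
  let M := ModuleCat.of A' A'
  let c : H.obj (DRing.toD (sng k M)) ≅ M :=
    (DerivedCategory.homologyFunctorFactors (ModuleCat.{u} A') k).app (sng k M) ≪≫
      HomologicalComplex.singleObjHomologySelfIso (ComplexShape.up ℤ) k M
  haveI : Module.Projective A' M := Module.Projective.of_free
  have h1 : Function.Bijective fun w : H.obj (DRing.toD (sng k M)) ⟶ H.obj W => w ≫ H.map γ := by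
    refine (Function.Bijective.of_comp_iff _ (bijective_homologyMap_sng k (M := M) W)).1 ?_
    have : ((fun w : H.obj (DRing.toD (sng k M)) ⟶ H.obj W => w ≫ H.map γ) ∘ fun v => H.map v) =
        (fun v => H.map v) ∘ fun v => v ≫ γ := funext fun v => (H.map_comp v γ).symm
    rw [this]
    exact (bijective_homologyMap_sng k (M := M) W').comp h
  refine (ConcreteCategory.isIso_iff_bijective _).2 ⟨fun x y hxy => ?_, fun z => ?_⟩
  · have e : c.hom ≫ ModuleCat.ofHom (LinearMap.toSpanSingleton A' (H.obj W) x) =
        c.hom ≫ ModuleCat.ofHom (LinearMap.toSpanSingleton A' (H.obj W) y) := h1.1 (by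
      show (c.hom ≫ _) ≫ H.map γ = (c.hom ≫ _) ≫ H.map γ
      rw [Category.assoc, Category.assoc]
      refine congrArg (c.hom ≫ ·) (ModuleCat.hom_ext (LinearMap.ext fun r => ?_))
      show (H.map γ).hom (r • x) = (H.map γ).hom (r • y)
      rw [map_smul, map_smul]
      exact congrArg (r • ·) hxy)
    have e' := ConcreteCategory.congr_hom ((cancel_epi c.hom).1 e) (1 : A')
    exact (one_smul A' x).symm.trans (Eq.trans e' (one_smul A' y))
  · obtain ⟨w, hw⟩ := h1.2 (c.hom ≫ ModuleCat.ofHom (LinearMap.toSpanSingleton A' (H.obj W') z))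
    refine ⟨(c.inv ≫ w).hom (1 : A'), ?_⟩
    have hw' : (c.inv ≫ w) ≫ H.map γ = ModuleCat.ofHom (LinearMap.toSpanSingleton A' (H.obj W') z) := by
      rw [Category.assoc]
      exact (congrArg (c.inv ≫ ·) hw).trans (c.inv_hom_id_assoc _)
    exact (ConcreteCategory.congr_hom hw' (1 : A')).trans (one_smul A' z)

/-- Flat base change of coextension, when base change is bijective on maps out of the shifts of `A`. -/
theorem isCoind_flatBC (K : Dual.D P) (M : Dual.D A) (h : IsCoind (algebraMap P A) K M)
    (hK : ∀ k : ℤ, Function.Bijective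
      (bcΦ P P' ((DRing.restrictD (algebraMap P A)).obj (DRing.toD (sng k (ModuleCat.of A A)))) K)) :
    IsCoind (algebraMap P' A') ((bcD P P').obj K) ((bcD A A').obj M) := by
  obtain ⟨ε, hε⟩ := h
  obtain ⟨G, hG⟩ := exists_isCoind (algebraMap P' A') ((bcD P P').obj K)
  obtain ⟨ε', hε'⟩ := id hG
  let e := resBCIso P P' A A'
  let res := DRing.restrictD (algebraMap P A)
  let res' := DRing.restrictD (algebraMap P' A')
  let η : res'.obj ((bcD A A').obj M) ⟶ (bcD P P').obj K := e.inv.app M ≫ (bcD P P').map ε
  obtain ⟨γ, hγ⟩ := (hε' _).2 η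
  replace hγ : res'.map γ ≫ ε' = η := hγ
  suffices IsIso γ from hG.of_iso (Iso.refl _) (asIso γ).symm
  rw [DerivedCategory.isIso_iff]
  intro k
  refine bijective_homologyMap_of_test (A' := A') k γ ?_
  let U := ModuleCat.of A A
  let X := DRing.toD (sng k U)
  let b : (bcM A A').obj U ≅ ModuleCat.of A' A' :=
    ((extendScalarsTensorEquiv A A' U).trans (TensorProduct.AlgebraTensorModule.rid A A' A')).toModuleIso
  let t : (bcD A A').obj X ≅ DRing.toD (sng k (ModuleCat.of A' A')) :=
    (bcQIso A A').app (sng k U) ≪≫ DerivedCategory.Q.mapIso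
      ((HomologicalComplex.singleMapHomologicalComplex (bcM A A') (ComplexShape.up ℤ) k).app U ≪≫
        (HomologicalComplex.single (ModuleCat.{u} A') (ComplexShape.up ℤ) k).mapIso b)
  suffices hX : Function.Bijective fun v : (bcD A A').obj X ⟶ (bcD A A').obj M => v ≫ γ by
    convert (t.homFromEquiv (Z := G)).bijective.comp
      (hX.comp (t.symm.homFromEquiv (Z := (bcD A A').obj M)).bijective) using 1
    funext v
    show v ≫ γ = t.inv ≫ (t.hom ≫ v) ≫ γ
    rw [Category.assoc, Iso.inv_hom_id_assoc]
  refine (Function.Bijective.of_comp_iff' (hε' ((bcD A A').obj X)) _).1 ?_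
  have h3 : Function.Bijective (bcΦ A A' X M) := by
    haveI : Module.Free A U := inferInstanceAs (Module.Free A A)
    haveI : Module.Finite A U := inferInstanceAs (Module.Finite A A)
    exact bijective_bcΦ_sng A A' k U M
  refine (Function.Bijective.of_comp_iff _ h3).1 ?_
  letI : Module P (X ⟶ M) := Module.compHom _ (algebraMap P A)
  haveI : IsScalarTower P A (X ⟶ M) := .of_algebraMap_smul fun _ _ => rfl
  let εL : (X ⟶ M) →ₗ[P] (res.obj X ⟶ K) :=
    { toFun := fun v => res.map v ≫ ε
      map_add' := fun v w => by rw [Functor.map_add, Preadditive.add_comp]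
      map_smul' := fun p v => by
        show res.map (algebraMap P A p • v) ≫ ε = p • (res.map v ≫ ε)
        rw [restrictD_map_smul, Linear.smul_comp] }
  let E := LinearEquiv.ofBijective εL (hε X)
  let c := Algebra.IsPushout.cancelBaseChange P P' A A' (X ⟶ M)
  let Λ := fun x : A' ⊗[A] (X ⟶ M) => res'.map (bcΦ A A' X M x) ≫ η
  have key : ∀ y : P' ⊗[P] (X ⟶ M), Λ (c.symm y) = e.inv.app X ≫ bcΦ P P' (res.obj X) K (E.lTensor P' y) := fun y => by
    induction y using TensorProduct.induction_on with
    | zero =>
      simp only [Λ, map_zero, Functor.map_zero, zero_comp, comp_zero]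
    | tmul r v =>
      simp only [Λ, c, Algebra.IsPushout.cancelBaseChange_symm_tmul, LinearEquiv.lTensor_tmul, bcΦ_tmul]
      show res'.map (algebraMap P' A' r • (bcD A A').map v) ≫ e.inv.app M ≫ (bcD P P').map ε =
        e.inv.app X ≫ (r • (bcD P P').map (res.map v ≫ ε))
      rw [restrictD_map_smul, Linear.smul_comp, Linear.comp_smul, Functor.map_comp]
      exact congrArg (r • ·) (e.inv.naturality_assoc v _)
    | add y z hy hz =>
      simp only [Λ, map_add, Functor.map_add, Preadditive.add_comp, Preadditive.comp_add] at hy hz ⊢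
      rw [hy, hz]
  have hΛ : Function.Bijective Λ := by
    refine (Function.Bijective.of_comp_iff _ c.symm.bijective).1 ?_
    rw [show Λ ∘ c.symm = (fun w => e.inv.app X ≫ w) ∘ bcΦ P P' (res.obj X) K ∘ (E.lTensor P') from funext key]
    exact ((e.app X).homFromEquiv (Z := (bcD P P').obj K)).bijective.comp ((hK k).comp (E.lTensor P').bijective)
  convert hΛ using 1
  funext x
  show res'.map (bcΦ A A' X M x ≫ γ) ≫ ε' = res'.map (bcΦ A A' X M x) ≫ η
  rw [Functor.map_comp, Category.assoc, hγ]

end Groth.Agent.ShriekAlgLib
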