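import Groth.Agent.ShriekAlgLib.HomBC
import Groth.Agent.PCHomLib.RelLocal
import Groth.Agent.DRingLib.BaseChange
import Groth.Agent.DRingLib.TensorAmp
import Groth.Agent.ShriekAlgLib.FlatCoind

/-!
# Arbitrary base change of coinduced complexes of the unit
-/

set_option autoImplicit false
set_option backward.isDefEq.respectTransparency false
set_option linter.style.haveILetI false
set_option maxRecDepth 4000

universe u

open CategoryTheory CategoryTheory.Limits CochainComplex.HomComplex
open scoped TensorProduct ChangeOfRings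
attribute [local instance] HasDerivedCategory.standard

noncomputable section

namespace Groth.Agent.ShriekAlgLib

open DRingLib DCohLib

/-- Base change of a quasi-isomorphism between bounded above complexes of relatively flat modules. -/
theorem quasiIso_extC_map_of_flat (R R' P P' : Type u) [CommRing R] [CommRing R'] [CommRing P] [CommRing P']
    [Algebra R R'] [Algebra R P] [Algebra P P'] [Algebra R' P'] [Algebra R P'] [IsScalarTower R R' P']
    [IsScalarTower R P P'] [Algebra.IsPushout R R' P P']
    {X Y : DRing.Cx P} (f : X ⟶ Y) (hf : QuasiIso f) {a b : ℤ}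
    (hX : DRing.VanishesAbove X a) (hY : DRing.VanishesAbove Y b)
    (hXf : DRing.TermwiseFlat ((DTen.resCx (algebraMap R P)).obj X))
    (hYf : DRing.TermwiseFlat ((DTen.resCx (algebraMap R P)).obj Y)) :
    QuasiIso ((extC P P').map f) := by
  have h1 : QuasiIso ((DTen.resCx (algebraMap R P)).map f) :=
    (HomologicalComplex.quasiIso_map_iff_of_preservesHomology f (ModuleCat.restrictScalars.{u} (algebraMap R P))).2 hf
  have h2 : QuasiIso ((extC R R').map ((DTen.resCx (algebraMap R P)).map f)) :=
    DTenLib.quasiIso_extCx_map (algebraMap R R') _ h1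
      (isKFlat_of_vanishesAbove (fun i hi => (ModuleCat.restrictScalars.{u} _).map_isZero (hX i hi)) hXf)
      (isKFlat_of_vanishesAbove (fun i hi => (ModuleCat.restrictScalars.{u} _).map_isZero (hY i hi)) hYf)
  rw [← HomologicalComplex.quasiIso_map_iff_of_preservesHomology _ (ModuleCat.restrictScalars.{u} (algebraMap R' P'))]
  exact (quasiIso_iff_of_arrow_mk_iso _ _ (((Functor.mapArrowFunctor _ _).mapIso
    (NatIso.mapHomologicalComplex (PCHomLib.pushoutExtendIso R R' P P') (ComplexShape.up ℤ))).app (Arrow.mk f))).1 h2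

variable (P P' A A' : Type u) [CommRing P] [CommRing P'] [CommRing A] [CommRing A'] [Algebra P P'] [Algebra P A]
  [Algebra A A'] [Algebra P' A'] [Algebra P A'] [IsScalarTower P P' A'] [IsScalarTower P A A']
  [Algebra.IsPushout P P' A A']

/-- Extension commutes with restriction, termwise. -/
abbrev cmIso (G : DRing.Cx A) :
    (extC P P').obj ((DTen.resCx (algebraMap P A)).obj G) ≅
      (DTen.resCx (algebraMap P' A')).obj ((extC A A').obj G) :=
  (NatIso.mapHomologicalComplex (PCHomLib.pushoutExtendIso P P' A A') (ComplexShape.up ℤ)).app G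

theorem pushoutExtendIso_one_tmul (M : ModuleCat.{u} A) (m : M) :
    ((PCHomLib.pushoutExtendIso P P' A A').hom.app M).hom ((1 : P') ⊗ₜ[P,algebraMap P P'] m) =
      ((1 : A') ⊗ₜ[A,algebraMap A A'] m : (ModuleCat.extendScalars.{u, u, u} (algebraMap A A')).obj M) := by
  letI : Module P M := Module.compHom _ (algebraMap P A)
  haveI : IsScalarTower P A M := .of_algebraMap_smul fun _ _ => rfl
  show (extendScalarsTensorEquiv A A' M).symm
    ((Algebra.IsPushout.cancelBaseChange P P' A A' M).symm ((1 : P') ⊗ₜ[P] m)) = _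
  rw [show (Algebra.IsPushout.cancelBaseChange P P' A A' M).symm ((1 : P') ⊗ₜ[P] m) =
    algebraMap P' A' 1 ⊗ₜ[A] m from Algebra.IsPushout.cancelBaseChangeAux_symm_tmul P P' A A' M 1 m, map_one]
  rfl

/-- Base change of the target module. -/
def resModBC : (extF P P').obj (resMod (P := P) A) ⟶ resMod (P := P') A' :=
  (PCHomLib.pushoutExtendIso P P' A A').hom.app (ModuleCat.of A A) ≫
    (ModuleCat.restrictScalars.{u} (algebraMap P' A')).map (extUnit A A').hom

instance : IsIso (resModBC P P' A A') := by
  unfold resModBC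
  infer_instance

theorem resModBC_one_tmul (a : A) :
    (resModBC P P' A A').hom ((1 : P') ⊗ₜ[P,algebraMap P P'] a) = algebraMap A A' a := by
  exact (congrArg (extUnit A A').hom.hom (pushoutExtendIso_one_tmul P P' A A' (ModuleCat.of A A) a)).trans
    (extUnit_tmul A A' a)

/-- Base change of an augmentation. -/
def piBC {F : DRing.Cx P} (π : F ⟶ sng 0 (resMod (P := P) A)) :
    (extC P P').obj F ⟶ sng 0 (resMod (P := P') A') :=
  (extC P P').map π ≫
    (HomologicalComplex.singleMapHomologicalComplex (extF P P') (ComplexShape.up ℤ) 0).hom.app _ ≫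
    (CochainComplex.singleFunctor (ModuleCat.{u} P') 0).map (resModBC P P' A A')

theorem piBC_f_zero {F : DRing.Cx P} (π : F ⟶ sng 0 (resMod (P := P) A)) :
    (piBC P P' A A' π).f 0 ≫ (HomologicalComplex.singleObjXSelf (ComplexShape.up ℤ) 0 (resMod (P := P') A')).hom =
      (extF P P').map (π.f 0 ≫ (HomologicalComplex.singleObjXSelf (ComplexShape.up ℤ) 0 (resMod (P := P) A)).hom) ≫
        resModBC P P' A A' := by
  simp only [piBC, HomologicalComplex.comp_f, HomologicalComplex.singleMapHomologicalComplex_hom_app_self,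
    Category.assoc]
  erw [HomologicalComplex.single_map_f_self]
  simp [Category.assoc]

theorem act_compat {F : DRing.Cx P} (π : F ⟶ sng 0 (resMod (P := P) A)) (E : DRing.Cx A) :
    (extC P P').map (actHom E ≫ homCxPre π ((DTen.resCx (algebraMap P A)).obj E)) ≫
        extHom P' F ((DTen.resCx (algebraMap P A)).obj E) ≫
          DRing.homCxMap ((extC P P').obj F) (cmIso P P' A A' E).hom =
      (cmIso P P' A A' E).hom ≫ actHom ((extC A A').obj E) ≫
        homCxPre (piBC P P' A A' π) ((DTen.resCx (algebraMap P' A')).obj ((extC A A').obj E)) := by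
  refine HomologicalComplex.hom_ext _ _ fun i => ?_
  apply ModuleCat.ExtendScalars.hom_ext
  intro (e : E.X i)
  let z : Cochain F ((DTen.resCx (algebraMap P A)).obj E) i :=
    (Cochain.ofHom π).comp (Cochain.fromSingleMk (p := 0) (q := i) (orbitMap E i e) (zero_add i)) (zero_add i)
  let e' : ((extC A A').obj E).X i :=
    (((cmIso P P' A A' E).hom.f i).hom ((1 : P') ⊗ₜ[P,algebraMap P P'] e))
  show ((extHomTerm P' F ((DTen.resCx (algebraMap P A)).obj E) i).hom ((1 : P') ⊗ₜ[P,algebraMap P P'] z) :
      Cochain _ _ i).comp (Cochain.ofHom (cmIso P P' A A' E).hom) (add_zero i) =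
    (Cochain.ofHom (piBC P P' A A' π)).comp
      (Cochain.fromSingleMk (p := 0) (q := i) (orbitMap ((extC A A').obj E) i e') (zero_add i)) (zero_add i)
  rw [extHomTerm_one_tmul]
  refine Cochain.ext _ _ fun p q hpq => ?_
  rw [Cochain.comp_zero_cochain_v, Cochain.zero_cochain_comp_v, Cochain.map_v]
  simp only [z, Cochain.zero_cochain_comp_v, Cochain.ofHom_v]
  by_cases hp : p = 0
  · subst hp
    obtain rfl : q = i := by omega
    rw [Cochain.fromSingleMk_v, Cochain.fromSingleMk_v]
    erw [reassoc_of% (piBC_f_zero P P' A A' π)]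
    rw [← Category.assoc (π.f 0)]
    generalize π.f 0 ≫ (HomologicalComplex.singleObjXSelf (ComplexShape.up ℤ) 0 (resMod (P := P) A)).hom = g
    apply ModuleCat.ExtendScalars.hom_ext
    intro v
    show ((cmIso P P' A A' E).hom.f q).hom
        ((1 : P') ⊗ₜ[P,algebraMap P P'] ((g.hom v : A) • (show E.X q from e))) =
      ((resModBC P P' A A').hom ((1 : P') ⊗ₜ[P,algebraMap P P'] g.hom v) : A') • e'
    rw [resModBC_one_tmul]
    have he : e' = ((1 : A') ⊗ₜ[A,algebraMap A A'] e : (ModuleCat.extendScalars.{u, u, u} (algebraMap A A')).obj (E.X q)) :=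
      pushoutExtendIso_one_tmul P P' A A' (E.X q) e
    rw [he]
    refine (pushoutExtendIso_one_tmul P P' A A' (E.X q) _).trans ?_
    apply (extendScalarsTensorEquiv A A' (E.X q)).injective
    let a : A := g.hom v
    refine Eq.trans ?_ (map_smul (extendScalarsTensorEquiv A A' (E.X q)) (algebraMap A A' a) _).symm
    show (1 : A') ⊗ₜ[A] (a • (show E.X q from e)) = algebraMap A A' a • ((1 : A') ⊗ₜ[A] (show E.X q from e))
    rw [algebraMap_smul, TensorProduct.tmul_smul]
  · rw [Cochain.fromSingleMk_v_eq_zero _ _ _ _ _ hp, Cochain.fromSingleMk_v_eq_zero _ _ _ _ _ hp, comp_zero,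
      comp_zero]
    erw [Functor.map_zero]
    exact zero_comp

section Main

variable (R R' : Type u) [CommRing R] [CommRing R']

theorem isCoind_baseChange [Algebra R R'] [Algebra R P] [Algebra R' P'] [Algebra R P'] [IsScalarTower R R' P']
    [IsScalarTower R P P'] [Algebra.IsPushout R R' P P'] [Algebra R A] [IsScalarTower R P A] [Module.Flat R P] [Module.Flat R A] [DRing.HasLBaseChange (algebraMap A A')]
    {F : DRing.Cx P} (hF : Bdd FProj F) (eF : DRing.toD F ≅ (DRing.restrictD (algebraMap P A)).obj (Dual.inD A A))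
    {E : DRing.Cx A} {b : ℤ} (hEb : DRing.VanishesAbove E b) (hEp : ∀ i, Module.Projective A (E.X i))
    {W : Dual.D A} (eE : DRing.toD E ≅ W) (hW : IsCoind (algebraMap P A) (Dual.inD P P) W) :
    IsCoind (algebraMap P' A') (Dual.inD P' P') ((DRing.LBaseChange (algebraMap A A')).obj W) := by
  haveI := hF.isKProjective projClass_fProj
  obtain ⟨r⟩ := nonempty_restrictD_inD (algebraMap P A) (ModuleCat.of A A)
  obtain ⟨π, hπQ⟩ := Q_map_surjective F (sng 0 (resMod (P := P) A))
    (eF ≪≫ r ≪≫ (singleQZeroIso (resMod (P := P) A)).symm).hom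
  haveI : IsIso (DerivedCategory.Q.map π) := hπQ ▸ inferInstance
  have hπ : QuasiIso π := (DerivedCategory.isIso_Q_map_iff_quasiIso (φ := π)).1 inferInstance
  let Φ := DTen.resCx (algebraMap P A)
  have hΦb : DRing.VanishesAbove (Φ.obj E) b := fun i hi => (ModuleCat.restrictScalars.{u} _).map_isZero (hEb i hi)
  obtain ⟨F', s, hs, hF'p, hF'b⟩ := exists_proj_resolution (Φ.obj E) b hΦb
  haveI := isKProjective_of_vanishesAbove hF'b hF'p
  haveI := isIso_Q_of_qis s hs
  obtain ⟨ε, hε⟩ := hW
  let Res := DRing.restrictD (algebraMap P A)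
  obtain ⟨c, hc⟩ := Q_map_surjective F' (oneCx P)
    (DerivedCategory.Q.map s ≫ (DTen.resFactors (algebraMap P A)).inv.app E ≫ Res.map eE.hom ≫ ε ≫
      (singleQZeroIso (ModuleCat.of P P)).inv)
  let α := actHom E ≫ homCxPre π (Φ.obj E)
  haveI := isIso_Q_of_qis _ (quasiIso_homCxMap F s hs)
  obtain ⟨β, hβQ⟩ := Q_map_surjective F' (DRing.homCx F F')
    (DerivedCategory.Q.map (s ≫ α) ≫ inv (DerivedCategory.Q.map (DRing.homCxMap F s)))
  have hβ : (HomotopyCategory.quotient (ModuleCat.{u} P) (ComplexShape.up ℤ)).map (β ≫ DRing.homCxMap F s) =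
      (HomotopyCategory.quotient (ModuleCat.{u} P) (ComplexShape.up ℤ)).map (s ≫ α) :=
    quotient_map_eq_of_Q (by rw [Functor.map_comp, hβQ, Category.assoc, IsIso.inv_hom_id, Category.comp_id])
  have hu : QuasiIso (β ≫ DRing.homCxMap F c) := by
    refine (chain_criterion π hπ s hs c β hβ).1 fun X => ?_
    have he : chainEval s hs c = Res.map eE.hom ≫ ε := by
      rw [chainEval, hc]
      simp only [Category.assoc, Iso.inv_hom_id, Category.comp_id, IsIso.inv_hom_id_assoc]
      exact ((DTen.resFactors (algebraMap P A)).app E).hom_inv_id_assoc _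
    rw [he]
    convert (hε X).comp (eE.homToEquiv (Z := X)).bijective using 1
    funext g
    show Res.map g ≫ Res.map eE.hom ≫ ε = Res.map (g ≫ eE.hom) ≫ ε
    rw [Functor.map_comp, Category.assoc]
  let F₂ := (extC P P').obj F
  let F₂' := (extC P P').obj F'
  have hF₂ : Bdd FProj F₂ := by
    obtain ⟨⟨a, d, had⟩, hp⟩ := hF
    exact ⟨⟨a, d, fun i hi => (extF P P').map_isZero (had i hi)⟩, fun i => fProj_extend _ (hp i)⟩
  haveI := hF₂.isKProjective projClass_fProj
  have hF₂'b : DRing.VanishesAbove F₂' b := fun i hi => (extF P P').map_isZero (hF'b i hi)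
  haveI : F₂'.IsKProjective := isKProjective_of_vanishesAbove hF₂'b fun i => by
    haveI := hF'p i
    exact Module.Projective.of_equiv (extendScalarsTensorEquiv P P' (F'.X i)).symm
  have hPflat : ∀ (G : DRing.Cx P), (∀ i, Module.Projective P (G.X i)) →
      DRing.TermwiseFlat ((DTen.resCx (algebraMap R P)).obj G) := fun G hG i => by
    letI : Module R (G.X i) := Module.compHom _ (algebraMap R P)
    haveI : IsScalarTower R P (G.X i) := .of_algebraMap_smul fun _ _ => rfl
    haveI := hG i
    exact (Module.Flat.trans R P (G.X i) :)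
  have hAflat : DRing.TermwiseFlat ((DTen.resCx (algebraMap R P)).obj (Φ.obj E)) := fun i => by
    letI : Module R (E.X i) := Module.compHom _ (algebraMap R A)
    haveI : IsScalarTower R A (E.X i) := .of_algebraMap_smul fun _ _ => rfl
    haveI := hEp i
    haveI : Module.Flat R (E.X i) := Module.Flat.trans R A _
    exact Module.Flat.of_linearEquiv (M := E.X i)
      (N := ((DTen.resCx (algebraMap R P)).obj (Φ.obj E)).X i)
      { toFun := fun x => x
        invFun := fun x => x
        map_add' := fun _ _ => rfl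
        map_smul' := fun t x => congrArg (· • (show E.X i from x)) (IsScalarTower.algebraMap_apply R P A t).symm }
  let s₂ := (extC P P').map s ≫ (cmIso P P' A A' E).hom
  have hs₂ : QuasiIso s₂ := by
    haveI := quasiIso_extC_map_of_flat R R' P P' s hs hF'b hΦb (hPflat F' hF'p) hAflat
    exact inferInstanceAs (QuasiIso (_ ≫ _))
  let π₂ := piBC P P' A A' π
  have hπ₂ : QuasiIso π₂ := by
    obtain ⟨⟨a, d, had⟩, hp⟩ := hF
    haveI := quasiIso_extC_map_of_flat R R' P P' π hπ (fun i (hi : d < i) => had i (Or.inr hi))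
      (fun i (hi : (0 : ℤ) < i) => isZero_sng 0 _ (by omega)) (hPflat F fun i => (hp i).2) fun i => by
        by_cases hi : i = 0
        · subst hi
          exact Module.Flat.of_linearEquiv (M := A)
            (((ModuleCat.restrictScalars.{u} (algebraMap R P)).mapIso
              (HomologicalComplex.singleObjXSelf (ComplexShape.up ℤ) 0 (resMod (P := P) A))).toLinearEquiv.trans
              { toFun := fun x => x
                invFun := fun x => x
                map_add' := fun _ _ => rfl
                map_smul' := fun t x => by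
                  show algebraMap P A (algebraMap R P t) * (show A from x) = t • (show A from x)
                  rw [← IsScalarTower.algebraMap_apply, Algebra.smul_def] })
        · haveI : Subsingleton (((DTen.resCx (algebraMap R P)).obj (sng 0 (resMod (P := P) A))).X i) :=
            ModuleCat.subsingleton_of_isZero ((ModuleCat.restrictScalars.{u} (algebraMap R P)).map_isZero
              (isZero_sng 0 (resMod (P := P) A) hi))
          exact Module.Flat.of_linearEquiv
            (M := PUnit.{u + 1}) (N := ((DTen.resCx (algebraMap R P)).obj (sng 0 (resMod (P := P) A))).X i) 0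
    exact inferInstanceAs (QuasiIso (_ ≫ _ ≫ _))
  let c₂ := (extC P P').map c ≫ (extOneIso P P').hom
  let β₂ := (extC P P').map β ≫ extHom P' F F'
  have hβ₂ : (HomotopyCategory.quotient (ModuleCat.{u} P') (ComplexShape.up ℤ)).map (β₂ ≫ DRing.homCxMap F₂ s₂) =
      (HomotopyCategory.quotient (ModuleCat.{u} P') (ComplexShape.up ℤ)).map
        (s₂ ≫ actHom ((extC A A').obj E) ≫ homCxPre π₂ ((DTen.resCx (algebraMap P' A')).obj ((extC A A').obj E))) := by
    have h1 : β₂ ≫ DRing.homCxMap F₂ s₂ = (extC P P').map (β ≫ DRing.homCxMap F s) ≫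
        (extHom P' F (Φ.obj E) ≫ DRing.homCxMap F₂ (cmIso P P' A A' E).hom) := by
      simp only [β₂, s₂, Functor.map_comp, Category.assoc, homCxMap_comp']
      rw [reassoc_of% (extHom_naturality P' F s)]
    have h2 : s₂ ≫ actHom ((extC A A').obj E) ≫ homCxPre π₂ _ = (extC P P').map (s ≫ α) ≫
        (extHom P' F (Φ.obj E) ≫ DRing.homCxMap F₂ (cmIso P P' A A' E).hom) := by
      simp only [s₂, α, Functor.map_comp, Category.assoc]
      have := act_compat P P' A A' π E
      simp only [Functor.map_comp, Category.assoc] at this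
      rw [this]
    rw [h1, h2, (HomotopyCategory.quotient (ModuleCat.{u} P') (ComplexShape.up ℤ)).map_comp,
      (HomotopyCategory.quotient (ModuleCat.{u} P') (ComplexShape.up ℤ)).map_comp]
    exact congrArg (fun t => CategoryStruct.comp t
      ((HomotopyCategory.quotient (ModuleCat.{u} P') (ComplexShape.up ℤ)).map
        (extHom P' F (Φ.obj E) ≫ DRing.homCxMap F₂ (cmIso P P' A A' E).hom)))
      (HomotopyCategory.eq_of_homotopy _ _ ((extF P P').mapHomotopy (HomotopyCategory.homotopyOfEq _ _ hβ)))
  have hu₂ : QuasiIso (β₂ ≫ DRing.homCxMap F₂ c₂) := by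
    have h1 : β₂ ≫ DRing.homCxMap F₂ c₂ = (extC P P').map (β ≫ DRing.homCxMap F c) ≫ extDual P' F := by
      simp only [β₂, c₂, extDual, Functor.map_comp, Category.assoc, homCxMap_comp']
      rw [reassoc_of% (extHom_naturality P' F c)]
    rw [h1]
    obtain ⟨⟨a, d, had⟩, hD⟩ := dualCx_bdd hF
    haveI := DTenLib.quasiIso_extCx_map (algebraMap P P') _ hu (isKFlat_of_projective hF'b hF'p)
      (isKFlat_of_projective (b := d) (fun i hi => had i (Or.inr hi)) fun i => (hD i).2)
    haveI := isIso_extDual P' F hF.2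
    exact inferInstanceAs (QuasiIso (_ ≫ _))
  have hco : IsCoind (algebraMap P' A') (Dual.inD P' P') (DRing.toD ((extC A A').obj E)) :=
    ⟨chainEval s₂ hs₂ c₂, (chain_criterion π₂ hπ₂ s₂ hs₂ c₂ β₂ hβ₂).2 hu₂⟩
  exact hco.of_iso (Iso.refl _) ((lbcIso (algebraMap A A') E (isKFlat_of_projective hEb hEp)).symm ≪≫
    (DRing.LBaseChange (algebraMap A A')).mapIso eE)

end Main

end Groth.Agent.ShriekAlgLib
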