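import Groth.Agent.DualCxLib.GorFibres
import Groth.Agent.DualCxLib.CoindDual
import Groth.Agent.DualCxLib.Gorenstein
import Groth.Agent.DualCxLib.Shift
import Groth.Prelude.Def_DualSh

/-!
# The upper shriek of a dualizing complex is dualizing
-/

set_option autoImplicit false
set_option backward.isDefEq.respectTransparency false
set_option linter.style.haveILetI false

universe u

open CategoryTheory
attribute [local instance] HasDerivedCategory.standard

noncomputable section

namespace Groth.Agent.ShriekAlgLib

theorem isDualizing_lbc_mvPolynomial (R : Type u) [CommRing R] [IsNoetherianRing R] (n : ℕ)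
    [DRing.HasLBaseChange (algebraMap R (MvPolynomial (Fin n) R))] {ω : Dual.D R} (hω : Dual.IsDualizing R ω) :
    Dual.IsDualizing (MvPolynomial (Fin n) R)
      ((DRing.LBaseChange (algebraMap R (MvPolynomial (Fin n) R))).obj ω) := by
  haveI : Algebra.Smooth R (MvPolynomial (Fin n) R) := ⟨inferInstance, inferInstance⟩
  obtain ⟨N, hN⟩ := DualCxLib.exists_fibre_dim_bound R (MvPolynomial (Fin n) R)
  exact DualCxLib.isDualizing_bcD_of_fibres R (MvPolynomial (Fin n) R) hω
    (fun p _ => DualCxLib.gorenstein_fibre_of_smooth R (MvPolynomial (Fin n) R) p) N (fun p _ => hN p)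

theorem isDualizing_shriekVia (R A : Type u) [CommRing R] [CommRing A] [IsNoetherianRing R] [IsNoetherianRing A]
    [Algebra R A] (n : ℕ) (ψ : MvPolynomial (Fin n) R →ₐ[R] A) (hψ : Function.Surjective ψ)
    [DRing.HasLBaseChange (algebraMap R (MvPolynomial (Fin n) R))]
    (Rψ : Dual.D (MvPolynomial (Fin n) R) ⥤ Dual.D A) (adj : DRing.restrictD ψ.toRingHom ⊣ Rψ)
    (ω : Dual.D R) (hω : Dual.IsDualizing R ω) : Dual.IsDualizing A (Dual2.shriekVia n Rψ ω) := by
  have h := isDualizing_lbc_mvPolynomial R n hω
  letI := ψ.toRingHom.toAlgebra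
  haveI : Module.Finite (MvPolynomial (Fin n) R) A :=
    Module.Finite.of_surjective (Algebra.linearMap (MvPolynomial (Fin n) R) A) hψ
  let S := DualCxLib.model h
  obtain ⟨c⟩ := S.rep.nonempty_coindIso A Rψ adj
  exact DualCxLib.isDualizing_shift (DualCxLib.isDualizing_of_iso c (S.isDualizing_coext A h)) _

end Groth.Agent.ShriekAlgLib
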