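import Groth.Agent.ShriekAlgLib.EndSelf
import Groth.Agent.ShriekAlgLib.CoindBC
import Groth.Agent.ShriekAlgLib.Dualizing

/-!
# Properties of the upper shriek of the base of a flat algebra
-/

set_option autoImplicit false
set_option backward.isDefEq.respectTransparency false
set_option linter.style.haveILetI false

universe u

open CategoryTheory CategoryTheory.Limits
open scoped TensorProduct
attribute [local instance] HasDerivedCategory.standard MvPolynomial.algebraMvPolynomial
  Algebra.TensorProduct.rightAlgebra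

noncomputable section

namespace Groth.Agent.ShriekAlgLib

open DRingLib DCohLib

theorem end_shriekVia_self (R A : Type u) [CommRing R] [CommRing A] [IsNoetherianRing R]
    [Algebra R A] [Module.Flat R A] (n : ℕ) (ψ : MvPolynomial (Fin n) R →ₐ[R] A) (hψ : Function.Surjective ψ)
    [DRing.HasLBaseChange (algebraMap R (MvPolynomial (Fin n) R))]
    (Rψ : Dual.D (MvPolynomial (Fin n) R) ⥤ Dual.D A) (adj : DRing.restrictD ψ.toRingHom ⊣ Rψ) :
    Function.Bijective (fun a : A => a • 𝟙 (Dual2.shriekVia n Rψ (Dual.inD R R))) ∧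
      ∀ i : ℤ, i ≠ 0 → Subsingleton (Dual2.shriekVia n Rψ (Dual.inD R R) ⟶
        (Dual2.shriekVia n Rψ (Dual.inD R R))⟦i⟧) := by
  let P := MvPolynomial (Fin n) R
  letI := ψ.toRingHom.toAlgebra
  obtain ⟨F, hFb, hF, ⟨eF⟩, ⟨eW⟩⟩ := exists_dual_model R A n ψ hψ Rψ adj
  obtain ⟨eL⟩ := nonempty_lbc_unit R P
  let V := Rψ.obj ((DRing.LBaseChange (algebraMap R P)).obj (Dual.inD R R))
  obtain ⟨h1, h2⟩ := end_coind hψ ((isCoind_of_adj adj _).of_iso eL (Iso.refl V)) ⟨⟨-(n : ℤ), 0, hFb⟩, hF⟩
    (fun i hi => hFb i (Or.inr hi)) eF eW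
  let k : ℤ := n
  refine ⟨?_, fun i hi => ?_⟩
  · have hfun : (fun a : A => a • 𝟙 (V⟦k⟧)) =
        (fun g : V ⟶ V => (shiftFunctor (Dual.D A) k).map g) ∘ (fun a : A => a • 𝟙 V) := by
      funext a
      show a • 𝟙 (V⟦k⟧) = (shiftFunctor (Dual.D A) k).map (a • 𝟙 V)
      rw [Functor.map_smul, CategoryTheory.Functor.map_id]
    show Function.Bijective fun a : A => a • 𝟙 (V⟦k⟧)
    rw [hfun]
    exact Function.Bijective.comp ⟨Functor.map_injective _, Functor.map_surjective _⟩ h1
  · haveI := h2 i hi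
    refine subsingleton_of_forall_eq 0 fun (g : V⟦k⟧ ⟶ V⟦k⟧⟦i⟧) => ?_
    obtain ⟨q, hq⟩ := (shiftFunctor (Dual.D A) k).map_surjective (g ≫ ((shiftFunctorComm (Dual.D A) k i).app V).hom)
    rw [Subsingleton.elim q 0, Functor.map_zero] at hq
    exact (cancel_mono ((shiftFunctorComm (Dual.D A) k i).app V).hom).1 (hq.symm.trans zero_comp.symm)

theorem isDualizing_bc_shriekVia_self (R A : Type u) [CommRing R] [CommRing A] [IsNoetherianRing R] [IsNoetherianRing A]
    [Algebra R A] [Module.Flat R A] (n : ℕ) (ψ : MvPolynomial (Fin n) R →ₐ[R] A) (hψ : Function.Surjective ψ)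
    [DRing.HasLBaseChange (algebraMap R (MvPolynomial (Fin n) R))]
    (Rψ : Dual.D (MvPolynomial (Fin n) R) ⥤ Dual.D A) (adj : DRing.restrictD ψ.toRingHom ⊣ Rψ)
    (k : Type u) [Field k] [Algebra R k] [DRing.HasLBaseChange (algebraMap A (k ⊗[R] A))] :
    Dual.IsDualizing (k ⊗[R] A) ((DRing.LBaseChange (algebraMap A (k ⊗[R] A))).obj
      (Dual2.shriekVia n Rψ (Dual.inD R R))) := by
  let P := MvPolynomial (Fin n) R
  let P' := MvPolynomial (Fin n) k
  let A' := k ⊗[R] A
  letI : Algebra P A := ψ.toRingHom.toAlgebra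
  haveI : IsScalarTower R P A := .of_algebraMap_eq fun r => (ψ.commutes r).symm
  let ψ'' : P' →ₐ[k] A' := MvPolynomial.aeval fun i => algebraMap A A' (ψ (MvPolynomial.X i))
  letI : Algebra P' A' := ψ''.toRingHom.toAlgebra
  letI : Algebra P A' := ((algebraMap A A').comp (algebraMap P A)).toAlgebra
  haveI : IsScalarTower P A A' := .of_algebraMap_eq fun _ => rfl
  haveI : IsScalarTower k P' A' := .of_algebraMap_eq fun r => (ψ''.commutes r).symm
  haveI : IsScalarTower R P A' := .of_algebraMap_eq fun r => by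
    rw [IsScalarTower.algebraMap_apply R A A', IsScalarTower.algebraMap_apply R P A]
    rfl
  haveI : IsScalarTower P P' A' := .of_algebraMap_eq fun p => by
    refine RingHom.congr_fun (f := algebraMap P A') (g := ψ''.toRingHom.comp (algebraMap P P')) ?_ p
    refine MvPolynomial.ringHom_ext (fun r => ?_) fun i => ?_
    · show algebraMap P A' (algebraMap R P r) = ψ'' (MvPolynomial.map (algebraMap R k) (MvPolynomial.C r))
      rw [← IsScalarTower.algebraMap_apply R P A', MvPolynomial.map_C, IsScalarTower.algebraMap_apply R k A']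
      exact (ψ''.commutes _).symm
    · show algebraMap A A' (ψ (MvPolynomial.X i)) = ψ'' (MvPolynomial.map (algebraMap R k) (MvPolynomial.X i))
      rw [MvPolynomial.map_X, MvPolynomial.aeval_X]
  haveI : IsScalarTower R P' A' := .of_algebraMap_eq fun r => by
    rw [IsScalarTower.algebraMap_apply R k A', IsScalarTower.algebraMap_apply R k P',
      ← IsScalarTower.algebraMap_apply k P' A']
  haveI hPA : Algebra.IsPushout P A P' A' :=
    (Algebra.IsPushout.comp_iff R P k (S' := P') (T := A) (T' := A')).1 inferInstance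
  haveI : Algebra.IsPushout P P' A A' := hPA.symm
  have hs : Function.Surjective ψ'' := by
    intro x
    induction x using TensorProduct.induction_on with
    | zero => exact ⟨0, map_zero ψ''⟩
    | tmul r a =>
      obtain ⟨p, rfl⟩ := hψ a
      refine ⟨algebraMap k P' r * algebraMap P P' p, ?_⟩
      rw [map_mul, show ψ'' (algebraMap P P' p) = algebraMap P A' p from
        (IsScalarTower.algebraMap_apply P P' A' p).symm, ψ''.commutes]
      show (r ⊗ₜ[R] (1 : A)) * ((1 : k) ⊗ₜ[R] ψ p) = r ⊗ₜ[R] ψ p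
      rw [Algebra.TensorProduct.tmul_mul_tmul, mul_one, one_mul]
    | add x y hx hy =>
      obtain ⟨p, rfl⟩ := hx
      obtain ⟨q, rfl⟩ := hy
      exact ⟨p + q, map_add ψ'' p q⟩
  haveI : IsNoetherianRing A' := isNoetherianRing_of_surjective P' A' ψ''.toRingHom hs
  obtain ⟨F, hFb, hF, ⟨eF⟩, -⟩ := exists_dual_model R A n ψ hψ Rψ adj
  obtain ⟨eL⟩ := nonempty_lbc_unit R P
  let V := Rψ.obj ((DRing.LBaseChange (algebraMap R P)).obj (Dual.inD R R))
  obtain ⟨⟨a, b, hab⟩, -⟩ := shriekVia_self_bounded R A n ψ hψ Rψ adj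
  have hV : AboveZero ((b + n) + 1) V := fun i hi => by
    haveI := hab (i - n) (Or.inr (by omega))
    have h : IsZero ((DerivedCategory.homologyFunctor (ModuleCat.{u} A) ((n : ℤ) + (i - n))).obj V) :=
      (ModuleCat.isZero_of_subsingleton _).of_iso (hdShiftIso A V n (i - n)).symm
    simpa using h
  obtain ⟨E, hEb, hEp, ⟨eE⟩⟩ := exists_proj_representative hV
  haveI : DRing.HasLBaseChange (algebraMap P P') := DRingLib.hasLBaseChange _
  haveI : DRing.HasLBaseChange (algebraMap k P') := DRingLib.hasLBaseChange _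
  haveI : Module.Flat R P := inferInstance
  have hc := isCoind_baseChange P P' A A' R k ⟨⟨-(n : ℤ), 0, hFb⟩, hF⟩ eF hEb hEp eE
    ((isCoind_of_adj adj _).of_iso eL (Iso.refl V))
  obtain ⟨eL'⟩ := nonempty_lbc_unit k P'
  obtain ⟨Rψ'', ⟨adj''⟩⟩ := exists_rightAdjoint ψ''.toRingHom
  obtain ⟨e⟩ := (isCoind_of_adj adj'' ((DRing.LBaseChange (algebraMap k P')).obj (Dual.inD k k))).unique
    (hc.of_iso eL'.symm (Iso.refl _))
  refine DualCxLib.isDualizing_of_iso ((shiftFunctor (Dual.D A') (n : ℤ)).mapIso e ≪≫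
    (DualCxLib.bcShiftIso A A' V n).symm) ?_
  exact isDualizing_shriekVia k A' n ψ'' hs Rψ'' adj'' _ DualCxLib.isDualizing_self_of_regular

end Groth.Agent.ShriekAlgLib
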