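import Groth.Agent.ShriekAlgLib.Invert
import Groth.Agent.ShriekAlgLib.Self
import Groth.Agent.GorLib.Ring
import Groth.Agent.DualCxLib.GorFibres
import Groth.Agent.DualCxLib.Unique

/-!
# Gorenstein fibres and invertibility of the relative dualizing complex
-/

set_option autoImplicit false
set_option backward.isDefEq.respectTransparency false
set_option linter.style.haveILetI false
set_option maxRecDepth 4000

universe u

open CategoryTheory CategoryTheory.Limits
open scoped TensorProduct
attribute [local instance] HasDerivedCategory.standard Algebra.TensorProduct.rightAlgebra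

noncomputable section

namespace Groth.Agent.ShriekAlgLib

open DRingLib DCohLib

section Point

variable (R A : Type u) [CommRing R] [CommRing A] [Algebra R A] (q : Ideal A) [q.IsPrime]

/-- The image prime. -/
abbrev baseP : Ideal R := q.comap (algebraMap R A)

/-- The residue field of the base. -/
abbrev baseK : Type u := (baseP R A q).ResidueField

/-- The fibre ring. -/
abbrev fibreA : Type u := baseK R A q ⊗[R] A

/-- The point of the fibre. -/
def fibrePt : fibreA R A q →ₐ[R] q.ResidueField :=
  Algebra.TensorProduct.lift (Ideal.ResidueField.mapₐ (baseP R A q) q (Algebra.ofId R A) rfl)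
    (IsScalarTower.toAlgHom R A q.ResidueField) fun _ _ => Commute.all _ _

theorem fibrePt_algebraMap (a : A) :
    fibrePt R A q (algebraMap A (fibreA R A q) a) = algebraMap A q.ResidueField a := by
  show fibrePt R A q ((1 : baseK R A q) ⊗ₜ a) = _
  rw [fibrePt, Algebra.TensorProduct.lift_tmul, map_one, one_mul]
  rfl

/-- The prime of the fibre ring. -/
abbrev fibreQ : Ideal (fibreA R A q) := RingHom.ker (fibrePt R A q).toRingHom

instance : (fibreQ R A q).IsPrime := RingHom.ker_isPrime _

theorem isUnit_fibrePt (y : (fibreQ R A q).primeCompl) : IsUnit ((fibrePt R A q).toRingHom y) :=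
  isUnit_iff_ne_zero.2 fun h => y.2 (RingHom.mem_ker.2 h)

/-- The local ring of the fibre maps to the residue field. -/
def localPt : Localization.AtPrime (fibreQ R A q) →+* q.ResidueField :=
  IsLocalization.lift (isUnit_fibrePt R A q)

theorem localPt_comp :
    (localPt R A q).comp (algebraMap (fibreA R A q) (Localization.AtPrime (fibreQ R A q))) =
      (fibrePt R A q).toRingHom :=
  IsLocalization.lift_comp (isUnit_fibrePt R A q)

theorem localPt_surjective : Function.Surjective (localPt R A q) := fun x => by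
  obtain ⟨x, rfl⟩ := IsLocalRing.residue_surjective x
  obtain ⟨a, ⟨s, hs⟩, rfl⟩ := IsLocalization.exists_mk'_eq q.primeCompl x
  have hne : algebraMap A q.ResidueField s ≠ 0 := fun h => hs (Ideal.algebraMap_residueField_eq_zero.1 h)
  have hs' : algebraMap A (fibreA R A q) s ∈ (fibreQ R A q).primeCompl := fun h => hne (by
    rw [← fibrePt_algebraMap R A q s]
    exact h)
  refine ⟨IsLocalization.mk' _ (algebraMap A (fibreA R A q) a) ⟨_, hs'⟩, ?_⟩
  rw [localPt, IsLocalization.lift_mk'_spec]
  show (fibrePt R A q) (algebraMap A (fibreA R A q) a) = (fibrePt R A q) (algebraMap A (fibreA R A q) s) * _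
  rw [fibrePt_algebraMap, fibrePt_algebraMap, IsScalarTower.algebraMap_apply A (Localization.AtPrime q) q.ResidueField,
    IsScalarTower.algebraMap_apply A (Localization.AtPrime q) q.ResidueField]
  show IsLocalRing.residue _ _ = IsLocalRing.residue _ _ * IsLocalRing.residue _ _
  rw [← map_mul, mul_comm (algebraMap A (Localization.AtPrime q) s), IsLocalization.mk'_spec]

theorem fibrePt_comp :
    (fibrePt R A q).toRingHom.comp (algebraMap A (fibreA R A q)) = algebraMap A q.ResidueField :=
  RingHom.ext (fibrePt_algebraMap R A q)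

end Point

theorem eq_fibreQ (R A : Type u) [CommRing R] [CommRing A] [Algebra R A] (p : PrimeSpectrum R)
    (Q : Ideal (p.asIdeal.ResidueField ⊗[R] A)) [Q.IsPrime] :
    ∃ (q : Ideal A) (_ : q.IsPrime), baseP R A q = p.asIdeal ∧ q = Q.comap (algebraMap A _) ∧
      ∀ (h : baseP R A q = p.asIdeal), Q = RingHom.ker
        ((Algebra.TensorProduct.lift
          (Ideal.ResidueField.mapₐ p.asIdeal q (Algebra.ofId R A) h.symm)
          (IsScalarTower.toAlgHom R A q.ResidueField) fun _ _ => Commute.all _ _).toRingHom) := by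
  let q : Ideal A := Q.comap (algebraMap A (p.asIdeal.ResidueField ⊗[R] A))
  refine ⟨q, inferInstance, ?_, rfl, fun h => ?_⟩
  · have h1 : baseP R A q = (Q.comap (algebraMap p.asIdeal.ResidueField
        (p.asIdeal.ResidueField ⊗[R] A))).comap (algebraMap R p.asIdeal.ResidueField) := by
      simp only [baseP, q, Ideal.comap_comap, ← IsScalarTower.algebraMap_eq]
    rw [h1, Ideal.eq_bot_of_prime (Q.comap (algebraMap p.asIdeal.ResidueField _)), ← RingHom.ker_eq_comap_bot,
      Ideal.ker_algebraMap_residueField]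
  · let ℓ := Algebra.TensorProduct.lift
      (Ideal.ResidueField.mapₐ p.asIdeal q (Algebra.ofId R A) h.symm)
      (IsScalarTower.toAlgHom R A q.ResidueField) fun _ _ => Commute.all _ _
    let g : q.ResidueField →ₐ[R] Q.ResidueField :=
      Ideal.ResidueField.mapₐ q Q (IsScalarTower.toAlgHom R A (p.asIdeal.ResidueField ⊗[R] A)) rfl
    have hg : g.comp ℓ = IsScalarTower.toAlgHom R (p.asIdeal.ResidueField ⊗[R] A) Q.ResidueField := by
      refine Algebra.TensorProduct.ext ?_ ?_
      · exact AlgHom.coe_ringHom_injective (Ideal.ResidueField.ringHom_ext (RingHom.ext fun r => by simp))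
      · refine AlgHom.ext fun a => ?_
        show g (ℓ ((1 : p.asIdeal.ResidueField) ⊗ₜ a)) = algebraMap _ Q.ResidueField (algebraMap A _ a)
        simp only [ℓ, Algebra.TensorProduct.lift_tmul, map_one, one_mul, g, IsScalarTower.coe_toAlgHom',
          Ideal.ResidueField.mapₐ_apply]
        exact Ideal.ResidueField.map_algebraMap _ _ _ _ a
    refine Eq.trans (b := RingHom.ker (algebraMap (p.asIdeal.ResidueField ⊗[R] A) Q.ResidueField)) ?_ (Ideal.ext fun x => ?_)
    · exact (Ideal.ker_algebraMap_residueField Q).symm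
    · rw [RingHom.mem_ker, RingHom.mem_ker]
      refine Iff.trans (Eq.to_iff (congrArg (· = 0) (congr($hg x)).symm)) ?_
      exact map_eq_zero g.toRingHom

theorem invertible_iff_gorenstein_point (R A : Type u) [CommRing R] [CommRing A] [IsNoetherianRing R]
    [IsNoetherianRing A] [Algebra R A] [Module.Flat R A] (n : ℕ) (ψ : MvPolynomial (Fin n) R →ₐ[R] A)
    (hψ : Function.Surjective ψ) [DRing.HasLBaseChange (algebraMap R (MvPolynomial (Fin n) R))]
    (Rψ : Dual.D (MvPolynomial (Fin n) R) ⥤ Dual.D A) (adj : DRing.restrictD ψ.toRingHom ⊣ Rψ)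
    [hL : ∀ f : A, DRing.HasLBaseChange (algebraMap A (Localization.Away f))] (q : Ideal A) [q.IsPrime] :
    LocCoh.IsGorensteinLocalRing (Localization.AtPrime (fibreQ R A q)) ↔
      ∃ (f : A) (_ : f ∉ q) (m : ℤ), Nonempty ((DRing.LBaseChange (algebraMap A (Localization.Away f))).obj
        (Dual2.shriekVia n Rψ (Dual.inD R R)) ≅ (Dual.inD (Localization.Away f) (Localization.Away f))⟦m⟧) := by
  let ω := Dual2.shriekVia n Rψ (Dual.inD R R)
  let A' := fibreA R A q
  let Aq := Localization.AtPrime q
  let AQ := Localization.AtPrime (fibreQ R A q)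
  let κ := q.ResidueField
  haveI : DRing.HasLBaseChange (algebraMap A A') := DRingLib.hasLBaseChange _
  haveI : DRing.HasLBaseChange (algebraMap A' AQ) := DRingLib.hasLBaseChange _
  haveI : DRing.HasLBaseChange (algebraMap A Aq) := DRingLib.hasLBaseChange _
  haveI : DRing.HasLBaseChange (algebraMap A κ) := DRingLib.hasLBaseChange _
  haveI : DRing.HasLBaseChange (algebraMap Aq κ) := DRingLib.hasLBaseChange _
  haveI : DRing.HasLBaseChange (localPt R A q) := DRingLib.hasLBaseChange _
  haveI : DRing.HasLBaseChange (fibrePt R A q).toRingHom := DRingLib.hasLBaseChange _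
  have hω' := isDualizing_bc_shriekVia_self R A n ψ hψ Rψ adj (baseK R A q)
  haveI : IsNoetherianRing A' := hω'.isNoetherianRing
  haveI : IsNoetherianRing AQ := IsLocalization.isNoetherianRing (fibreQ R A q).primeCompl AQ ‹_›
  have hQ := DualCxLib.isDualizing_lbc (fibreQ R A q).primeCompl AQ hω'
  obtain ⟨c1⟩ := nonempty_lbc_comp' (algebraMap A' AQ) (localPt R A q) (fibrePt R A q).toRingHom
    (localPt_comp R A q) ((DRing.LBaseChange (algebraMap A A')).obj ω)
  obtain ⟨c2⟩ := nonempty_lbc_comp' (algebraMap A A') (fibrePt R A q).toRingHom (algebraMap A κ)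
    (fibrePt_comp R A q) ω
  obtain ⟨c3⟩ := nonempty_lbc_comp' (algebraMap A Aq) (algebraMap Aq κ) (algebraMap A κ)
    (IsScalarTower.algebraMap_eq A Aq κ).symm ω
  obtain ⟨⟨a, b, hab⟩, hfin⟩ := shriekVia_self_bounded R A n ψ hψ Rψ adj
  constructor
  · intro hG
    obtain ⟨m, ⟨e⟩⟩ := DualCxLib.exists_shift_iso (DualCxLib.isGorensteinLocalRing_iff.1 hG) hQ
    obtain ⟨u⟩ := nonempty_lbc_shift_unit (localPt R A q) m
    let eκ : (DRing.LBaseChange (algebraMap A κ)).obj ω ≅ (Dual.inD κ κ)⟦m⟧ :=
      c2.symm ≪≫ c1.symm ≪≫ (DRing.LBaseChange (localPt R A q)).mapIso e ≪≫ u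
    haveI : IsNoetherianRing Aq := IsLocalization.isNoetherianRing q.primeCompl Aq ‹_›
    obtain ⟨eq⟩ := nonempty_iso_of_fibre (A := Aq) (K := (DRing.LBaseChange (algebraMap A Aq)).obj ω)
      ⟨b, fun i hi => by
        obtain ⟨ei⟩ := DualCxLib.nonempty_HD_lbc q.primeCompl Aq ω i
        haveI := hab i (Or.inr hi)
        exact ei.injective.subsingleton⟩
      (fun i => DualCxLib.finite_HD_lbc q.primeCompl Aq (hfin i))
      (algebraMap Aq κ) IsLocalRing.residue_surjective m (c3 ≪≫ eκ)
    obtain ⟨f, hf, h⟩ := exists_away_of_localization a b hab hfin q m eq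
    exact ⟨f, hf, m, h⟩
  · rintro ⟨f, hf, m, ⟨e⟩⟩
    let Af := Localization.Away f
    have hu : IsUnit (algebraMap A κ f) :=
      isUnit_iff_ne_zero.2 fun h => hf (Ideal.algebraMap_residueField_eq_zero.1 h)
    let χ : Af →+* κ := IsLocalization.Away.lift f hu
    haveI : DRing.HasLBaseChange χ := DRingLib.hasLBaseChange _
    obtain ⟨c4⟩ := nonempty_lbc_comp' (algebraMap A Af) χ (algebraMap A κ) (IsLocalization.Away.lift_comp f hu) ω
    obtain ⟨u⟩ := nonempty_lbc_shift_unit χ m
    haveI := (DualCxLib.model hQ).isLE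
    obtain ⟨eQ⟩ := nonempty_iso_of_fibre (A := AQ)
      (K := (DRing.LBaseChange (algebraMap A' AQ)).obj ((DRing.LBaseChange (algebraMap A A')).obj ω))
      ⟨(DualCxLib.model hQ).b, fun i hi => ModuleCat.subsingleton_of_isZero (DerivedCategory.isZero_of_isLE _ _ i hi)⟩
      hQ.finite_cohomology (localPt R A q) (localPt_surjective R A q) m
      (c1 ≪≫ c2 ≪≫ c4.symm ≪≫ (DRing.LBaseChange χ).mapIso e ≪≫ u)
    refine DualCxLib.isGorensteinLocalRing_iff.2 (DualCxLib.isDualizing_of_iso ?_ (DualCxLib.isDualizing_shift hQ (-m)))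
    exact (shiftFunctor (Dual.D AQ) (-m)).mapIso eQ ≪≫
      (shiftFunctorCompIsoId (Dual.D AQ) m (-m) (add_neg_cancel m)).app (Dual.inD AQ AQ)

theorem gorenstein_fibres_iff_invertible (R A : Type u) [CommRing R] [CommRing A] [IsNoetherianRing R]
    [IsNoetherianRing A] [Algebra R A] [Module.Flat R A] (n : ℕ) (ψ : MvPolynomial (Fin n) R →ₐ[R] A)
    (hψ : Function.Surjective ψ) [DRing.HasLBaseChange (algebraMap R (MvPolynomial (Fin n) R))]
    (Rψ : Dual.D (MvPolynomial (Fin n) R) ⥤ Dual.D A) (adj : DRing.restrictD ψ.toRingHom ⊣ Rψ)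
    [hL : ∀ f : A, DRing.HasLBaseChange (algebraMap A (Localization.Away f))] :
    (∀ p : PrimeSpectrum R, LocCoh.IsGorensteinRing (A ⊗[R] p.asIdeal.ResidueField)) ↔
      ∀ q : PrimeSpectrum A, ∃ (f : A) (_ : f ∉ q.asIdeal) (m : ℤ),
        Nonempty ((DRing.LBaseChange (algebraMap A (Localization.Away f))).obj
          (Dual2.shriekVia n Rψ (Dual.inD R R)) ≅ (Dual.inD (Localization.Away f) (Localization.Away f))⟦m⟧) := by
  refine ⟨fun hG q => ?_, fun h p => ?_⟩
  · have hG' : LocCoh.IsGorensteinRing (fibreA R A q.asIdeal) := GorLib.gorensteinRing_of_ringEquiv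
      (Algebra.TensorProduct.comm R A (baseK R A q.asIdeal)).toRingEquiv (hG ⟨baseP R A q.asIdeal, inferInstance⟩)
    exact (invertible_iff_gorenstein_point R A n ψ hψ Rψ adj q.asIdeal).1
      (hG'.isGorensteinLocalRing_localization _)
  · haveI : DRing.HasLBaseChange (algebraMap A (p.asIdeal.ResidueField ⊗[R] A)) := DRingLib.hasLBaseChange _
    have hω' := isDualizing_bc_shriekVia_self R A n ψ hψ Rψ adj p.asIdeal.ResidueField
    haveI : IsNoetherianRing (p.asIdeal.ResidueField ⊗[R] A) := hω'.isNoetherianRing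
    haveI : LocCoh.IsGorensteinRing (p.asIdeal.ResidueField ⊗[R] A) :=
      { isGorensteinLocalRing_localization := fun Q _ => by
          obtain ⟨q, hq, hbase, -, hker⟩ := eq_fibreQ R A p Q
          obtain ⟨p, hp⟩ := p
          change baseP R A q = p at hbase
          subst hbase
          have hGQ := (invertible_iff_gorenstein_point R A n ψ hψ Rψ adj q).2 (h ⟨q, hq⟩)
          obtain rfl : Q = fibreQ R A q := hker rfl
          exact hGQ }
    exact GorLib.gorensteinRing_of_ringEquiv (Algebra.TensorProduct.comm R p.asIdeal.ResidueField A).toRingEquiv ‹_›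

end Groth.Agent.ShriekAlgLib
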