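import Groth.Agent.ShriekAlgLib.Reg
import Groth.Agent.DRingLib.BaseChangeAdj
import Groth.Agent.DRingLib.DescentPC
import Groth.Prelude.Def_DualSh
import Mathlib.RingTheory.RingHom.Flat
import Mathlib.Algebra.MvPolynomial.Equiv

/-!
# `RHom(P, -)` along sections of polynomial rings, and independence of presentations
-/

set_option autoImplicit false
set_option backward.isDefEq.respectTransparency false
set_option linter.style.haveILetI false

universe u

open CategoryTheory Limits Pretriangulated
attribute [local instance] HasDerivedCategory.standard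

noncomputable section

namespace Groth.Agent.ShriekAlgLib

variable {A B C : Type u} [CommRing A] [CommRing B] [CommRing C]

theorem nonempty_lbc_comp' (φ : A →+* B) (ψ : B →+* C) (χ : A →+* C) (h : ψ.comp φ = χ) [DRing.HasLBaseChange φ]
    [DRing.HasLBaseChange ψ] [DRing.HasLBaseChange χ] (K : Dual.D A) :
    Nonempty ((DRing.LBaseChange ψ).obj ((DRing.LBaseChange φ).obj K) ≅ (DRing.LBaseChange χ).obj K) := by
  subst h
  exact DRingLib.nonempty_lbc_comp φ ψ K

/-- Base change along an isomorphism is restriction along its inverse. -/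
theorem nonempty_lbc_of_bijective (φ : A →+* B) (g : B →+* A) (hφg : φ.comp g = RingHom.id B)
    (hgφ : g.comp φ = RingHom.id A) [DRing.HasLBaseChange φ] (K : Dual.D A) :
    Nonempty ((DRing.LBaseChange φ).obj K ≅ (DRing.restrictD g).obj K) := by
  let e : DRing.restrictD g ⋙ DRing.restrictD φ ≅ 𝟭 (Dual.D A) :=
    resDComp φ g (RingHom.id A) hgφ.symm ≪≫ resDId _ rfl
  let e' : DRing.restrictD φ ⋙ DRing.restrictD g ≅ 𝟭 (Dual.D B) :=
    resDComp g φ (RingHom.id B) hφg.symm ≪≫ resDId _ rfl
  exact ⟨((DRingLib.lbcAdj φ).leftAdjointUniq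
    (CategoryTheory.Equivalence.mk (DRing.restrictD g) (DRing.restrictD φ) e.symm e').toAdjunction).app K⟩

theorem isCoind_lbc_of_bijective {f : A →+* B} (g : B →+* A) (hfg : f.comp g = RingHom.id B)
    (hgf : g.comp f = RingHom.id A) [DRing.HasLBaseChange g] (K : Dual.D B) :
    IsCoind f ((DRing.LBaseChange g).obj K) K := by
  obtain ⟨e⟩ := nonempty_lbc_of_bijective g f hgf hfg K
  exact (IsCoind.of_bijective g hfg hgf K).of_iso e.symm (Iso.refl _)

/-- Composition of shifts. -/
def shiftAddIso (K : Dual.D A) (a b c : ℤ) (h : a + b = c) : (K⟦a⟧)⟦b⟧ ≅ K⟦c⟧ :=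
  ((shiftFunctorAdd' (Dual.D A) a b c h).app K).symm

/-- `RHom(P, K ⊗_P P[x])[n] = K` along any section of a polynomial ring. -/
theorem isCoind_aeval {P : Type u} [CommRing P] : ∀ (n : ℕ) (c : Fin n → P)
    [DRing.HasLBaseChange (MvPolynomial.C : P →+* MvPolynomial (Fin n) P)] (K : Dual.D P),
    IsCoind (MvPolynomial.eval c)
      ((DRing.LBaseChange (MvPolynomial.C : P →+* MvPolynomial (Fin n) P)).obj K) (K⟦(-n : ℤ)⟧)
  | 0, c, _, K => by
    refine (isCoind_lbc_of_bijective MvPolynomial.C (RingHom.ext fun x => MvPolynomial.eval_C x)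
      (MvPolynomial.ringHom_ext (fun x => ?_) fun i => i.elim0) K).of_iso (Iso.refl _)
        ((shiftFunctorZero' (Dual.D P) (-(0 : ℕ) : ℤ) (by simp)).app K).symm
    simp
  | n + 1, c, _, K => by
    let Q' := MvPolynomial (Fin n) P
    let Q := MvPolynomial (Fin (n + 1)) P
    let e := MvPolynomial.finSuccEquiv P n
    let ι : Q' →+* Q := e.symm.toRingEquiv.toRingHom.comp Polynomial.C
    let g : Q →+* Q' := (Polynomial.evalRingHom (MvPolynomial.C (c 0))).comp e.toRingEquiv.toRingHom
    let a : Q := e.symm (Polynomial.X - Polynomial.C (MvPolynomial.C (c 0)))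
    have hgι : g.comp ι = RingHom.id Q' := RingHom.ext fun x => by
      show Polynomial.eval _ (e (e.symm (Polynomial.C x))) = x
      rw [e.apply_symm_apply, Polynomial.eval_C]
    have hfl : Module.Flat Q' (Groth.Agent.DTenLib.baseMod ι) := by
      letI := ι.toAlgebra
      have h1 : ι.Flat := RingHom.Flat.comp
        (RingHom.flat_algebraMap_iff.2 (inferInstanceAs (Module.Flat Q' (Polynomial Q'))))
        (RingHom.Flat.of_bijective e.symm.bijective)
      haveI : Module.Flat Q' Q := h1
      exact DRingLib.flat_baseMod Q' Q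
    have ha : IsSMulRegular Q a := fun x y h => by
      have h' : a * x = a * y := h
      have := congrArg e h'
      rw [map_mul, map_mul, e.apply_symm_apply] at this
      exact e.injective ((Polynomial.monic_X_sub_C _).isRegular.left this)
    have hker : RingHom.ker g = Ideal.span {a} := by
      ext x
      rw [RingHom.mem_ker, Ideal.mem_span_singleton]
      refine (Polynomial.dvd_iff_isRoot (p := e x) (a := MvPolynomial.C (c 0))).symm.trans ?_
      constructor
      · rintro ⟨q, hq⟩
        exact ⟨e.symm q, e.injective (by rw [map_mul, e.apply_symm_apply, e.apply_symm_apply]; exact hq)⟩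
      · rintro ⟨q, rfl⟩
        exact ⟨e q, by rw [map_mul, e.apply_symm_apply]⟩
    haveI : DRing.HasLBaseChange ι := DRingLib.hasLBaseChange _
    haveI : DRing.HasLBaseChange (MvPolynomial.C : P →+* Q') := DRingLib.hasLBaseChange _
    let L := (DRing.LBaseChange (MvPolynomial.C : P →+* Q')).obj K
    have hg := isCoind_section ι g hgι hfl ha hker L
    have hn := (isCoind_aeval n (fun i => c i.succ) K).shift (-1)
    obtain ⟨eb⟩ := nonempty_lbc_comp' (MvPolynomial.C : P →+* Q') ι (MvPolynomial.C : P →+* Q) (RingHom.ext fun x => by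
      show e.symm (Polynomial.C (MvPolynomial.C x)) = MvPolynomial.C x
      rw [AlgEquiv.symm_apply_eq]
      exact (e.commutes x).symm) K
    refine (hg.comp (h := MvPolynomial.eval c) (MvPolynomial.ringHom_ext (fun x => ?_) fun i => ?_) hn).of_iso eb
      (shiftAddIso K _ _ _ (by push_cast; ring))
    · show MvPolynomial.eval c (MvPolynomial.C x) = MvPolynomial.eval (fun i : Fin n => c i.succ)
        (Polynomial.eval (MvPolynomial.C (c 0)) (e (algebraMap P Q x)))
      rw [e.commutes]
      show _ = MvPolynomial.eval (fun i : Fin n => c i.succ)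
        (Polynomial.eval (MvPolynomial.C (c 0)) (Polynomial.C (MvPolynomial.C x)))
      rw [Polynomial.eval_C, MvPolynomial.eval_C, MvPolynomial.eval_C]
    · show MvPolynomial.eval c (MvPolynomial.X i) = MvPolynomial.eval (fun i : Fin n => c i.succ)
        (Polynomial.eval (MvPolynomial.C (c 0)) (e (MvPolynomial.X i)))
      refine Fin.cases ?_ (fun j => ?_) i
      · rw [MvPolynomial.finSuccEquiv_X_zero, Polynomial.eval_X, MvPolynomial.eval_C, MvPolynomial.eval_X]
      · rw [MvPolynomial.finSuccEquiv_X_succ, Polynomial.eval_C, MvPolynomial.eval_X, MvPolynomial.eval_X]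

/-- Adding variables to a presentation shifts `RHom`. -/
theorem isCoind_extend {P A' : Type u} [CommRing P] [CommRing A'] {ψ : P →+* A'} {L : Dual.D P} {M : Dual.D A'}
    (hM : IsCoind ψ L M) (m : ℕ) (c : Fin m → P)
    [DRing.HasLBaseChange (MvPolynomial.C : P →+* MvPolynomial (Fin m) P)] :
    IsCoind (ψ.comp (MvPolynomial.eval c))
      ((DRing.LBaseChange (MvPolynomial.C : P →+* MvPolynomial (Fin m) P)).obj L) (M⟦(-m : ℤ)⟧) :=
  (isCoind_aeval m c L).comp rfl (hM.shift _)

theorem shriekVia_independent (R A' : Type u) [CommRing R] [CommRing A'] [Algebra R A'] (n : ℕ)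
    (ψ : MvPolynomial (Fin n) R →ₐ[R] A') (hψ : Function.Surjective ψ)
    [DRing.HasLBaseChange (algebraMap R (MvPolynomial (Fin n) R))]
    (Rψ : Dual.D (MvPolynomial (Fin n) R) ⥤ Dual.D A') (adj : DRing.restrictD ψ.toRingHom ⊣ Rψ) (m : ℕ)
    (ψ' : MvPolynomial (Fin m) R →ₐ[R] A') (hψ' : Function.Surjective ψ')
    [DRing.HasLBaseChange (algebraMap R (MvPolynomial (Fin m) R))]
    (Rψ' : Dual.D (MvPolynomial (Fin m) R) ⥤ Dual.D A') (adj' : DRing.restrictD ψ'.toRingHom ⊣ Rψ') (K : Dual.D R) :
    Nonempty (Dual2.shriekVia n Rψ K ≅ Dual2.shriekVia m Rψ' K) := by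
  let P := MvPolynomial (Fin n) R
  let P' := MvPolynomial (Fin m) R
  let Q := MvPolynomial (Fin m) P
  let Q' := MvPolynomial (Fin n) P'
  choose c hc using fun j => hψ (ψ' (MvPolynomial.X j))
  choose c' hc' using fun i => hψ' (ψ (MvPolynomial.X i))
  haveI : DRing.HasLBaseChange (MvPolynomial.C : P →+* Q) := DRingLib.hasLBaseChange _
  haveI : DRing.HasLBaseChange (MvPolynomial.C : P' →+* Q') := DRingLib.hasLBaseChange _
  haveI : DRing.HasLBaseChange (algebraMap R Q) := DRingLib.hasLBaseChange _
  haveI : DRing.HasLBaseChange (algebraMap R Q') := DRingLib.hasLBaseChange _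
  let M := Rψ.obj ((DRing.LBaseChange (algebraMap R P)).obj K)
  let M' := Rψ'.obj ((DRing.LBaseChange (algebraMap R P')).obj K)
  obtain ⟨eQ⟩ := nonempty_lbc_comp' (algebraMap R P) (MvPolynomial.C : P →+* Q) (algebraMap R Q)
    (IsScalarTower.algebraMap_eq R P Q).symm K
  obtain ⟨eQ'⟩ := nonempty_lbc_comp' (algebraMap R P') (MvPolynomial.C : P' →+* Q') (algebraMap R Q')
    (IsScalarTower.algebraMap_eq R P' Q').symm K
  have h1 := (isCoind_extend (isCoind_of_adj adj _) m c).of_iso eQ (Iso.refl _)
  have h2 := (isCoind_extend (isCoind_of_adj adj' _) n c').of_iso eQ' (Iso.refl _)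
  let σ : Q ≃ₐ[R] Q' := MvPolynomial.commAlgEquiv R (Fin m) (Fin n)
  haveI : DRing.HasLBaseChange σ.toRingEquiv.toRingHom := DRingLib.hasLBaseChange _
  obtain ⟨eσ⟩ := nonempty_lbc_comp' (algebraMap R Q) σ.toRingEquiv.toRingHom (algebraMap R Q')
    (RingHom.ext σ.commutes) K
  have h3 := (isCoind_lbc_of_bijective (f := σ.symm.toRingEquiv.toRingHom) σ.toRingEquiv.toRingHom
    (RingHom.ext σ.symm_apply_apply) (RingHom.ext σ.apply_symm_apply)
    ((DRing.LBaseChange (algebraMap R Q)).obj K)).of_iso eσ (Iso.refl _)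
  have h4 := h3.comp (h := ψ'.toRingHom.comp (MvPolynomial.eval c')) ?_ h1
  · obtain ⟨e⟩ := h4.unique h2
    exact ⟨(shiftAddIso M (-m : ℤ) ((n : ℤ) + m) n (by ring)).symm ≪≫
      (shiftFunctor (Dual.D A') ((n : ℤ) + m)).mapIso e ≪≫ shiftAddIso M' (-n : ℤ) ((n : ℤ) + m) m (by ring)⟩
  · have h5 : (ψ.toRingHom.comp (MvPolynomial.eval c)) = (ψ'.toRingHom.comp (MvPolynomial.eval c')).comp σ.toRingEquiv.toRingHom := by
      refine MvPolynomial.ringHom_ext (fun p => ?_) fun j => ?_
      · show ψ (MvPolynomial.eval c (MvPolynomial.C p)) = ψ' (MvPolynomial.eval c' (σ (MvPolynomial.C p)))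
        rw [MvPolynomial.eval_C, MvPolynomial.commAlgEquiv_C]
        induction p using MvPolynomial.induction_on with
        | C r =>
          rw [MvPolynomial.map_C, MvPolynomial.eval_C]
          exact (ψ.commutes r).trans (ψ'.commutes r).symm
        | add p q hp hq => rw [map_add, map_add, map_add, map_add, hp, hq]
        | mul_X p i hp =>
          rw [map_mul, map_mul, map_mul, map_mul, hp, MvPolynomial.map_X, MvPolynomial.eval_X, hc']
      · show ψ (MvPolynomial.eval c (MvPolynomial.X j)) = ψ' (MvPolynomial.eval c' (σ (MvPolynomial.X j)))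
        rw [MvPolynomial.eval_X, hc, MvPolynomial.commAlgEquiv_X, MvPolynomial.eval_C]
    refine RingHom.ext fun x => ?_
    show ψ' (MvPolynomial.eval c' x) = ψ (MvPolynomial.eval c (σ.symm x))
    exact ((RingHom.congr_fun h5 (σ.symm x)).trans (by
      show ψ' (MvPolynomial.eval c' (σ (σ.symm x))) = _
      rw [σ.apply_symm_apply])).symm

end Groth.Agent.ShriekAlgLib
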