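import Groth.Agent.ShriekAlgLib.Coext
import Groth.Agent.ShriekAlgLib.Poly

/-!
# The right adjoint of restriction of scalars; comparison with one presentation
-/

set_option autoImplicit false
set_option backward.isDefEq.respectTransparency false
set_option linter.style.haveILetI false

universe u

open CategoryTheory Limits
attribute [local instance] HasDerivedCategory.standard

noncomputable section

namespace Groth.Agent.ShriekAlgLib

theorem exists_rightAdjoint {A B : Type u} [CommRing A] [CommRing B] (f : A →+* B) :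
    ∃ R : Dual.D A ⥤ Dual.D B, Nonempty (DRing.restrictD f ⊣ R) := by
  choose L ε hε using fun K => exists_isCoind f K
  let e : ∀ X Y, ((DRing.restrictD f).obj X ⟶ Y) ≃ (X ⟶ L Y) := fun X Y => (Equiv.ofBijective _ (hε Y X)).symm
  have he : ∀ X' X Y (φ : X' ⟶ X) (g : (DRing.restrictD f).obj X ⟶ Y),
      e X' Y ((DRing.restrictD f).map φ ≫ g) = φ ≫ e X Y g := fun X' X Y φ g => by
    refine (hε Y X').1 ?_
    show (DRing.restrictD f).map ((Equiv.ofBijective _ (hε Y X')).symm ((DRing.restrictD f).map φ ≫ g)) ≫ ε Y =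
      (DRing.restrictD f).map (φ ≫ (Equiv.ofBijective _ (hε Y X)).symm g) ≫ ε Y
    rw [Functor.map_comp, Category.assoc]
    exact ((Equiv.ofBijective _ (hε Y X')).apply_symm_apply _).trans
      (congrArg ((DRing.restrictD f).map φ ≫ ·) ((Equiv.ofBijective _ (hε Y X)).apply_symm_apply g)).symm
  exact ⟨_, ⟨Adjunction.adjunctionOfEquivRight e he⟩⟩

/-- The upper shriek computed from any presentation. -/
theorem shriekVia_iso_of_isCoind {R A' : Type u} [CommRing R] [CommRing A'] [Algebra R A'] (n : ℕ)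
    (ψ : MvPolynomial (Fin n) R →ₐ[R] A') (hψ : Function.Surjective ψ)
    [DRing.HasLBaseChange (algebraMap R (MvPolynomial (Fin n) R))]
    (Rψ : Dual.D (MvPolynomial (Fin n) R) ⥤ Dual.D A') (adj : DRing.restrictD ψ.toRingHom ⊣ Rψ) (m : ℕ)
    (ψ' : MvPolynomial (Fin m) R →ₐ[R] A') (hψ' : Function.Surjective ψ')
    [DRing.HasLBaseChange (algebraMap R (MvPolynomial (Fin m) R))] (K : Dual.D R) (Z : Dual.D A')
    (hZ : IsCoind ψ'.toRingHom ((DRing.LBaseChange (algebraMap R (MvPolynomial (Fin m) R))).obj K) Z) :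
    Nonempty (Dual2.shriekVia n Rψ K ≅ Z⟦(m : ℤ)⟧) := by
  obtain ⟨Rψ', ⟨adj'⟩⟩ := exists_rightAdjoint ψ'.toRingHom
  obtain ⟨e⟩ := shriekVia_independent R A' n ψ hψ Rψ adj m ψ' hψ' Rψ' adj' K
  obtain ⟨e'⟩ := hZ.iso_adj adj'
  exact ⟨e ≪≫ (shiftFunctor (Dual.D A') (m : ℤ)).mapIso e'⟩

end Groth.Agent.ShriekAlgLib
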