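import Groth.Agent.ShriekAlgLib.Finite
import Groth.Agent.ShriekAlgLib.RightAdj
import Mathlib.RingTheory.Polynomial.Basic

/-!
# The upper shriek of a composition
-/

set_option autoImplicit false
set_option backward.isDefEq.respectTransparency false
set_option linter.style.haveILetI false

universe u

open CategoryTheory Limits
attribute [local instance] HasDerivedCategory.standard MvPolynomial.algebraMvPolynomial

noncomputable section

namespace Groth.Agent.ShriekAlgLib

open DRingLib DCohLib DTenLib DualCxLib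

theorem isLE_toD_sng {P : Type u} [CommRing P] (k : ℤ) (M : ModuleCat.{u} P) :
    DerivedCategory.IsLE (DRing.toD (sng k M)) k := by
  haveI : CochainComplex.IsStrictlyLE (sng k M) k :=
    (CochainComplex.isStrictlyLE_iff _ _).2 fun i hi => isZero_sng k M (by omega)
  infer_instance

theorem finite_HD_sng {P : Type u} [CommRing P] (k : ℤ) (M : ModuleCat.{u} P) [Module.Finite P M] (j : ℤ) :
    Module.Finite P (Dual.HD P (DRing.toD (sng k M)) j) := by
  let eP := ((DerivedCategory.homologyFunctorFactors (ModuleCat.{u} P) j).app (sng k M)).toLinearEquiv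
  by_cases hj : j = k
  · subst hj
    exact Module.Finite.equiv ((DerivedCategory.homologyFunctorFactors (ModuleCat.{u} P) j).app (sng j M) ≪≫
      HomologicalComplex.singleObjHomologySelfIso (ComplexShape.up ℤ) j M).toLinearEquiv.symm
  · haveI : Subsingleton ((HomologicalComplex.homologyFunctor (ModuleCat.{u} P) (ComplexShape.up ℤ) j).obj (sng k M)) :=
      ModuleCat.subsingleton_of_isZero
        (((HomologicalComplex.exactAt_single_obj (ComplexShape.up ℤ) k M j hj)).isZero_homology)
    haveI : Subsingleton (Dual.HD P (DRing.toD (sng k M)) j) := eP.injective.subsingleton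
    exact Module.Finite.of_surjective (0 : P →ₗ[P] _) fun _ => ⟨0, Subsingleton.elim _ _⟩

theorem bijective_bcΦ_finite (R R' F : Type u) [CommRing R] [IsNoetherianRing R] [CommRing R'] [CommRing F]
    [Algebra R R'] [Module.Flat R R'] [Algebra R F] [Module.Finite R F] [DRing.HasLBaseChange (algebraMap R R')]
    (K : Dual.D R) (a : ℤ) [K.IsGE a] (k : ℤ) :
    Function.Bijective (bcΦ R R' ((DRing.restrictD (algebraMap R F)).obj (DRing.toD (sng k (ModuleCat.of F F)))) K) := by
  let M := (ModuleCat.restrictScalars.{u} (algebraMap R F)).obj (ModuleCat.of F F)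
  let e : F ≃ₗ[R] M :=
    { toFun := fun x => x
      invFun := fun x => x
      map_add' := fun _ _ => rfl
      map_smul' := fun r x => Algebra.smul_def r x }
  haveI : Module.Finite R M := Module.Finite.equiv e
  haveI := isLE_toD_sng k M
  exact bijective_bcΦ_of_iso R R' (resSngIso R F k).symm (bijective_bcΦ R R' _ K a k (finite_HD_sng k M))

theorem shriekVia_comp (A B C : Type u) [CommRing A] [CommRing B] [CommRing C] [IsNoetherianRing A] [Algebra A B]
    [Algebra B C] [Algebra A C] [IsScalarTower A B C] (n : ℕ) (ψ : MvPolynomial (Fin n) A →ₐ[A] B)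
    (hψ : Function.Surjective ψ) [DRing.HasLBaseChange (algebraMap A (MvPolynomial (Fin n) A))]
    (Rψ : Dual.D (MvPolynomial (Fin n) A) ⥤ Dual.D B) (adj : DRing.restrictD ψ.toRingHom ⊣ Rψ) (m : ℕ)
    (χ : MvPolynomial (Fin m) B →ₐ[B] C) (hχ : Function.Surjective χ)
    [DRing.HasLBaseChange (algebraMap B (MvPolynomial (Fin m) B))]
    (Rχ : Dual.D (MvPolynomial (Fin m) B) ⥤ Dual.D C) (adjχ : DRing.restrictD χ.toRingHom ⊣ Rχ) (k : ℕ)
    (θ : MvPolynomial (Fin k) A →ₐ[A] C) (hθ : Function.Surjective θ)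
    [DRing.HasLBaseChange (algebraMap A (MvPolynomial (Fin k) A))]
    (Rθ : Dual.D (MvPolynomial (Fin k) A) ⥤ Dual.D C) (adjθ : DRing.restrictD θ.toRingHom ⊣ Rθ)
    (K : Dual.D A) (c : ℤ) [K.IsGE c] :
    Nonempty (Dual2.shriekVia k Rθ K ≅ Dual2.shriekVia m Rχ (Dual2.shriekVia n Rψ K)) := by
  let P := MvPolynomial (Fin n) A
  let Q := MvPolynomial (Fin m) P
  letI : Algebra P B := ψ.toRingHom.toAlgebra
  haveI : Module.Finite P B := Module.Finite.of_surjective (Algebra.linearMap P B) hψ
  haveI : DRing.HasLBaseChange (algebraMap P Q) := DRingLib.hasLBaseChange _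
  haveI : DRing.HasLBaseChange (algebraMap A Q) := DRingLib.hasLBaseChange _
  haveI : DRing.HasLBaseChange (MvPolynomial.C : B →+* MvPolynomial (Fin m) B) :=
    ‹DRing.HasLBaseChange (algebraMap B (MvPolynomial (Fin m) B))›
  let L := (DRing.LBaseChange (algebraMap A P)).obj K
  haveI : L.IsGE c := DualCxLib.isGE_bcD A P K c
  let N := Rψ.obj L
  have h1 := isCoind_polyBC P B m (M := N) (isCoind_of_adj adj L) (bijective_bcΦ_finite P Q B L c)
  obtain ⟨eL⟩ := nonempty_lbc_comp' (algebraMap A P) (algebraMap P Q) (algebraMap A Q)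
    (IsScalarTower.algebraMap_eq A P Q).symm K
  let Nn := (DRing.LBaseChange (algebraMap B (MvPolynomial (Fin m) B))).obj (N⟦(n : ℤ)⟧)
  let eN : ((DRing.LBaseChange (MvPolynomial.C : B →+* MvPolynomial (Fin m) B)).obj N)⟦(n : ℤ)⟧ ≅ Nn :=
    (bcShiftIso B (MvPolynomial (Fin m) B) N n).symm
  have h2 := ((h1.shift (n : ℤ)).of_iso ((shiftFunctor (Dual.D Q) (n : ℤ)).mapIso eL) eN).comp
    (h := χ.toRingHom.comp (MvPolynomial.map (algebraMap P B))) rfl (isCoind_of_adj adjχ Nn)
  let σ : MvPolynomial (Fin (m + n)) A ≃ₐ[A] Q :=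
    (MvPolynomial.renameEquiv A finSumFinEquiv.symm).trans (MvPolynomial.sumAlgEquiv A (Fin m) (Fin n))
  let P'' := MvPolynomial (Fin (m + n)) A
  haveI : DRing.HasLBaseChange (algebraMap A P'') := DRingLib.hasLBaseChange _
  haveI : DRing.HasLBaseChange σ.symm.toRingEquiv.toRingHom := DRingLib.hasLBaseChange _
  obtain ⟨eσ⟩ := nonempty_lbc_comp' (algebraMap A Q) σ.symm.toRingEquiv.toRingHom (algebraMap A P'')
    (RingHom.ext σ.symm.commutes) K
  have h3 := (((isCoind_lbc_of_bijective (f := σ.toRingEquiv.toRingHom) σ.symm.toRingEquiv.toRingHom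
    (RingHom.ext σ.apply_symm_apply) (RingHom.ext σ.symm_apply_apply)
    ((DRing.LBaseChange (algebraMap A Q)).obj K)).of_iso eσ (Iso.refl _)).shift (n : ℤ)).comp
      (h := (χ.toRingHom.comp (MvPolynomial.map (algebraMap P B))).comp σ.toRingEquiv.toRingHom) rfl h2
  let χA : MvPolynomial (Fin m) B →ₐ[A] C := χ.restrictScalars A
  let μ : Q →ₐ[A] MvPolynomial (Fin m) B :=
    { MvPolynomial.map (algebraMap P B) with
      commutes' := fun a => by
        show MvPolynomial.map (algebraMap P B) (algebraMap A Q a) = algebraMap A (MvPolynomial (Fin m) B) a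
        rw [IsScalarTower.algebraMap_apply A P Q, IsScalarTower.algebraMap_apply A B (MvPolynomial (Fin m) B)]
        show MvPolynomial.map (algebraMap P B) (MvPolynomial.C (algebraMap A P a)) = MvPolynomial.C (algebraMap A B a)
        rw [MvPolynomial.map_C]
        exact congrArg MvPolynomial.C (ψ.commutes a) }
  let θ' : P'' →ₐ[A] C := (χA.comp μ).comp σ.toAlgHom
  have hθ' : Function.Surjective θ' :=
    (hχ.comp (MvPolynomial.map_surjective (algebraMap P B) hψ)).comp σ.surjective
  obtain ⟨e⟩ := shriekVia_iso_of_isCoind k θ hθ Rθ adjθ (m + n) θ' hθ' K _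
    ((h3.shift (-n : ℤ)).of_iso (shiftAddIso _ (n : ℤ) (-n) 0 (by ring) ≪≫ (shiftFunctorZero _ ℤ).app _) (Iso.refl _))
  exact ⟨e ≪≫ shiftAddIso (Rχ.obj Nn) (-n : ℤ) ((m + n : ℕ) : ℤ) m (by push_cast; ring)⟩

end Groth.Agent.ShriekAlgLib
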