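import Groth.Agent.DualCxLib.CoindDual
import Groth.Agent.DualCxLib.Gorenstein
import Groth.Agent.DualCxLib.FlatDev
import Groth.Prelude.Def_DualSh

/-!
# The upper shriek is bounded below and coherent
-/

set_option autoImplicit false
set_option backward.isDefEq.respectTransparency false
set_option linter.style.haveILetI false

universe u

open CategoryTheory Limits
attribute [local instance] HasDerivedCategory.standard

noncomputable section

namespace Groth.Agent.ShriekAlgLib

/-- Cohomology of a shift. -/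
def hdShiftIso (A : Type u) [CommRing A] (K : Dual.D A) (k i : ℤ) :
    (DerivedCategory.homologyFunctor (ModuleCat.{u} A) i).obj (K⟦k⟧) ≅
      (DerivedCategory.homologyFunctor (ModuleCat.{u} A) (k + i)).obj K :=
  ((DerivedCategory.homologyFunctor (ModuleCat.{u} A) 0).shiftIso k i (k + i) rfl).app K

theorem shriekVia_bounded_coherent (R A : Type u) [CommRing R] [CommRing A] [IsNoetherianRing R] [IsNoetherianRing A]
    [Algebra R A] (n : ℕ) (ψ : MvPolynomial (Fin n) R →ₐ[R] A) (hψ : Function.Surjective ψ)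
    [DRing.HasLBaseChange (algebraMap R (MvPolynomial (Fin n) R))]
    (Rψ : Dual.D (MvPolynomial (Fin n) R) ⥤ Dual.D A) (adj : DRing.restrictD ψ.toRingHom ⊣ Rψ)
    (K : Dual.D R) (a : ℤ) (hKa : ∀ i : ℤ, i < a → Subsingleton (Dual.HD R K i)) :
    (∃ b : ℤ, ∀ i : ℤ, i < b → Subsingleton (Dual.HD A (Dual2.shriekVia n Rψ K) i)) ∧
      ((∀ i : ℤ, Module.Finite R (Dual.HD R K i)) →
        ∀ i : ℤ, Module.Finite A (Dual.HD A (Dual2.shriekVia n Rψ K) i)) := by
  let P := MvPolynomial (Fin n) R
  letI := ψ.toRingHom.toAlgebra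
  haveI : Module.Finite P A := Module.Finite.of_surjective (Algebra.linearMap P A) hψ
  haveI : DerivedCategory.IsGE K a := (DerivedCategory.isGE_iff _ _).2 fun j hj =>
    ModuleCat.isZero_iff_subsingleton.2 (hKa j hj)
  let L := (DRing.LBaseChange (algebraMap R P)).obj K
  haveI : L.IsGE a := DualCxLib.isGE_bcD R P K a
  obtain ⟨S⟩ := DualCxLib.exists_injRep L a
  obtain ⟨c⟩ := S.nonempty_coindIso A Rψ adj
  constructor
  · refine ⟨S.a - n, fun i hi => ?_⟩
    have h : Subsingleton (Dual.HD A (DRing.toD (S.coext A)) (n + i)) := by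
      rw [DRingLib.subsingleton_HD_iff]
      intro x hx
      exact ⟨0, (ModuleCat.subsingleton_of_isZero ((ModuleCat.coextendScalars.{u, u, u} (algebraMap P A)).map_isZero (S.vanishes (n + i) (by omega)))).elim _ _⟩
    exact ((hdShiftIso A (Rψ.obj L) n i ≪≫
      (DerivedCategory.homologyFunctor (ModuleCat.{u} A) (n + i)).mapIso c.symm).toLinearEquiv.toEquiv).subsingleton_congr.2 h
  · intro hK i
    have hL : ∀ j, Module.Finite P (Dual.HD P L j) := fun j => DualCxLib.finite_HD_bcD R P (hK j)
    haveI : Module.Finite A ((DerivedCategory.homologyFunctor (ModuleCat.{u} A) (n + i)).obj (DRing.toD (S.coext A))) :=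
      S.finite_HD_coext A hL a (n + i)
    exact Module.Finite.equiv (hdShiftIso A (Rψ.obj L) n i ≪≫
      (DerivedCategory.homologyFunctor (ModuleCat.{u} A) (n + i)).mapIso c.symm).toLinearEquiv.symm

end Groth.Agent.ShriekAlgLib
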