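import Groth.Agent.DualCxLib.CoindD
import Groth.Agent.KInj.Restrict
import Groth.Agent.KInj.Derived

/-!
# Objects corepresenting maps out of restrictions
-/

set_option autoImplicit false
set_option backward.isDefEq.respectTransparency false
set_option linter.style.haveILetI false

universe u

open CategoryTheory Limits
attribute [local instance] HasDerivedCategory.standard

noncomputable section

namespace Groth.Agent.ShriekAlgLib

variable {A B C : Type u} [CommRing A] [CommRing B] [CommRing C]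

/-- `L` is `RHom_A(B, K)`: it corepresents maps from restrictions into `K`. -/
def IsCoind (f : A →+* B) (K : Dual.D A) (L : Dual.D B) : Prop :=
  ∃ ε : (DRing.restrictD f).obj L ⟶ K,
    ∀ X, Function.Bijective fun g : X ⟶ L => (DRing.restrictD f).map g ≫ ε

theorem isCoind_of_adj {f : A →+* B} {R : Dual.D A ⥤ Dual.D B} (adj : DRing.restrictD f ⊣ R) (K : Dual.D A) :
    IsCoind f K (R.obj K) :=
  ⟨adj.counit.app K, fun X => by
    convert (adj.homEquiv X K).symm.bijective using 1
    funext g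
    exact (adj.homEquiv_counit _ _ _).symm⟩

theorem IsCoind.unique {f : A →+* B} {K : Dual.D A} {L L' : Dual.D B} (h : IsCoind f K L) (h' : IsCoind f K L') :
    Nonempty (L ≅ L') := by
  obtain ⟨ε, hε⟩ := h
  obtain ⟨ε', hε'⟩ := h'
  obtain ⟨a, ha⟩ := (hε' L).2 ε
  obtain ⟨b, hb⟩ := (hε L').2 ε'
  dsimp only at ha hb
  refine ⟨⟨a, b, (hε L).1 ?_, (hε' L').1 ?_⟩⟩
  · show (DRing.restrictD f).map (a ≫ b) ≫ ε = (DRing.restrictD f).map (𝟙 L) ≫ ε
    rw [Functor.map_comp, Category.assoc, hb, ha, CategoryTheory.Functor.map_id, Category.id_comp]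
  · show (DRing.restrictD f).map (b ≫ a) ≫ ε' = (DRing.restrictD f).map (𝟙 L') ≫ ε'
    rw [Functor.map_comp, Category.assoc, ha, hb, CategoryTheory.Functor.map_id, Category.id_comp]

theorem IsCoind.iso_adj {f : A →+* B} {R : Dual.D A ⥤ Dual.D B} (adj : DRing.restrictD f ⊣ R) {K : Dual.D A}
    {L : Dual.D B} (h : IsCoind f K L) : Nonempty (R.obj K ≅ L) :=
  (isCoind_of_adj adj K).unique h

theorem IsCoind.of_iso {f : A →+* B} {K K' : Dual.D A} {L L' : Dual.D B} (h : IsCoind f K L) (e : K ≅ K')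
    (e' : L ≅ L') : IsCoind f K' L' := by
  obtain ⟨ε, hε⟩ := h
  refine ⟨(DRing.restrictD f).map e'.inv ≫ ε ≫ e.hom, fun X => ?_⟩
  convert (e.homToEquiv (Z := (DRing.restrictD f).obj X)).bijective.comp
    ((hε X).comp (e'.symm.homToEquiv (Z := X)).bijective) using 1
  funext g
  show (DRing.restrictD f).map g ≫ (DRing.restrictD f).map e'.inv ≫ ε ≫ e.hom =
    ((DRing.restrictD f).map (g ≫ e'.inv) ≫ ε) ≫ e.hom
  rw [Functor.map_comp, Category.assoc, Category.assoc]

theorem IsCoind.shift {f : A →+* B} {K : Dual.D A} {L : Dual.D B} (h : IsCoind f K L) (n : ℤ) :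
    IsCoind f (K⟦n⟧) (L⟦n⟧) := by
  obtain ⟨ε, hε⟩ := h
  let F := DRing.restrictD f
  let c := (F.commShiftIso n).app L
  refine ⟨c.hom ≫ ε⟦n⟧', fun X => ?_⟩
  let j : (X⟦-n⟧)⟦n⟧ ≅ X := (shiftFunctorCompIsoId (Dual.D B) (-n) n (neg_add_cancel n)).app X
  let k := F.commShiftIso n |>.app (X⟦-n⟧)
  have key : Function.Bijective fun g : (X⟦-n⟧)⟦n⟧ ⟶ L⟦n⟧ => F.map g ≫ c.hom ≫ ε⟦n⟧' := by
    have h1 := ((Functor.FullyFaithful.ofFullyFaithful (shiftFunctor (Dual.D A) n)).map_bijective
      (F.obj (X⟦-n⟧)) K).comp (hε (X⟦-n⟧))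
    have h2 : Function.Bijective fun g : X⟦-n⟧ ⟶ L => F.map (g⟦n⟧') ≫ c.hom ≫ ε⟦n⟧' := by
      convert (k.symm.homFromEquiv (Z := K⟦n⟧)).bijective.comp h1 using 1
      funext g
      show F.map (g⟦n⟧') ≫ c.hom ≫ ε⟦n⟧' = k.hom ≫ ((F.map g ≫ ε)⟦n⟧')
      rw [Functor.map_comp ((shiftFunctor (Dual.D A) n)), ← Category.assoc, ← Category.assoc k.hom]
      congr 1
      exact (F.commShiftIso n).hom.naturality g
    exact (Function.Bijective.of_comp_iff _
      ((Functor.FullyFaithful.ofFullyFaithful (shiftFunctor (Dual.D B) n)).map_bijective (X⟦-n⟧) L)).1 h2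
  convert ((F.mapIso j).homFromEquiv (Z := K⟦n⟧)).bijective.comp
    (key.comp (j.symm.homFromEquiv (Z := L⟦n⟧)).bijective) using 1
  funext g
  show F.map g ≫ c.hom ≫ ε⟦n⟧' = F.map j.inv ≫ F.map (j.hom ≫ g) ≫ c.hom ≫ ε⟦n⟧'
  rw [← Functor.map_comp_assoc, Iso.inv_hom_id_assoc]

section ResNat

/-- Restriction of scalars in two steps. -/
def resDComp (f : A →+* B) (g : B →+* C) (h : A →+* C) (hh : h = g.comp f) :
    DRing.restrictD g ⋙ DRing.restrictD f ≅ DRing.restrictD h :=
  let F := ModuleCat.restrictScalars.{u} f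
  let G := ModuleCat.restrictScalars.{u} g
  let H := ModuleCat.restrictScalars.{u} h
  let c := ComplexShape.up ℤ
  letI : Localization.Lifting DerivedCategory.Q (HomologicalComplex.quasiIso (ModuleCat.{u} C) c)
      (H.mapHomologicalComplex c ⋙ DerivedCategory.Q) (DRing.restrictD h) := ⟨H.mapDerivedCategoryFactors⟩
  letI : Localization.Lifting DerivedCategory.Q (HomologicalComplex.quasiIso (ModuleCat.{u} C) c)
      (G.mapHomologicalComplex c ⋙ F.mapHomologicalComplex c ⋙ DerivedCategory.Q)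
      (DRing.restrictD g ⋙ DRing.restrictD f) :=
    ⟨(Functor.associator _ _ _).symm ≪≫ Functor.isoWhiskerRight G.mapDerivedCategoryFactors _ ≪≫
      Functor.associator _ _ _ ≪≫ Functor.isoWhiskerLeft (G.mapHomologicalComplex c) F.mapDerivedCategoryFactors⟩
  Localization.liftNatIso DerivedCategory.Q (HomologicalComplex.quasiIso (ModuleCat.{u} C) c)
    (G.mapHomologicalComplex c ⋙ F.mapHomologicalComplex c ⋙ DerivedCategory.Q)
    (H.mapHomologicalComplex c ⋙ DerivedCategory.Q) _ _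
    ((Functor.associator _ _ _).symm ≪≫ Functor.isoWhiskerRight
      (NatIso.mapHomologicalComplex (ModuleCat.restrictScalarsComp'.{u} f g h hh).symm c)
      DerivedCategory.Q)

/-- Restriction of scalars along the identity. -/
def resDId (f : A →+* A) (hf : f = RingHom.id A) : DRing.restrictD f ≅ 𝟭 (Dual.D A) :=
  let F := ModuleCat.restrictScalars.{u} f
  let c := ComplexShape.up ℤ
  letI : Localization.Lifting DerivedCategory.Q (HomologicalComplex.quasiIso (ModuleCat.{u} A) c)
      (F.mapHomologicalComplex c ⋙ DerivedCategory.Q) (DRing.restrictD f) := ⟨F.mapDerivedCategoryFactors⟩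
  letI : Localization.Lifting DerivedCategory.Q (HomologicalComplex.quasiIso (ModuleCat.{u} A) c)
      (DerivedCategory.Q) (𝟭 (Dual.D A)) := ⟨Functor.rightUnitor _⟩
  Localization.liftNatIso DerivedCategory.Q (HomologicalComplex.quasiIso (ModuleCat.{u} A) c)
    (F.mapHomologicalComplex c ⋙ DerivedCategory.Q) DerivedCategory.Q _ _
    (Functor.isoWhiskerRight (NatIso.mapHomologicalComplex (ModuleCat.restrictScalarsId'.{u} f hf) c)
      DerivedCategory.Q ≪≫ Functor.isoWhiskerRight (Functor.mapHomologicalComplexIdIso _ c) DerivedCategory.Q ≪≫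
      Functor.leftUnitor _)

end ResNat

theorem IsCoind.comp {f : A →+* B} {g : B →+* C} {h : A →+* C} (hh : h = g.comp f) {K : Dual.D A} {L : Dual.D B}
    {M : Dual.D C} (h₁ : IsCoind f K L) (h₂ : IsCoind g L M) : IsCoind h K M := by
  obtain ⟨ε, hε⟩ := h₁
  obtain ⟨η, hη⟩ := h₂
  let e := resDComp f g h hh
  refine ⟨e.inv.app M ≫ (DRing.restrictD f).map η ≫ ε, fun X => ?_⟩
  convert ((e.app X).homFromEquiv (Z := K)).bijective.comp ((hε _).comp (hη X)) using 1
  funext φ
  show (DRing.restrictD h).map φ ≫ e.inv.app M ≫ (DRing.restrictD f).map η ≫ ε =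
    e.inv.app X ≫ (DRing.restrictD f).map ((DRing.restrictD g).map φ ≫ η) ≫ ε
  rw [NatTrans.naturality_assoc, Functor.map_comp, Category.assoc]
  rfl

theorem IsCoind.of_bijective {f : A →+* B} (g : B →+* A) (hfg : f.comp g = RingHom.id B)
    (hgf : g.comp f = RingHom.id A) (L : Dual.D B) : IsCoind f ((DRing.restrictD f).obj L) L := by
  refine ⟨𝟙 _, fun X => ?_⟩
  let e : DRing.restrictD f ⋙ DRing.restrictD g ≅ 𝟭 (Dual.D B) :=
    resDComp g f (RingHom.id B) hfg.symm ≪≫ resDId _ rfl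
  let e' : DRing.restrictD g ⋙ DRing.restrictD f ≅ 𝟭 (Dual.D A) :=
    resDComp f g (RingHom.id A) hgf.symm ≪≫ resDId _ rfl
  haveI : (DRing.restrictD f).IsEquivalence :=
    (CategoryTheory.Equivalence.mk (DRing.restrictD f) (DRing.restrictD g) e.symm e').isEquivalence_functor
  convert (Functor.FullyFaithful.ofFullyFaithful (DRing.restrictD f)).map_bijective X L using 1
  funext φ
  exact Category.comp_id _

end Groth.Agent.ShriekAlgLib
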