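import Groth.Agent.S7035
import Groth.Agent.S6942
import Groth.Agent.DRingLib.RegularGl
import Groth.Agent.DRingLib.PerfMisc
import Groth.Agent.DRingLib.PerfTor
import Groth.Agent.DRingLib.TensorAmp
import Groth.Agent.DualCxLib.Crit
import Groth.Agent.ShriekAlgLib.Bounded
import Groth.Agent.ShriekAlgLib.IsCoind

/-!
# A flat algebra is perfect over a polynomial presentation; the shriek of the base is bounded above
-/

set_option autoImplicit false
set_option backward.isDefEq.respectTransparency false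
set_option linter.style.haveILetI false

universe u

open CategoryTheory Limits Pretriangulated
attribute [local instance] HasDerivedCategory.standard
attribute [local instance] Algebra.TensorProduct.rightAlgebra
open scoped TensorProduct

noncomputable section

namespace Groth.Agent.ShriekAlgLib

open DRingLib DCohLib

theorem gl_dim_fibre_mvPolynomial (R : Type u) [CommRing R] (n : ℕ) (p : PrimeSpectrum R)
    (M : Type u) [AddCommGroup M] [Module (p.asIdeal.ResidueField ⊗[R] MvPolynomial (Fin n) R) M] :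
    HasProjectiveDimensionLT (ModuleCat.of (p.asIdeal.ResidueField ⊗[R] MvPolynomial (Fin n) R) M) (n + 1) := by
  let κ := p.asIdeal.ResidueField
  let e := (MvPolynomial.algebraTensorAlgEquiv (σ := Fin n) R κ).toRingEquiv
  haveI : IsRegularRing (κ ⊗[R] MvPolynomial (Fin n) R) := IsRegularRing.of_ringEquiv e.symm
  refine hasProjectiveDimensionLT_of_regular _ (fun q => inferInstance) n ?_ M
  rw [ringKrullDim_eq_of_ringEquiv e, MvPolynomial.ringKrullDim_of_isNoetherianRing,
    ringKrullDim_eq_zero_of_field]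
  simp

/-- If `R → A` is flat of finite type, then `A` is perfect over a polynomial presentation. -/
theorem perfect_amp_presentation (R A : Type u) [CommRing R] [CommRing A] [IsNoetherianRing R] [Algebra R A]
    [Module.Flat R A] (n : ℕ) [Algebra (MvPolynomial (Fin n) R) A] [IsScalarTower R (MvPolynomial (Fin n) R) A]
    [Module.Finite (MvPolynomial (Fin n) R) A] :
    DRing.IsPerfect (MvPolynomial (Fin n) R) (Dual.inD (MvPolynomial (Fin n) R) A) ∧
      DRing.HasTorAmplitudeIn (MvPolynomial (Fin n) R) (0 - (n : ℕ)) 0 (Dual.inD (MvPolynomial (Fin n) R) A) := by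
  let P := MvPolynomial (Fin n) R
  haveI : ∀ (p : PrimeSpectrum R) (M : ModuleCat.{u} (p.asIdeal.ResidueField ⊗[R] P)),
      DRing.HasLTensor (p.asIdeal.ResidueField ⊗[R] P) M := fun p M => hasLTensor M
  haveI : ∀ m : Ideal P, DRing.HasLBaseChange (Ideal.Quotient.mk m) := fun m => hasLBaseChange _
  refine (Groth.Agent.S7035.result (A := R) (B := P) n (fun p M _ _ => gl_dim_fibre_mvPolynomial R n p M) 0 0
    (Dual.inD P A) ((Groth.Agent.S6942.result P 0 (Dual.inD P A) A).2.2 inferInstance) ?_)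
  obtain ⟨e⟩ := nonempty_restrictD_inD (algebraMap R P) (ModuleCat.of P A)
  refine amp_of_iso e.symm (amp_inD_of_flat _ ?_)
  exact Module.Flat.of_linearEquiv
    (M := A) (N := (ModuleCat.restrictScalars.{u} (algebraMap R P)).obj (ModuleCat.of P A))
    { toFun := id
      invFun := id
      map_add' := fun _ _ => rfl
      map_smul' := fun r a => algebraMap_smul P r (show A from a) }

/-- `A` is perfect over the presentation. -/
theorem isPerfect_presentation (R A : Type u) [CommRing R] [CommRing A] [IsNoetherianRing R] [Algebra R A]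
    [Module.Flat R A] (n : ℕ) [Algebra (MvPolynomial (Fin n) R) A] [IsScalarTower R (MvPolynomial (Fin n) R) A]
    [Module.Finite (MvPolynomial (Fin n) R) A] :
    DRing.IsPerfect (MvPolynomial (Fin n) R) (Dual.inD (MvPolynomial (Fin n) R) A) :=
  (perfect_amp_presentation R A n).1

variable {P : Type u} [CommRing P] (L : Dual.D P)

/-- Maps out of `X` into high shifts of `L` vanish. -/
def HomBddAbove (X : Dual.D P) : Prop := ∃ b : ℤ, ∀ j : ℤ, b < j → Subsingleton (X ⟶ L⟦j⟧)

theorem homBddAbove_of_perfect (l : ℤ) [L.IsLE l] {X : Dual.D P} (hX : Perf FProj X) : HomBddAbove L X := by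
  refine class_of_perf (P := HomBddAbove L) ?_ ?_ ?_ ?_ ?_ hX
  · rintro K K' e ⟨b, hb⟩
    exact ⟨b, fun j hj => e.homFromEquiv.subsingleton_congr.1 (hb j hj)⟩
  · rintro T hT ⟨b, hb⟩ ⟨b', hb'⟩
    refine ⟨max b b', fun j hj => subsingleton_of_forall_eq 0 fun f => ?_⟩
    haveI := hb j ((le_max_left _ _).trans_lt hj)
    haveI := hb' j ((le_max_right _ _).trans_lt hj)
    obtain ⟨g, hg⟩ := Triangle.yoneda_exact₂ T hT f (Subsingleton.elim _ _)
    rw [hg, Subsingleton.elim g 0, comp_zero]
  · rintro X Y _ ⟨b, hb⟩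
    refine ⟨b, fun j hj => subsingleton_of_forall_eq 0 fun f => ?_⟩
    haveI := hb j hj
    rw [← cancel_epi (biprod.fst : X ⊞ Y ⟶ X)]
    exact Subsingleton.elim _ _
  · refine ⟨l, fun j hj => ?_⟩
    haveI : (L⟦j⟧).IsLE (-1) := by
      haveI : (L⟦j⟧).IsLE (l - j) := DerivedCategory.TStructure.t.isLE_shift L l j (l - j) (by omega)
      exact DerivedCategory.TStructure.t.isLE_of_le (L⟦j⟧) (l - j) (-1) (by omega)
    exact DualCxLib.subsingleton_unit_hom (L⟦j⟧)
  · rintro K k ⟨b, hb⟩
    refine ⟨b + k, fun j hj => subsingleton_of_forall_eq 0 fun f => ?_⟩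
    haveI := hb (j - k) (by omega)
    let c : (L⟦j - k⟧)⟦k⟧ ≅ L⟦j⟧ := (shiftFunctorAdd' (Dual.D P) (j - k) k j (by omega)).symm.app L
    obtain ⟨g, hg⟩ := (shiftFunctor (Dual.D P) k).map_surjective (f ≫ c.inv)
    rw [← cancel_mono c.inv, zero_comp, ← hg, Subsingleton.elim g 0, Functor.map_zero]

theorem exists_upper_bound_coind {A : Type u} [CommRing A] (f : P →+* A) {W : Dual.D A} (hW : IsCoind f L W)
    (l : ℤ) [L.IsLE l] (hA : Perf FProj ((DRing.restrictD f).obj (Dual.inD A A))) :
    ∃ b : ℤ, ∀ i : ℤ, b < i → Subsingleton (Dual.HD A W i) := by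
  obtain ⟨b, hb⟩ := homBddAbove_of_perfect L l hA
  refine ⟨b, fun i hi => subsingleton_HD_of_hom_unit W i ?_⟩
  obtain ⟨ε, hε⟩ := hW.shift i
  haveI := hb i hi
  exact (hε (Dual.inD A A)).1.subsingleton

theorem shriekVia_self_bounded (R A : Type u) [CommRing R] [CommRing A] [IsNoetherianRing R] [IsNoetherianRing A]
    [Algebra R A] [Module.Flat R A] (n : ℕ) (ψ : MvPolynomial (Fin n) R →ₐ[R] A) (hψ : Function.Surjective ψ)
    [DRing.HasLBaseChange (algebraMap R (MvPolynomial (Fin n) R))]
    (Rψ : Dual.D (MvPolynomial (Fin n) R) ⥤ Dual.D A) (adj : DRing.restrictD ψ.toRingHom ⊣ Rψ) :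
    (∃ a b : ℤ, ∀ i : ℤ, (i < a ∨ b < i) →
        Subsingleton (Dual.HD A (Dual2.shriekVia n Rψ (Dual.inD R R)) i)) ∧
      ∀ i : ℤ, Module.Finite A (Dual.HD A (Dual2.shriekVia n Rψ (Dual.inD R R)) i) := by
  let P := MvPolynomial (Fin n) R
  obtain ⟨⟨a, ha⟩, hfin⟩ := shriekVia_bounded_coherent R A n ψ hψ Rψ adj (Dual.inD R R) 0
    fun i hi => ModuleCat.subsingleton_of_isZero (DerivedCategory.isZero_of_isGE (Dual.inD R R) 0 i hi)
  letI := ψ.toRingHom.toAlgebra
  haveI : IsScalarTower R P A := .of_algebraMap_eq fun r => (ψ.commutes r).symm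
  haveI : Module.Finite P A := Module.Finite.of_surjective (Algebra.linearMap P A) hψ
  let L := (DRing.LBaseChange (algebraMap R P)).obj (Dual.inD R R)
  haveI : (Dual.inD R R).IsLE 0 :=
    inferInstanceAs (((DerivedCategory.singleFunctor (ModuleCat.{u} R) 0).obj _).IsLE 0)
  haveI : L.IsLE 0 := DualCxLib.isLE_bcD R P (Dual.inD R R) 0
  haveI : (L⟦(n : ℤ)⟧).IsLE 0 := by
    haveI : (L⟦(n : ℤ)⟧).IsLE (-(n : ℤ)) := DerivedCategory.TStructure.t.isLE_shift L 0 n (-(n : ℤ)) (by omega)
    exact DerivedCategory.TStructure.t.isLE_of_le _ (-(n : ℤ)) 0 (by omega)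
  have hA : Perf FProj ((DRing.restrictD ψ.toRingHom).obj (Dual.inD A A)) := by
    obtain ⟨e⟩ := nonempty_restrictD_inD ψ.toRingHom (ModuleCat.of A A)
    have h := isPerfect_presentation R A n
    exact ((isPerfect_iff _).1 h).of_iso e.symm
  obtain ⟨b, hb⟩ := exists_upper_bound_coind (L⟦(n : ℤ)⟧) ψ.toRingHom ((isCoind_of_adj adj L).shift n) 0 hA
  refine ⟨⟨a, b, fun i hi => hi.elim (ha i) (hb i)⟩, hfin fun i => ?_⟩
  rcases eq_or_ne i 0 with rfl | hi
  · exact Module.Finite.equiv (nonempty_HD_inD (ModuleCat.of R R)).some.symm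
  · haveI : Subsingleton (Dual.HD R (Dual.inD R R) i) := ModuleCat.subsingleton_of_isZero
      (hi.lt_or_gt.elim (fun h => DerivedCategory.isZero_of_isGE (Dual.inD R R) 0 i h)
        fun h => DerivedCategory.isZero_of_isLE (Dual.inD R R) 0 i h)
    exact inferInstance

end Groth.Agent.ShriekAlgLib
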