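import Groth.Agent.ShriekAlgLib.RegCoind
import Groth.Agent.ShriekAlgLib.Comp
import Groth.Agent.ShriekAlgLib.FlatCoind
import Groth.Agent.ShriekAlgLib.PolyPerfect
import Groth.Agent.PerfMorLib.Koszul
import Groth.Agent.CancelLib.Ring
import Groth.Agent.CMGraded.Glue

/-!
# The relative dualizing complex of a local complete intersection is invertible
-/

set_option autoImplicit false
set_option backward.isDefEq.respectTransparency false
set_option linter.style.haveILetI false
set_option maxRecDepth 4000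

universe u

open CategoryTheory CategoryTheory.Limits RingTheory.Sequence
attribute [local instance] HasDerivedCategory.standard

noncomputable section

namespace Groth.Agent.ShriekAlgLib

open DRingLib DCohLib

theorem perf_restrict_of_koszul {P A : Type u} [CommRing P] [CommRing A] (φ : P →+* A)
    (hφ : Function.Surjective φ) (h : LCI.IsKoszulRegularIdeal (RingHom.ker φ)) :
    Perf FProj ((DRing.restrictD φ).obj (Dual.inD A A)) := by
  obtain ⟨hpc, d, hd⟩ := PerfMorLib.perfHom_of_isKoszulRegularIdeal hφ h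
  obtain ⟨r⟩ := nonempty_restrictD_inD φ (ModuleCat.of A A)
  refine (perf_iff _).2 ⟨(isPseudoCoherent'_iff _).2 ((PCHomLib.pcHom_iff_pcMap_of_surjective φ hφ).1 hpc),
    -(d : ℤ), 0, ?_⟩
  exact amp_of_iso r.symm ((hasTorDimLE_iff_amp _ _).1 hd)

theorem exists_away_of_isLCI (R A : Type u) [CommRing R] [CommRing A] [IsNoetherianRing R] [IsNoetherianRing A]
    [Algebra R A] (hl : LCI.IsLCI R A) (n : ℕ) (ψ : MvPolynomial (Fin n) R →ₐ[R] A) (hψ : Function.Surjective ψ)
    [DRing.HasLBaseChange (algebraMap R (MvPolynomial (Fin n) R))]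
    (Rψ : Dual.D (MvPolynomial (Fin n) R) ⥤ Dual.D A) (adj : DRing.restrictD ψ.toRingHom ⊣ Rψ)
    [hL : ∀ f : A, DRing.HasLBaseChange (algebraMap A (Localization.Away f))] (q : Ideal A) [q.IsPrime] :
    ∃ (f : A) (_ : f ∉ q) (m : ℤ), Nonempty ((DRing.LBaseChange (algebraMap A (Localization.Away f))).obj
      (Dual2.shriekVia n Rψ (Dual.inD R R)) ≅ (Dual.inD (Localization.Away f) (Localization.Away f))⟦m⟧) := by
  obtain ⟨-, k, φ, hφ, hk⟩ := hl
  let P := MvPolynomial (Fin k) R
  haveI : DRing.HasLBaseChange (algebraMap R P) := DRingLib.hasLBaseChange _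
  obtain ⟨Rφ, ⟨adjφ⟩⟩ := exists_rightAdjoint φ.toRingHom
  obtain ⟨eω⟩ := shriekVia_independent R A n ψ hψ Rψ adj k φ hφ Rφ adjφ (Dual.inD R R)
  obtain ⟨⟨a, ha⟩, hfin⟩ := shriekVia_bounded_coherent R A n ψ hψ Rψ adj (Dual.inD R R) 0
    fun i hi => ModuleCat.subsingleton_of_isZero (DerivedCategory.isZero_of_isGE (Dual.inD R R) 0 i hi)
  let ω := Dual2.shriekVia n Rψ (Dual.inD R R)
  letI := φ.toRingHom.toAlgebra
  haveI : IsScalarTower R P A := .of_algebraMap_eq fun r => (φ.commutes r).symm
  haveI : Module.Finite P A := Module.Finite.of_surjective (Algebra.linearMap P A) hφ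
  let L := (DRing.LBaseChange (algebraMap R P)).obj (Dual.inD R R)
  obtain ⟨eL⟩ := nonempty_lbc_unit_any (algebraMap R P)
  let V := Rφ.obj L
  -- upper bound
  haveI : (Dual.inD R R).IsLE 0 :=
    inferInstanceAs (((DerivedCategory.singleFunctor (ModuleCat.{u} R) 0).obj _).IsLE 0)
  haveI : (Dual.inD P P).IsLE 0 :=
    inferInstanceAs (((DerivedCategory.singleFunctor (ModuleCat.{u} P) 0).obj _).IsLE 0)
  haveI : (Dual.inD P P).IsGE 0 :=
    inferInstanceAs (((DerivedCategory.singleFunctor (ModuleCat.{u} P) 0).obj _).IsGE 0)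
  have hLP : IsCoind φ.toRingHom (Dual.inD P P) V := (isCoind_of_adj adjφ L).of_iso eL (Iso.refl _)
  obtain ⟨b, hb⟩ := exists_upper_bound_coind (Dual.inD P P) φ.toRingHom hLP 0 (perf_restrict_of_koszul _ hφ hk)
  have hbω : ∀ i : ℤ, b - k < i → Subsingleton (Dual.HD A ω i) := fun i hi => by
    haveI := hb ((k : ℤ) + i) (by omega)
    exact ((((DerivedCategory.homologyFunctor (ModuleCat.{u} A) i).mapIso eω).toLinearEquiv).trans
      (hdShiftEquiv V (k : ℤ) i)).toEquiv.subsingleton
  -- the local rings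
  let p : Ideal P := q.comap φ.toRingHom
  let S := Localization.AtPrime p
  let B := Localization.AtPrime q
  let π : S →+* B := Localization.localRingHom p q φ.toRingHom rfl
  letI : Algebra S B := π.toAlgebra
  haveI : IsScalarTower P S B := .of_algebraMap_eq fun x => by
    rw [IsScalarTower.algebraMap_apply P A B]
    exact (Localization.localRingHom_to_map p q φ.toRingHom rfl x).symm
  haveI : IsNoetherianRing S := IsLocalization.isNoetherianRing p.primeCompl S inferInstance
  haveI : IsNoetherianRing B := IsLocalization.isNoetherianRing q.primeCompl B inferInstance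
  haveI : Module.Flat P S := IsLocalization.flat S p.primeCompl
  haveI : Module.Flat A B := IsLocalization.flat B q.primeCompl
  have hM : Algebra.algebraMapSubmonoid A p.primeCompl = q.primeCompl := by
    ext a
    refine ⟨?_, fun ha => ?_⟩
    · rintro ⟨x, hx, rfl⟩
      exact hx
    · obtain ⟨x, rfl⟩ := hφ a
      exact ⟨x, ha, rfl⟩
  haveI : IsLocalization (Algebra.algebraMapSubmonoid A p.primeCompl) B := by rw [hM]; infer_instance
  haveI : Algebra.IsPushout P A S B := Algebra.isPushout_of_isLocalization p.primeCompl S A B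
  haveI : Algebra.IsPushout P S A B := Algebra.IsPushout.symm inferInstance
  haveI : DRing.HasLBaseChange (algebraMap P S) := DRingLib.hasLBaseChange _
  haveI : DRing.HasLBaseChange (algebraMap A B) := DRingLib.hasLBaseChange _
  -- the regular sequence
  have hπ : Function.Surjective π := CMGraded.localRingHom_surjective hφ p q rfl
  obtain ⟨rs, hrs, hI⟩ := CancelLib.isRegularIdeal_map_of_koszul hk p
    (fun x hx => show φ.toRingHom x ∈ q by rw [RingHom.mem_ker.1 hx]; exact q.zero_mem)
  have h1 := isCoind_regularSeq rs π hπ hrs.toIsWeaklyRegular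
    ((CMGraded.ker_localRingHom hφ p q rfl).trans hI.symm)
  have h2 := isCoind_flatBC P S A B (Dual.inD P P) V hLP (fun j => bijective_bcΦ_finite P S A (Dual.inD P P) 0 j)
  obtain ⟨eS⟩ := nonempty_lbc_unit_any (algebraMap P S)
  obtain ⟨eV⟩ := (h2.of_iso eS (Iso.refl _)).unique h1
  let eB : (DualCxLib.bcD A B).obj ω ≅ (Dual.inD B B)⟦(k : ℤ) - rs.length⟧ :=
    (DualCxLib.bcD A B).mapIso eω ≪≫ DualCxLib.bcShiftIso A B V k ≪≫
      (shiftFunctor (Dual.D B) (k : ℤ)).mapIso eV ≪≫
        ((shiftFunctorAdd' (Dual.D B) (-(rs.length : ℤ)) k ((k : ℤ) - rs.length) (by ring)).app _).symm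
  have hR : ∀ i : ℤ, Module.Finite R (Dual.HD R (Dual.inD R R) i) := fun i => by
    rcases eq_or_ne i 0 with rfl | hi
    · exact Module.Finite.equiv (nonempty_HD_inD (ModuleCat.of R R)).some.symm
    · haveI := subsingleton_HD_inD (ModuleCat.of R R) hi
      exact Module.Finite.of_surjective (0 : R →ₗ[R] _) fun _ => ⟨0, Subsingleton.elim _ _⟩
  obtain ⟨f, hf, h⟩ := exists_away_of_localization a (b - k)
    (fun i hi => hi.elim (ha i) (hbω i)) (hfin hR) q _ eB
  exact ⟨f, hf, _, h⟩

end Groth.Agent.ShriekAlgLib
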