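import Groth.Agent.ShriekAlgLib.FibreBound
import Groth.Agent.ShriekAlgLib.FlatCoind
import Groth.Agent.QGorLib.Depth
import Groth.Agent.S0402

/-!
# Vanishing of a coinduced complex below the grade
-/

set_option autoImplicit false
set_option linter.style.haveILetI false
set_option maxRecDepth 4000

universe u

open CategoryTheory AlgebraicGeometry
attribute [local instance] HasDerivedCategory.standard

noncomputable section

namespace Groth.Agent.ShriekAlgLib

open DRingLib

set_option backward.isDefEq.respectTransparency false in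
theorem subsingleton_hom_inD_of_grade {L : Type u} [CommRing L] [IsNoetherianRing L] (I : Ideal L) (hI : I ≠ ⊤)
    (M : ModuleCat.{u} L) (hM : ∀ a ∈ I, ∀ x : M, a • x = 0) (c : ℕ)
    (hc : (c : ℕ∞) ≤ LocCoh.idealDepth I L) (j : ℤ) (hj : j < c) :
    Subsingleton (Dual.inD L M ⟶ (Dual.inD L (ModuleCat.of L L))⟦j⟧) := by
  by_cases h0 : 0 ≤ j
  · obtain ⟨i, rfl⟩ := Int.eq_ofNat_of_zero_le h0
    obtain ⟨rs, hl, hm, hw⟩ := (Depth.le_idealDepth_iff (M := L)
      (by rwa [Ideal.smul_eq_mul, Ideal.mul_top]) c).1 hc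
    haveI := LocCohLib.subsingleton_ext_of_isWeaklyRegular I (ModuleCat.of L L) M rs hw hm 1
      (fun a ha x => hM a (by rwa [pow_one] at ha) x) i (by omega)
    exact (Abelian.Ext.homEquiv (n := i) (X := M) (Y := ModuleCat.of L L)).symm.injective.subsingleton
  · refine subsingleton_of_forall_eq 0 fun u => ?_
    haveI : DerivedCategory.IsLE (Dual.inD L M) 0 :=
      inferInstanceAs (((DerivedCategory.singleFunctor (ModuleCat.{u} L) 0).obj _).IsLE 0)
    haveI : (Dual.inD L (ModuleCat.of L L)).IsGE 0 :=
      inferInstanceAs (((DerivedCategory.singleFunctor (ModuleCat.{u} L) 0).obj _).IsGE 0)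
    exact DerivedCategory.TStructure.t.zero_of_isLE_of_isGE u 0 (-j) (by omega) inferInstance
      (DerivedCategory.TStructure.t.isGE_shift (Dual.inD L (ModuleCat.of L L)) 0 j (-j) (by omega))

theorem isPushout_atPrime {P A : Type u} [CommRing P] [CommRing A] [Algebra P A]
    (hf : Function.Surjective (algebraMap P A)) (q : Ideal A) [q.IsPrime] (B : Type u) [CommRing B]
    [Algebra A B] [IsLocalization.AtPrime B q] [Algebra (Localization.AtPrime (q.under P)) B] [Algebra P B]
    [IsScalarTower P A B] [IsScalarTower P (Localization.AtPrime (q.under P)) B] :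
    Algebra.IsPushout P (Localization.AtPrime (q.under P)) A B := by
  haveI : IsLocalization (Algebra.algebraMapSubmonoid A (q.under P).primeCompl) B := by
    rw [show Algebra.algebraMapSubmonoid A (q.under P).primeCompl = q.primeCompl from ?_]
    · infer_instance
    refine le_antisymm ?_ fun a ha => ?_
    · rintro _ ⟨x, hx, rfl⟩
      exact hx
    · obtain ⟨x, rfl⟩ := hf a
      exact ⟨x, ha, rfl⟩
  exact Algebra.IsPushout.symm ((Algebra.isLocalization_iff_isPushout (T := A) (B := B) (q.under P).primeCompl (Localization.AtPrime (q.under P))).mp inferInstance)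

set_option backward.isDefEq.respectTransparency false in
theorem subsingleton_localized_coind {P A : Type u} [CommRing P] [CommRing A] [IsNoetherianRing P] [Algebra P A]
    (hf : Function.Surjective (algebraMap P A)) {W : Dual.D A}
    (hW : IsCoind (algebraMap P A) (Dual.inD P P) W) (q : PrimeSpectrum A) (c : ℕ)
    (hc : ∀ q' : PrimeSpectrum A, q' ≤ q → (c : ℕ∞) ≤
      LocCoh.depth (Localization.AtPrime (q'.asIdeal.under P)) (Localization.AtPrime (q'.asIdeal.under P)))
    (j : ℤ) (hj : j < c) :
    Subsingleton (LocalizedModule q.asIdeal.primeCompl (Dual.HD A W j)) := by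
  let Q := q.asIdeal.under P
  let L := Localization.AtPrime Q
  let B := Localization.AtPrime q.asIdeal
  let g : L →+* B := Localization.localRingHom Q q.asIdeal (algebraMap P A) rfl
  letI : Algebra L B := g.toAlgebra
  haveI : IsScalarTower P L B := IsScalarTower.of_algebraMap_eq (R := P) (S := L) (A := B) fun y =>
    ((Localization.localRingHom_to_map Q q.asIdeal (algebraMap P A) rfl y).trans
      (IsScalarTower.algebraMap_apply P A B y).symm).symm
  haveI : Algebra.IsPushout P L A B := isPushout_atPrime hf q.asIdeal B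
  have hgs : Function.Surjective g := fun z => by
    obtain ⟨a, ⟨s, hs⟩, rfl⟩ := IsLocalization.exists_mk'_eq q.asIdeal.primeCompl z
    obtain ⟨x, rfl⟩ := hf a
    obtain ⟨y, rfl⟩ := hf s
    exact ⟨IsLocalization.mk' L x ⟨y, hs⟩, Localization.localRingHom_mk' Q q.asIdeal _ rfl x ⟨y, hs⟩⟩
  haveI : Module.Finite P A := Module.Finite.of_surjective (Algebra.linearMap P A) hf
  haveI : Module.Flat A B := IsLocalization.flat _ q.asIdeal.primeCompl
  haveI : Module.Flat P L := IsLocalization.flat _ Q.primeCompl
  haveI : DRing.HasLBaseChange (algebraMap P L) := DRingLib.hasLBaseChange _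
  haveI : DRing.HasLBaseChange (algebraMap A B) := DRingLib.hasLBaseChange _
  haveI : (Dual.inD P P).IsGE 0 :=
    inferInstanceAs (((DerivedCategory.singleFunctor (ModuleCat.{u} P) 0).obj _).IsGE 0)
  obtain ⟨eU⟩ := nonempty_lbc_unit P L
  have h := (isCoind_flatBC P L A B (Dual.inD P P) W hW (bijective_bcΦ_finite P L A (Dual.inD P P) 0)).of_iso eU
    (Iso.refl _)
  obtain ⟨e⟩ := DualCxLib.nonempty_HD_bcD A B W j
  suffices hs : Subsingleton (Dual.HD B ((DualCxLib.bcD A B).obj W) j) by
    exact ((e.toEquiv.trans (IsLocalizedModule.isBaseChange q.asIdeal.primeCompl B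
      (LocalizedModule.mkLinearMap q.asIdeal.primeCompl (Dual.HD A W j))).equiv.toEquiv).subsingleton_congr).1 hs
  refine subsingleton_HD_of_hom_unit _ j ?_
  obtain ⟨ε, hε⟩ := h.shift j
  obtain ⟨r⟩ := nonempty_restrictD_inD (algebraMap L B) (ModuleCat.of B B)
  let N := (ModuleCat.restrictScalars.{u} (algebraMap L B)).obj (ModuleCat.of B B)
  have hker : RingHom.ker g ≠ ⊤ := RingHom.ker_ne_top g
  have hdepth : (c : ℕ∞) ≤ LocCoh.idealDepth (RingHom.ker g) L := by
    refine (QGorLib.le_idealDepth_iff_forall c).2 fun p' hp' => ?_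
    obtain ⟨q', hq'⟩ : ∃ q' : PrimeSpectrum B, PrimeSpectrum.comap g q' = p' :=
      ⟨⟨p'.asIdeal.map g, Ideal.map_isPrime_of_surjective hgs hp'⟩, PrimeSpectrum.ext (by
        show (p'.asIdeal.map g).comap g = p'.asIdeal
        rw [Ideal.comap_map_of_surjective g hgs, ← RingHom.ker_eq_comap_bot]
        exact sup_eq_left.2 hp')⟩
    let q₀ : PrimeSpectrum A := PrimeSpectrum.comap (algebraMap A B) q'
    have hle : q₀ ≤ q := fun x hx => by
      by_contra hxq
      exact q'.isPrime.ne_top
        (Ideal.eq_top_of_isUnit_mem _ hx (IsLocalization.map_units B (⟨x, hxq⟩ : q.asIdeal.primeCompl)))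
    have hQ : q₀.asIdeal.under P = p'.asIdeal.comap (algebraMap P L) := by
      rw [← hq']
      ext x
      show algebraMap A B (algebraMap P A x) ∈ q'.asIdeal ↔ g (algebraMap P L x) ∈ q'.asIdeal
      rw [show g (algebraMap P L x) = algebraMap A B (algebraMap P A x) from
        Localization.localRingHom_to_map Q q.asIdeal (algebraMap P A) rfl x]
    rw [Depth.depth_localizedSelf]
    haveI : (p'.asIdeal.comap (algebraMap P L)).IsPrime := Ideal.IsPrime.comap _
    have h1 := hc q₀ hle
    rw [depth_of_ringEquiv (IsLocalization.localizationLocalizationAtPrimeIsoLocalization Q.primeCompl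
      p'.asIdeal).toRingEquiv]
    have h2 : ∀ (I J : Ideal P) [I.IsPrime] [J.IsPrime], I = J →
        LocCoh.depth (Localization.AtPrime I) (Localization.AtPrime I) =
          LocCoh.depth (Localization.AtPrime J) (Localization.AtPrime J) := by
      rintro I J _ _ rfl
      rfl
    rwa [h2 _ _ hQ] at h1
  haveI := subsingleton_hom_inD_of_grade (RingHom.ker g) hker N
    (fun a ha x => by
      show g a * (show B from x) = 0
      rw [RingHom.mem_ker.1 ha, zero_mul]) c hdepth j hj
  haveI : Subsingleton ((DRing.restrictD (algebraMap L B)).obj (Dual.inD B B) ⟶ (Dual.inD L L)⟦j⟧) :=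
    (r.homFromEquiv.subsingleton_congr).2 inferInstance
  exact (hε (Dual.inD B B)).1.subsingleton

set_option backward.isDefEq.respectTransparency false in
theorem shriekVia_vanishing (R A : Type u) [CommRing R] [CommRing A] [IsNoetherianRing R] [IsNoetherianRing A]
    [Algebra R A] (n : ℕ) (ψ : MvPolynomial (Fin n) R →ₐ[R] A) (hψ : Function.Surjective ψ)
    [DRing.HasLBaseChange (algebraMap R (MvPolynomial (Fin n) R))]
    (Rψ : Dual.D (MvPolynomial (Fin n) R) ⥤ Dual.D A) (adj : DRing.restrictD ψ.toRingHom ⊣ Rψ)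
    (q : PrimeSpectrum A) (d : ℕ)
    (hd : FlatMor.fibreDimAt (Spec.map (CommRingCat.ofHom (algebraMap R A))) q ≤ (d : WithBot ℕ∞))
    (i : ℤ) (hi : i < -(d : ℤ)) :
    Subsingleton (LocalizedModule q.asIdeal.primeCompl (Dual.HD A (Dual2.shriekVia n Rψ (Dual.inD R R)) i)) := by
  let P := MvPolynomial (Fin n) R
  letI := ψ.toRingHom.toAlgebra
  haveI : Algebra.FiniteType R A := Algebra.FiniteType.of_surjective ψ hψ
  haveI : LocallyOfFiniteType (Spec.map (CommRingCat.ofHom (algebraMap R A))) :=
    (HasRingHomProperty.Spec_iff (P := @LocallyOfFiniteType)).2 (RingHom.finiteType_algebraMap.2 inferInstance)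
  let L := (DRing.LBaseChange (algebraMap R P)).obj (Dual.inD R R)
  obtain ⟨eU⟩ := nonempty_lbc_unit R P
  have hopen := Groth.Agent.S0402.result (Spec.map (CommRingCat.ofHom (algebraMap R A))) d
  have h := subsingleton_localized_coind (P := P) (A := A) hψ
    ((isCoind_of_adj adj L).of_iso eU (Iso.refl _)) q (n - d) (fun q' hq' => ?_) (n + i) (by omega)
  · have hs : Subsingleton (LocalizedModule q.asIdeal.primeCompl (Dual.HD A (Rψ.obj L) (n + i))) := h
    let e := (hdShiftIso A (Rψ.obj L) n i).toLinearEquiv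
    exact ((IsLocalizedModule.mapEquiv q.asIdeal.primeCompl
      (LocalizedModule.mkLinearMap q.asIdeal.primeCompl _) (LocalizedModule.mkLinearMap q.asIdeal.primeCompl _)
      (Localization.AtPrime q.asIdeal) e).toEquiv.subsingleton_congr).2 hs
  · have hd' : FlatMor.fibreDimAt (Spec.map (CommRingCat.ofHom (algebraMap R A))) q' ≤ (d : WithBot ℕ∞) := by
      have hsp : q' ⤳ q := (PrimeSpectrum.le_iff_specializes q' q).1 hq'
      exact hsp.mem_open hopen hd
    exact le_depth_presentation R A n ψ hψ q' d hd'

end Groth.Agent.ShriekAlgLib
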