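import Mathlib.LinearAlgebra.Contraction
import Mathlib.RingTheory.TensorProduct.Finite
import Mathlib.RingTheory.Flat.Basic
import Mathlib.LinearAlgebra.TensorProduct.Finiteness
import Mathlib.LinearAlgebra.TensorProduct.Tower
import Mathlib.LinearAlgebra.TensorProduct.RightExactness

/-!
# Duals of finite projective modules tensored over a subring
-/

set_option autoImplicit false

universe u

open TensorProduct

noncomputable section

namespace Groth.Agent.ShriekAlgLib

variable (R P : Type u) [CommRing R] [CommRing P] [Algebra R P] (M : Type u) [AddCommGroup M] [Module R M]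
variable (V : Type u) [AddCommGroup V] [Module P V] [Module.Finite P V] [Module.Projective P V]

/-- Duals tensored over the base are maps into the base change. -/
def dualTensorEquiv : M ⊗[R] Module.Dual P V ≃ₗ[R] (V →ₗ[P] P ⊗[R] M) :=
  (TensorProduct.comm R M (Module.Dual P V)).trans
    (((AlgebraTensorModule.cancelBaseChange R P P (Module.Dual P V) M).symm.trans
      (dualTensorHomEquiv P V (P ⊗[R] M))).restrictScalars R)

theorem dualTensorEquiv_tmul (m : M) (φ : Module.Dual P V) (x : V) :
    dualTensorEquiv R P M V (m ⊗ₜ φ) x = φ x • ((1 : P) ⊗ₜ[R] m) := by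
  simp [dualTensorEquiv]

variable {V} {W : Type u} [AddCommGroup W] [Module P W] [Module.Finite P W] [Module.Projective P W]

theorem dualTensorEquiv_comp (f : W →ₗ[P] V) (g : Module.Dual P V →ₗ[R] Module.Dual P W)
    (k : ℤ) (hg : ∀ φ x, g φ x = k • φ (f x)) (z : M ⊗[R] Module.Dual P V) :
    dualTensorEquiv R P M W (g.lTensor M z) = k • (dualTensorEquiv R P M V z ∘ₗ f) := by
  induction z using TensorProduct.induction_on with
  | zero => simp
  | tmul m φ =>
    refine LinearMap.ext fun x => ?_
    rw [LinearMap.lTensor_tmul, dualTensorEquiv_tmul, LinearMap.smul_apply, LinearMap.comp_apply,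
      dualTensorEquiv_tmul, hg, zsmul_eq_mul, mul_smul, Int.cast_smul_eq_zsmul]
  | add y y' hy hy' => simp [hy, hy', LinearMap.add_comp, smul_add]

variable {U : Type u} [AddCommGroup U] [Module P U] [Module.Finite P U] [Module.Projective P U]

/-- Exactness of the dual sequence tensored with `M`. -/
theorem exact_lTensor_dual (e : U →ₗ[P] W) (f : W →ₗ[P] V) (hef : f ∘ₗ e = 0)
    (ge : Module.Dual P W →ₗ[R] Module.Dual P U) (gf : Module.Dual P V →ₗ[R] Module.Dual P W)
    (ke kf : ℤˣ) (hge : ∀ φ x, ge φ x = (ke : ℤ) • φ (e x)) (hgf : ∀ φ x, gf φ x = (kf : ℤ) • φ (f x))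
    (hfin : ∀ M₁ : Type u, ∀ [AddCommGroup M₁] [Module R M₁] [Module.Finite R M₁],
      ∀ ξ : W →ₗ[P] P ⊗[R] M₁, ξ ∘ₗ e = 0 → ∃ η : V →ₗ[P] P ⊗[R] M₁, η ∘ₗ f = ξ)
    [Module.Flat R (Module.Dual P U)] :
    Function.Exact (gf.lTensor M) (ge.lTensor M) := by
  intro z
  refine ⟨fun hz => ?_, ?_⟩
  · obtain ⟨M₁, hM₁, hsub⟩ :=
      TensorProduct.exists_finite_submodule_left_of_setFinite ({z} : Set (M ⊗[R] Module.Dual P W))
        (Set.finite_singleton z)
    obtain ⟨z₁, rfl⟩ := hsub (Set.mem_singleton z)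
    haveI := hM₁
    have hi : Function.Injective ((M₁.subtype).rTensor (Module.Dual P U)) :=
      Module.Flat.rTensor_preserves_injective_linearMap _ M₁.injective_subtype
    have hc : ∀ {X Y : Type u} [AddCommGroup X] [Module R X] [AddCommGroup Y] [Module R Y] (g : X →ₗ[R] Y)
        (t : M₁ ⊗[R] X), g.lTensor M (M₁.subtype.rTensor X t) = M₁.subtype.rTensor Y (g.lTensor M₁ t) := by
      intro X Y _ _ _ _ g t
      rw [← LinearMap.comp_apply, ← LinearMap.comp_apply, LinearMap.lTensor_comp_rTensor,
        LinearMap.rTensor_comp_lTensor]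
    have h1 : ge.lTensor M₁ z₁ = 0 := hi (by rw [← hc, map_zero]; exact hz)
    have h2 : dualTensorEquiv R P M₁ W z₁ ∘ₗ e = 0 := by
      have h3 := dualTensorEquiv_comp R P M₁ e ge ke hge z₁
      rw [h1, map_zero] at h3
      rcases Int.units_eq_one_or ke with rfl | rfl <;> simpa using h3.symm
    obtain ⟨η, hη⟩ := hfin M₁ _ h2
    refine ⟨M₁.subtype.rTensor _ ((dualTensorEquiv R P M₁ V).symm ((kf : ℤ) • η)), ?_⟩
    rw [hc]
    refine congrArg _ ((dualTensorEquiv R P M₁ W).injective ?_)
    rw [dualTensorEquiv_comp R P M₁ f gf kf hgf, LinearEquiv.apply_symm_apply, LinearMap.smul_comp, smul_smul,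
      ← Units.val_mul, Int.units_mul_self, Units.val_one, one_smul, hη]
  · rintro ⟨w, rfl⟩
    have h0 : ge ∘ₗ gf = 0 := by
      refine LinearMap.ext fun φ => LinearMap.ext fun x => ?_
      show ge (gf φ) x = 0
      rw [hge, hgf, show f (e x) = 0 from LinearMap.congr_fun hef x, map_zero, smul_zero, smul_zero]
    rw [← LinearMap.lTensor_comp_apply, h0, LinearMap.lTensor_zero, LinearMap.zero_apply]

end Groth.Agent.ShriekAlgLib
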