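import Groth.Agent.ShriekAlgLib.Grade
import Groth.Agent.ShriekAlgLib.DualTensor
import Groth.Agent.DRingLib.InjAmp

/-!
# Relative grade along a presentation with coefficients in a module
-/

set_option autoImplicit false
set_option linter.style.haveILetI false
set_option maxRecDepth 4000

universe u

open CategoryTheory AlgebraicGeometry TensorProduct RingTheory.Sequence
attribute [local instance] HasDerivedCategory.standard

noncomputable section

namespace Groth.Agent.ShriekAlgLib

open DRingLib

theorem isWeaklyRegular_of_subsingleton {L : Type u} [CommRing L] :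
    ∀ (rs : List L) (Y : Type u) [AddCommGroup Y] [Module L Y] [Subsingleton Y], IsWeaklyRegular Y rs
  | [], Y, _, _, _ => IsWeaklyRegular.nil L Y
  | r :: rs, Y, _, _, _ => by
    rw [isWeaklyRegular_cons_iff]
    haveI : Subsingleton (QuotSMulTop r Y) := (Submodule.Quotient.mk_surjective _).subsingleton
    exact ⟨fun x y _ => Subsingleton.elim x y, isWeaklyRegular_of_subsingleton rs _⟩

theorem exists_isWeaklyRegular_of_le_idealDepth {L : Type u} [CommRing L] [IsNoetherianRing L] (I : Ideal L)
    (N : Type u) [AddCommGroup N] [Module L N] [Module.Finite L N] (c : ℕ)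
    (hc : (c : ℕ∞) ≤ LocCoh.idealDepth I N) :
    ∃ rs : List L, rs.length = c ∧ (∀ r ∈ rs, r ∈ I) ∧ IsWeaklyRegular N rs := by
  by_cases hI : I • (⊤ : Submodule L N) = ⊤
  · obtain ⟨r, hr, h0⟩ := Submodule.exists_sub_one_mem_and_smul_eq_zero_of_fg_of_le_smul I ⊤
      Module.Finite.fg_top hI.ge
    have ha : ∀ x : N, (1 - r) • x = x := fun x => by
      rw [sub_smul, one_smul, h0 x trivial, sub_zero]
    refine ⟨List.replicate c (1 - r), List.length_replicate, fun s hs => ?_, ?_⟩
    · rw [(List.mem_replicate.1 hs).2, show 1 - r = -(r - 1) by ring]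
      exact I.neg_mem hr
    · match c with
      | 0 => exact IsWeaklyRegular.nil L N
      | c + 1 =>
        rw [List.replicate_succ, isWeaklyRegular_cons_iff]
        refine ⟨fun x y h => by rw [← ha x, ← ha y]; exact h, ?_⟩
        have : Subsingleton (QuotSMulTop (1 - r) N) := subsingleton_of_forall_eq 0 fun q => by
          obtain ⟨x, rfl⟩ := Submodule.Quotient.mk_surjective _ q
          exact (Submodule.Quotient.mk_eq_zero _).2 ⟨x, trivial, ha x⟩
        exact isWeaklyRegular_of_subsingleton _ _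
  · exact (Depth.le_idealDepth_iff hI c).1 hc

section

variable (R A : Type u) [CommRing R] [CommRing A] [IsNoetherianRing R] [Algebra R A] [Algebra.FiniteType R A]
  (n : ℕ) (ψ : MvPolynomial (Fin n) R →ₐ[R] A)

/-- The depth of `P ⊗ M` at a point of a closed subscheme. -/
theorem le_depth_presentation_tensor (hψ : Function.Surjective ψ) (q : PrimeSpectrum A) (d : ℕ)
    (hd : FlatMor.fibreDimAt (Spec.map (CommRingCat.ofHom (algebraMap R A))) q ≤ (d : WithBot ℕ∞))
    (M : Type u) [AddCommGroup M] [Module R M] [Module.Finite R M] (Q : Ideal (MvPolynomial (Fin n) R)) [Q.IsPrime]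
    (hQ : Q = q.asIdeal.comap ψ.toRingHom) :
    ((n - d : ℕ) : ℕ∞) ≤ LocCoh.depth (Localization.AtPrime Q)
      (LocalizedModule Q.primeCompl (MvPolynomial (Fin n) R ⊗[R] M)) := by
  subst hQ
  obtain ⟨t, htd, ht⟩ := exists_trdeg_fibre_le R A q d hd
  haveI : (q.asIdeal.comap ψ.toRingHom).LiesOver (q.asIdeal.under R) := ⟨by
    ext r
    show algebraMap R A r ∈ q.asIdeal ↔ ψ (algebraMap R _ r) ∈ q.asIdeal
    rw [ψ.commutes]⟩
  let e : (MvPolynomial (Fin n) R ⧸ q.asIdeal.comap ψ.toRingHom) ≃+* A ⧸ q.asIdeal :=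
    RingEquiv.ofBijective (Ideal.quotientMap q.asIdeal ψ.toRingHom le_rfl)
      ⟨Ideal.quotientMap_injective, Ideal.quotientMap_surjective (H := le_rfl) hψ⟩
  have h1 := DimFormulaLib.trdeg_eq_of_ringEquiv (RingEquiv.refl (R ⧸ q.asIdeal.under R)) e (fun x => by
    obtain ⟨r, rfl⟩ := Ideal.Quotient.mk_surjective x
    exact (congrArg (Ideal.Quotient.mk q.asIdeal) (ψ.commutes r)).symm)
  exact le_trans (Nat.cast_le.2 (by omega : n - d ≤ n - t))
    (le_depth_polynomial_tensor R n (q.asIdeal.under R) _ t (h1.trans ht) M)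

end

end Groth.Agent.ShriekAlgLib
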