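import Groth.Agent.ShriekAlgLib.RegCoind
import Groth.Agent.ShriekAlgLib.Grade
import Groth.Agent.ShriekAlgLib.GradeTensor
import Groth.Agent.ShriekAlgLib.RightAdj
import Groth.Agent.ShriekAlgLib.Bounded
import Groth.Agent.DualCxLib.CoindD
import Groth.Agent.DualCxLib.LocBound
import Groth.Agent.LciH1Lib.Basic
import Groth.Agent.FibreDepth.FibIso
import Groth.Agent.CAlgBasics.ReflexiveDepth

/-!
# The bottom cohomology of a coinduced complex over a Cohen–Macaulay local ring
-/

set_option autoImplicit false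
set_option backward.isDefEq.respectTransparency false
set_option linter.style.haveILetI false
set_option maxRecDepth 4000

universe u

open CategoryTheory AlgebraicGeometry IsLocalRing RingTheory.Sequence
attribute [local instance] HasDerivedCategory.standard

noncomputable section

namespace Groth.Agent.ShriekAlgLib

open DRingLib DualCxLib

theorem nonempty_HK_zero_linearMap {L : Type u} [CommRing L] (N : Type u) [AddCommGroup N] [Module L N]
    (M : Type u) [AddCommGroup M] [Module L M] :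
    Nonempty (HK (Dual.inD L N) 0 M ≃ₗ[L] (M →ₗ[L] N)) :=
  ⟨(Abelian.Ext.homLinearEquiv (R := L) (X := ModuleCat.of L M) (Y := ModuleCat.of L N) (n := 0)).symm.trans
    ((Abelian.Ext.linearEquiv₀ (R := L)).trans ModuleCat.homLinearEquiv)⟩

theorem fibIso_coext_zero {L B : Type u} [CommRing L] [CommRing B] [Algebra L B]
    (hsurj : Function.Surjective (algebraMap L B)) (S : InjRep (Dual.inD L L)) :
    FibreDepth.FibIso L (B →ₗ[L] L) B (Dual.HD B (DRing.toD (S.coext B)) 0) := by
  obtain ⟨e, he⟩ := S.exists_HK_coext B B 0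
  obtain ⟨e'⟩ := nonempty_HD_equiv_rep (S.coextRep B) 0
  obtain ⟨e''⟩ := nonempty_HK_zero_linearMap (L := L) L B
  let E : (B →ₗ[L] L) ≃+ Dual.HD B (DRing.toD (S.coext B)) 0 :=
    (e''.symm.toAddEquiv.trans e.symm).trans e'.toAddEquiv
  refine ⟨algebraMap L B, hsurj, E, fun r φ => ?_⟩
  show e' (e.symm (e''.symm (r • φ))) = algebraMap L B r • e' (e.symm (e''.symm φ))
  rw [map_smul, ← map_smul e']
  refine congrArg e' (e.injective ?_)
  rw [he, e.apply_symm_apply, e.apply_symm_apply]

theorem min_supportDim_le_depth_linearMap {L : Type u} [CommRing L] [LocCoh.IsCohenMacaulayLocalRing L]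
    (M : Type u) [AddCommGroup M] [Module L M] [Module.Finite L M] :
    min (2 : WithBot ℕ∞) (Module.supportDim L (M →ₗ[L] L)) ≤
      ((LocCoh.depth L (M →ₗ[L] L) : ℕ∞) : WithBot ℕ∞) := by
  refine CAlgBasics.min_le_transfer (x := Module.supportDim L L) (d := LocCoh.depth L L) (k := 2) ?_ le_rfl
    CAlgBasics.one_le_depth_linearMap CAlgBasics.two_le_depth_linearMap
    ((min_le_right _ _).trans LocCoh.IsCohenMacaulayLocalRing.supportDim_eq_depth.le)
  rw [Module.supportDim_self_eq_ringKrullDim]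
  exact Module.supportDim_le_ringKrullDim L (M →ₗ[L] L)

theorem isCohenMacaulayLocalRing_quot {L : Type u} [CommRing L] [LocCoh.IsCohenMacaulayLocalRing L] (rs : List L)
    (hm : ∀ r ∈ rs, r ∈ maximalIdeal L) (hw : IsWeaklyRegular L rs) :
    LocCoh.IsCohenMacaulayLocalRing (L ⧸ Ideal.ofList rs) := by
  let J := Ideal.ofList rs
  have hJ : J ≤ maximalIdeal L := Ideal.span_le.2 hm
  haveI : Nontrivial (L ⧸ J) := Ideal.Quotient.nontrivial_iff.2
    (ne_top_of_le_ne_top (maximalIdeal.isMaximal L).ne_top hJ)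
  haveI : IsLocalRing (L ⧸ J) := .of_surjective' (Ideal.Quotient.mk J) Ideal.Quotient.mk_surjective
  have h := CMSeqLib.cm_congr
    (Submodule.quotEquivOfEq (Ideal.ofList rs • (⊤ : Submodule L L)) J ((Ideal.smul_eq_mul _ _).trans (Ideal.mul_top _)))
    (LciH1Lib.cm_quot_of_isWeaklyRegular rs L LocCoh.IsCohenMacaulayLocalRing.supportDim_eq_depth hm hw)
  refine { supportDim_eq_depth := ?_ }
  have hs : Function.Surjective (algebraMap L (L ⧸ J)) := Ideal.Quotient.mk_surjective
  rw [← FibreDepth.supportDim_of_surjective (X := L ⧸ J) hs, ← FibreDepth.depth_of_surjective (X := L ⧸ J) hs]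
  exact h

theorem min_supportDim_le_depth_coind {L B : Type u} [CommRing L] [LocCoh.IsCohenMacaulayLocalRing L]
    [CommRing B] [IsLocalRing B] (g : L →+* B) (hg : Function.Surjective g) {W : Dual.D B}
    (hW : IsCoind g (Dual.inD L L) W) (c : ℕ) (hc : (c : ℕ∞) ≤ LocCoh.idealDepth (RingHom.ker g) L) :
    Module.Finite B (Dual.HD B W c) ∧ min (2 : WithBot ℕ∞) (Module.supportDim B (Dual.HD B W c)) ≤
      ((LocCoh.depth B (Dual.HD B W c) : ℕ∞) : WithBot ℕ∞) := by
  obtain ⟨rs, hlen, hmem, hw⟩ := exists_isWeaklyRegular_of_le_idealDepth (RingHom.ker g) L c hc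
  let J := Ideal.ofList rs
  have hJ : J ≤ RingHom.ker g := Ideal.span_le.2 hmem
  let L' := L ⧸ J
  let g' : L' →+* B := Ideal.Quotient.lift J g fun a ha => RingHom.mem_ker.1 (hJ ha)
  have hg' : Function.Surjective g' := Ideal.Quotient.lift_surjective_of_surjective J _ hg
  have hm : ∀ r ∈ rs, r ∈ maximalIdeal L := fun r hr =>
    le_maximalIdeal (RingHom.ker_ne_top g) (hmem r hr)
  haveI := isCohenMacaulayLocalRing_quot rs hm hw
  letI : Algebra L' B := g'.toAlgebra
  haveI : Module.Finite L' B := Module.Finite.of_surjective (Algebra.linearMap L' B) hg'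
  have h1 := isCoind_regularSeq rs (Ideal.Quotient.mk J) Ideal.Quotient.mk_surjective hw Ideal.mk_ker
  haveI : (Dual.inD L' L').IsGE 0 :=
    inferInstanceAs (((DerivedCategory.singleFunctor (ModuleCat.{u} L') 0).obj _).IsGE 0)
  obtain ⟨S⟩ := DualCxLib.exists_injRep (Dual.inD L' L') 0
  obtain ⟨R, ⟨adj⟩⟩ := exists_rightAdjoint (algebraMap L' B)
  obtain ⟨eS⟩ := S.nonempty_coindIso B R adj
  let W' := DRing.toD (S.coext B)
  have h2 : IsCoind g' (Dual.inD L' L') W' := (isCoind_of_adj adj _).of_iso (Iso.refl _) eS.symm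
  have h3 := IsCoind.comp (Ideal.Quotient.lift_comp_mk J g (fun a ha => RingHom.mem_ker.1 (hJ ha))).symm h1
    (h2.shift (-(rs.length : ℤ)))
  obtain ⟨eW⟩ := hW.unique h3
  have eH : Dual.HD B W c ≃ₗ[B] Dual.HD B W' 0 :=
    ((DerivedCategory.homologyFunctor (ModuleCat.{u} B) (c : ℤ)).mapIso eW ≪≫
      hdShiftIso B W' (-(rs.length : ℤ)) c ≪≫
      eqToIso (congrArg (fun i => (DerivedCategory.homologyFunctor (ModuleCat.{u} B) i).obj W')
        (by rw [hlen]; omega : -(rs.length : ℤ) + (c : ℤ) = 0))).toLinearEquiv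
  have hF := fibIso_coext_zero hg' S
  refine ⟨haveI := hF.module_finite; Module.Finite.equiv eH.symm, ?_⟩
  rw [Module.supportDim_eq_of_equiv eH, CAlgBasics.depth_congr eH]
  haveI := hF.module_finite
  rw [← hF.supportDim_eq, ← hF.depth_eq]
  exact min_supportDim_le_depth_linearMap B

end Groth.Agent.ShriekAlgLib
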