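import Groth.Agent.DRingLib.DualPerfect
import Groth.Agent.DualCxLib.CoindD
import Groth.Agent.ShriekAlgLib.IsCoind
import Groth.Agent.ShriekAlgLib.RightAdj

/-!
# The restriction of a coinduced complex is a derived dual
-/

set_option autoImplicit false
set_option backward.isDefEq.respectTransparency false
set_option linter.style.haveILetI false

universe u

open CategoryTheory CategoryTheory.Limits CochainComplex.HomComplex
attribute [local instance] HasDerivedCategory.standard

noncomputable section

namespace Groth.Agent.ShriekAlgLib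

open DRingLib DCohLib DualCxLib

variable {P : Type u} [CommRing P] (A : Type u) [CommRing A] [Algebra P A] {K : Dual.D P} (S : InjRep K)

/-- The target module. -/
abbrev resMod : ModuleCat.{u} P :=
  (ModuleCat.restrictScalars.{u} (algebraMap P A)).obj (ModuleCat.of A A)

/-- The target module is the algebra. -/
def resModEquiv : resMod (P := P) A ≃ₗ[P] A where
  toFun := fun x => x
  invFun := fun x => x
  map_add' _ _ := rfl
  map_smul' c x := (Algebra.smul_def c (show A from x)).symm
  left_inv _ := rfl
  right_inv _ := rfl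

/-- Coextended elements as maps out of the target module. -/
def coextHom (i : ℤ) : (S.coext A).X i ≃+ (resMod (P := P) A ⟶ S.E.X i) :=
  (S.coextEquiv A i).trans
    (((resModEquiv (P := P) A).congrLeft (S.E.X i) P).symm.toAddEquiv.trans ModuleCat.homAddEquiv.symm)

theorem coextHom_apply (i : ℤ) (g : (S.coext A).X i) (q : A) :
    (coextHom A S i g).hom q = S.coextEquiv A i g q := rfl

/-- Maps out of the target module as cochains. -/
def coextTerm (i : ℤ) :
    (((DTen.resCx (algebraMap P A)).obj (S.coext A)).X i) ≃ₗ[P] Cochain (sng 0 (resMod (P := P) A)) S.E i :=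
  AddEquiv.toLinearEquiv ((coextHom A S i).trans (Cochain.fromSingleEquiv (zero_add i)).symm) fun c g => by
    refine (Cochain.fromSingleEquiv (zero_add i)).injective ?_
    refine ((Cochain.fromSingleEquiv (zero_add i)).apply_symm_apply _).trans ?_
    show _ = _ ≫ (c • Cochain.fromSingleMk (p := 0) (q := i) (coextHom A S i g) (zero_add i)).v 0 i (zero_add i)
    rw [Cochain.smul_v, Linear.comp_smul, Cochain.fromSingleMk_v, Iso.inv_hom_id_assoc]
    refine ModuleCat.hom_ext (LinearMap.ext fun (q : A) => ?_)
    refine (coextHom_apply A S i _ q).trans ?_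
    refine (S.coextEquiv_smul A i (algebraMap P A c) g q).trans ?_
    rw [show q * algebraMap P A c = c • q by rw [Algebra.smul_def, mul_comm], map_smul]
    rfl

/-- Restriction of the coinduced complex as a Hom complex. -/
def coextCxIso : (DTen.resCx (algebraMap P A)).obj (S.coext A) ≅ DRing.homCx (sng 0 (resMod (P := P) A)) S.E :=
  HomologicalComplex.Hom.isoOfComponents (fun i => (coextTerm A S i).toModuleIso) (fun i j hij => by
    obtain rfl : i + 1 = j := hij
    refine ModuleCat.hom_ext (LinearMap.ext fun g => ?_)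
    refine (Cochain.δ_fromSingleMk (K := S.E) (coextHom A S i g) (zero_add i) (i + 1) (i + 1) (zero_add _)).trans ?_
    exact congrArg (fun h => Cochain.fromSingleMk h (zero_add (i + 1)))
      (ModuleCat.hom_ext (LinearMap.ext fun (q : A) => (LinearMap.congr_fun (S.coextEquiv_d A i (i + 1) g) q).symm)))

theorem nonempty_res_coind (a : ℤ) [K.IsGE a] {W : Dual.D A} (hW : IsCoind (algebraMap P A) K W)
    (e : Dual.inD P P ≅ K) {F : DRing.Cx P} (hF : Bdd FProj F)
    (eF : DRing.toD F ≅ (DRing.restrictD (algebraMap P A)).obj (Dual.inD A A)) :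
    Nonempty ((DRing.restrictD (algebraMap P A)).obj W ≅ DRing.toD (dualCx F)) := by
  obtain ⟨R, ⟨adj⟩⟩ := exists_rightAdjoint (algebraMap P A)
  obtain ⟨S⟩ := DualCxLib.exists_injRep K a
  obtain ⟨c⟩ := S.nonempty_coindIso A R adj
  obtain ⟨d⟩ := hW.iso_adj adj
  haveI := hF.isKProjective projClass_fProj
  haveI := S.isKInjective
  let M := resMod (P := P) A
  obtain ⟨r⟩ := nonempty_restrictD_inD (algebraMap P A) (ModuleCat.of A A)
  obtain ⟨s, hs⟩ := Q_map_surjective F (sng 0 M) (eF ≪≫ r ≪≫ (singleQZeroIso M).symm).hom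
  haveI : IsIso (DerivedCategory.Q.map s) := hs ▸ inferInstance
  have hsq : QuasiIso s := (DerivedCategory.isIso_Q_map_iff_quasiIso (φ := s)).1 inferInstance
  obtain ⟨g, hg⟩ := (CochainComplex.IsKInjective.Qh_map_bijective
      ((HomotopyCategory.quotient (ModuleCat.{u} P) (ComplexShape.up ℤ)).obj (oneCx P)) S.E).2
    ((singleQZeroIso (ModuleCat.of P P)).hom ≫ e.hom ≫ S.iso.inv)
  obtain ⟨ι, rfl⟩ := (HomotopyCategory.quotient _ _).map_surjective g
  haveI : IsIso (DerivedCategory.Q.map ι) := by
    have h : DerivedCategory.Q.map ι = (singleQZeroIso (ModuleCat.of P P)).hom ≫ e.hom ≫ S.iso.inv := hg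
    rw [h]; infer_instance
  have hι : QuasiIso ι := (DerivedCategory.isIso_Q_map_iff_quasiIso (φ := ι)).1 inferInstance
  haveI := isIso_Q_of_qis _ (quasiIso_homCxPre s S.E hsq)
  haveI := isIso_Q_of_qis _ (quasiIso_homCxMap F ι hι)
  exact ⟨(DRing.restrictD (algebraMap P A)).mapIso (d.symm ≪≫ c.symm) ≪≫
    (DTen.resFactors (algebraMap P A)).app (S.coext A) ≪≫
    DerivedCategory.Q.mapIso (coextCxIso A S) ≪≫ asIso (DerivedCategory.Q.map (homCxPre s S.E)) ≪≫
    (asIso (DerivedCategory.Q.map (DRing.homCxMap F ι))).symm⟩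

end Groth.Agent.ShriekAlgLib
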