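import Groth.Agent.ShriekAlgLib.Invert
import Groth.Agent.ShriekAlgLib.ResCoind
import Groth.Agent.DRingLib.RestrictPC
import Groth.Agent.DRingLib.FlatCoker
import Mathlib.RingTheory.Regular.RegularSequence

/-!
# Coinduction along quotients by regular sequences
-/

set_option autoImplicit false
set_option backward.isDefEq.respectTransparency false
set_option linter.style.haveILetI false

universe u

open CategoryTheory CategoryTheory.Limits CochainComplex.HomComplex RingTheory.Sequence
open scoped Pointwise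
attribute [local instance] HasDerivedCategory.standard

noncomputable section

namespace Groth.Agent.ShriekAlgLib

open DRingLib DCohLib

variable {S : Type u} [CommRing S]

theorem nonempty_top_homology (K : DRing.Cx S) (i : ℤ) (h : IsZero (K.X (i + 1))) :
    Nonempty ((K.X i ⧸ LinearMap.range (K.d (i - 1) i).hom) ≃ₗ[S] Dual.HD S (DRing.toD K) i) := by
  obtain ⟨eOp⟩ := opcycles_equiv K i
  haveI : IsIso (K.homologyι i) := K.isIso_homologyι i (i + 1) (by simp) (h.eq_of_tgt _ _)
  exact ⟨eOp.trans ((asIso (K.homologyι i)).symm ≪≫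
    ((DerivedCategory.homologyFunctorFactors (ModuleCat.{u} S) i).app K).symm).toLinearEquiv⟩

theorem subsingleton_HD_of_exactAt (K : DRing.Cx S) (i : ℤ) (h : K.ExactAt i) :
    Subsingleton (Dual.HD S (DRing.toD K) i) :=
  ModuleCat.subsingleton_of_isZero ((exactAt_iff_isZero_homologyFunctor K i).1 h)

/-- The two term complex of multiplication by an element, in degrees `-1, 0`. -/
abbrev mulCx (x : S) : DRing.Cx S :=
  HomologicalComplex.double (X₀ := ModuleCat.of S S) (X₁ := ModuleCat.of S S)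
    (ModuleCat.ofHom (x • LinearMap.id)) (show (ComplexShape.up ℤ).Rel (-1) 0 by simp)

/-- The degree `-1` term. -/
def mulCxX₁ (x : S) : (mulCx x).X (-1) ≅ ModuleCat.of S S :=
  HomologicalComplex.doubleXIso₀ _ _

/-- The degree `0` term. -/
def mulCxX₀ (x : S) : (mulCx x).X 0 ≅ ModuleCat.of S S :=
  HomologicalComplex.doubleXIso₁ _ _ (by omega)

theorem mulCx_d (x : S) : (mulCx x).d (-1) 0 =
    (mulCxX₁ x).hom ≫ ModuleCat.ofHom (x • LinearMap.id) ≫ (mulCxX₀ x).inv :=
  HomologicalComplex.double_d _ _ (by omega)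

theorem mulCx_d_apply (x : S) (v : (mulCx x).X (-1)) :
    (mulCxX₀ x).hom.hom (((mulCx x).d (-1) 0).hom v) = x * (mulCxX₁ x).hom.hom v := by
  have h : (mulCx x).d (-1) 0 ≫ (mulCxX₀ x).hom = (mulCxX₁ x).hom ≫ ModuleCat.ofHom (x • LinearMap.id) := by
    rw [mulCx_d, Category.assoc, Category.assoc, Iso.inv_hom_id, Category.comp_id]
  exact congr($(h).hom v)

theorem mulCx_vanishes (x : S) : DRing.VanishesOutside (mulCx x) (-1) 0 := fun i hi =>
  HomologicalComplex.isZero_double_X _ _ i (by omega) (by omega)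

theorem mulCx_bdd (x : S) : Bdd FProj (mulCx x) := by
  refine ⟨⟨-1, 0, mulCx_vanishes x⟩, fun i => ?_⟩
  by_cases h1 : i = -1
  · subst h1
    exact ⟨Module.Finite.equiv (mulCxX₁ x).toLinearEquiv.symm,
      Module.Projective.of_equiv (mulCxX₁ x).toLinearEquiv.symm⟩
  by_cases h0 : i = 0
  · subst h0
    exact ⟨Module.Finite.equiv (mulCxX₀ x).toLinearEquiv.symm,
      Module.Projective.of_equiv (mulCxX₀ x).toLinearEquiv.symm⟩
  exact projClass_fProj.zero (mulCx_vanishes x i (by omega))

/-- The quotient of a ring map by a principal kernel. -/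
def quotSpanEquiv {B : Type u} [CommRing B] [Algebra S B] (hf : Function.Surjective (algebraMap S B)) (x : S)
    (hk : RingHom.ker (algebraMap S B) = Ideal.span {x}) :
    (S ⧸ (Ideal.span {x} : Submodule S S)) ≃ₗ[S] resMod (P := S) B :=
  ((Submodule.quotEquivOfEq _ _ (by rw [← hk]; rfl)).trans
    ((Algebra.linearMap S B).quotKerEquivOfSurjective hf)).trans (resModEquiv (P := S) B).symm

theorem nonempty_mulCx_iso {B : Type u} [CommRing B] [Algebra S B] (hf : Function.Surjective (algebraMap S B))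
    {x : S} (hx : IsSMulRegular S x) (hk : RingHom.ker (algebraMap S B) = Ideal.span {x}) :
    Nonempty (DRing.toD (mulCx x) ≅ Dual.inD S (resMod (P := S) B)) := by
  obtain ⟨e⟩ := nonempty_top_homology (mulCx x) 0 (mulCx_vanishes x _ (by omega))
  refine nonempty_iso_inD (fun i hi => subsingleton_HD_of_exactAt _ i ?_) ?_
  · by_cases h1 : i = -1
    · subst h1
      rw [HomologicalComplex.exactAt_iff' _ (-1 - 1) (-1) 0 (by simp) (by simp), ShortComplex.moduleCat_exact_iff]
      intro v hv
      have h0 : x * (mulCxX₁ x).hom.hom v = 0 := by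
        rw [← mulCx_d_apply, show ((mulCx x).d (-1) 0).hom v = 0 from hv, map_zero]
      have hv0 : (mulCxX₁ x).hom.hom v = 0 := hx ((show x • (mulCxX₁ x).hom.hom v = 0 from h0).trans (smul_zero x).symm)
      refine ⟨0, ?_⟩
      rw [map_zero]
      exact ((mulCxX₁ x).toLinearEquiv.injective (hv0.trans (map_zero _).symm)).symm
    · exact HomologicalComplex.ExactAt.of_isZero (mulCx_vanishes x i (by omega))
  · refine e.symm.trans ((Submodule.Quotient.equiv _ _ (mulCxX₀ x).toLinearEquiv ?_).trans (quotSpanEquiv hf x hk))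
    have h01 : (0 : ℤ) - 1 = -1 := by norm_num
    rw [h01]
    ext w
    rw [Submodule.mem_map, Ideal.mem_span_singleton']
    constructor
    · rintro ⟨_, ⟨v, rfl⟩, rfl⟩
      exact ⟨(mulCxX₁ x).hom.hom v, (mul_comm _ _).trans (mulCx_d_apply x v).symm⟩
    · rintro ⟨a, rfl⟩
      refine ⟨_, ⟨(mulCxX₁ x).inv.hom a, rfl⟩, (mulCx_d_apply x _).trans ?_⟩
      rw [show (mulCxX₁ x).hom.hom ((mulCxX₁ x).inv.hom a) = a from congr($((mulCxX₁ x).inv_hom_id).hom a)]
      exact mul_comm _ _

/-- Degree one of the dual of `mulCx x`. -/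
def dualMulX₁ (x : S) : (dualCx (mulCx x)).X 1 ≃ₗ[S] S :=
  (dualE (P := mulCx x) (show (-1 : ℤ) + 1 = 0 by norm_num)).trans
    ((mulCxX₁ x).toLinearEquiv.symm.dualMap.trans (LinearMap.ringLmapEquivSelf S S S))

theorem dualMulX₁_apply (x : S) (z : (dualCx (mulCx x)).X 1) :
    dualMulX₁ x z = dualE (P := mulCx x) (show (-1 : ℤ) + 1 = 0 by norm_num) z ((mulCxX₁ x).inv.hom (1 : S)) := rfl

theorem dualMulX₁_d (x : S) (z : (dualCx (mulCx x)).X 0) :
    dualMulX₁ x (((dualCx (mulCx x)).d 0 1).hom z) =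
      -(x * dualE (P := mulCx x) (show (0 : ℤ) + 0 = 0 by norm_num) z ((mulCxX₀ x).inv.hom (1 : S))) := by
  rw [dualMulX₁_apply]
  refine (dualE_d (P := mulCx x) (show (0 : ℤ) + 0 = 0 by norm_num) (show (-1 : ℤ) + 1 = 0 by norm_num) rfl z _).trans ?_
  have hd : ((mulCx x).d (-1) 0).hom ((mulCxX₁ x).inv.hom (1 : S)) = x • (mulCxX₀ x).inv.hom (1 : S) := by
    refine (mulCxX₀ x).toLinearEquiv.injective ?_
    refine (mulCx_d_apply x _).trans ?_
    rw [map_smul]
    show x * (mulCxX₁ x).hom.hom ((mulCxX₁ x).inv.hom (1 : S)) = x * (mulCxX₀ x).hom.hom ((mulCxX₀ x).inv.hom (1 : S))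
    rw [show (mulCxX₁ x).hom.hom ((mulCxX₁ x).inv.hom (1 : S)) = 1 from congr($((mulCxX₁ x).inv_hom_id).hom (1 : S)),
      show (mulCxX₀ x).hom.hom ((mulCxX₀ x).inv.hom (1 : S)) = 1 from congr($((mulCxX₀ x).inv_hom_id).hom (1 : S))]
  rw [hd, map_smul, smul_eq_mul]
  simp

theorem isCoind_mul_step {B : Type u} [CommRing B] (f : S →+* B) (hf : Function.Surjective f) {x : S}
    (hx : IsSMulRegular S x) (hk : RingHom.ker f = Ideal.span {x}) :
    IsCoind f (Dual.inD S S) ((Dual.inD B B)⟦(-1 : ℤ)⟧) := by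
  letI := f.toAlgebra
  obtain ⟨L, hL⟩ := exists_isCoind f (Dual.inD S S)
  refine hL.of_iso (Iso.refl _) (Classical.choice ?_)
  obtain ⟨eF⟩ := nonempty_mulCx_iso (B := B) hf hx hk
  obtain ⟨r⟩ := nonempty_restrictD_inD (algebraMap S B) (ModuleCat.of B B)
  haveI : (Dual.inD S S).IsGE 0 :=
    inferInstanceAs (((DerivedCategory.singleFunctor (ModuleCat.{u} S) 0).obj _).IsGE 0)
  obtain ⟨eL⟩ := nonempty_res_coind B 0 (W := L) hL (Iso.refl _) (mulCx_bdd x) (eF ≪≫ r.symm)
  let D := dualCx (mulCx x)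
  have hDz : ∀ i : ℤ, i ≠ 0 → i ≠ 1 → IsZero (D.X i) := fun i h0 h1 => by
    haveI : Subsingleton ((mulCx x).X (-i)) := ModuleCat.subsingleton_of_isZero (mulCx_vanishes x _ (by omega))
    haveI : Subsingleton (Module.Dual S ((mulCx x).X (-i))) :=
      ⟨fun φ ψ => LinearMap.ext fun v => by rw [Subsingleton.elim v 0, map_zero, map_zero]⟩
    haveI : Subsingleton (Cochain (mulCx x) (oneCx S) i) :=
      (dualE (P := mulCx x) (neg_add_cancel i)).toEquiv.subsingleton
    exact ModuleCat.isZero_of_subsingleton (ModuleCat.of S (Cochain (mulCx x) (oneCx S) i))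
  have hD : ∀ i : ℤ, i ≠ 1 → D.ExactAt i := fun i hi => by
    by_cases h0 : i = 0
    · subst h0
      rw [HomologicalComplex.exactAt_iff' _ (-1) 0 1 (by simp) (by simp), ShortComplex.moduleCat_exact_iff]
      intro z hz
      refine ⟨0, ?_⟩
      rw [map_zero]
      symm
      have h1 : x * dualE (P := mulCx x) (show (0 : ℤ) + 0 = 0 by norm_num) z ((mulCxX₀ x).inv.hom (1 : S)) = 0 := by
        rw [← neg_eq_zero, ← dualMulX₁_d, show (D.d 0 1).hom z = 0 from hz, map_zero]
      refine (dualE (P := mulCx x) (show (0 : ℤ) + 0 = 0 by norm_num)).injective ?_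
      rw [map_zero]
      refine LinearMap.ext fun v => ?_
      have hv : v = (mulCxX₀ x).hom.hom v • (mulCxX₀ x).inv.hom (1 : S) := by
        rw [← map_smul, smul_eq_mul, mul_one]
        exact (congr($((mulCxX₀ x).hom_inv_id).hom v)).symm
      rw [LinearMap.zero_apply, hv, map_smul, show dualE (P := mulCx x) (show (0 : ℤ) + 0 = 0 by norm_num) z
        ((mulCxX₀ x).inv.hom (1 : S)) = 0 from hx ((show x • _ = (0 : S) from h1).trans (smul_zero x).symm), smul_zero]
    · exact HomologicalComplex.ExactAt.of_isZero (hDz i h0 hi)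
  obtain ⟨e1⟩ := nonempty_top_homology D 1 (hDz _ (by omega) (by omega))
  have hq : (LinearMap.range (D.d (1 - 1) 1).hom).map (dualMulX₁ x).toLinearMap = Ideal.span {x} := by
    have h10 : (1 : ℤ) - 1 = 0 := by norm_num
    rw [h10]
    ext w
    rw [Submodule.mem_map, Ideal.mem_span_singleton']
    constructor
    · rintro ⟨_, ⟨z, rfl⟩, rfl⟩
      refine ⟨-dualE (P := mulCx x) (show (0 : ℤ) + 0 = 0 by norm_num) z ((mulCxX₀ x).inv.hom (1 : S)), ?_⟩
      refine Eq.trans ?_ (dualMulX₁_d x z).symm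
      ring
    · rintro ⟨a, rfl⟩
      let z : D.X 0 := (dualE (P := mulCx x) (show (0 : ℤ) + 0 = 0 by norm_num)).symm
        ((-a) • (mulCxX₀ x).hom.hom)
      refine ⟨_, ⟨z, rfl⟩, (dualMulX₁_d x z).trans ?_⟩
      rw [LinearEquiv.apply_symm_apply, LinearMap.smul_apply,
        show (mulCxX₀ x).hom.hom ((mulCxX₀ x).inv.hom (1 : S)) = (1 : S) from congr($((mulCxX₀ x).inv_hom_id).hom (1 : S)),
        smul_eq_mul]
      ring
  have hH : ∀ i : ℤ, Nonempty ((ModuleCat.restrictScalars.{u} (algebraMap S B)).obj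
      ((DerivedCategory.homologyFunctor (ModuleCat.{u} B) i).obj L) ≃ₗ[S] Dual.HD S (DRing.toD D) i) := fun i =>
    ⟨((hdRestrictIso (algebraMap S B) L i).symm ≪≫
      (DerivedCategory.homologyFunctor (ModuleCat.{u} S) i).mapIso eL).toLinearEquiv⟩
  obtain ⟨ei⟩ := hH 1
  refine nonempty_iso_inD_shift (-1) 1 (by norm_num) (fun i hi => ?_) ?_
  · obtain ⟨ej⟩ := hH i
    haveI := subsingleton_HD_of_exactAt D i (hD i hi)
    exact ej.toEquiv.subsingleton
  · let ε : (ModuleCat.restrictScalars.{u} (algebraMap S B)).obj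
        ((DerivedCategory.homologyFunctor (ModuleCat.{u} B) 1).obj L) ≃ₗ[S] resMod (P := S) B :=
      ei.trans (e1.symm.trans ((Submodule.Quotient.equiv _ _ (dualMulX₁ x) hq).trans (quotSpanEquiv hf x hk)))
    exact
      { toFun := fun v => ε v
        invFun := fun b => ε.symm b
        left_inv := ε.left_inv
        right_inv := ε.right_inv
        map_add' := map_add ε
        map_smul' := fun b v => by
          obtain ⟨s, rfl⟩ := hf b
          exact map_smul ε s (show (ModuleCat.restrictScalars.{u} (algebraMap S B)).obj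
            ((DerivedCategory.homologyFunctor (ModuleCat.{u} B) 1).obj L) from v) }

theorem isCoind_bijective {B : Type u} [CommRing B] (f : S →+* B) (hf : Function.Bijective f) :
    IsCoind f (Dual.inD S S) (Dual.inD B B) := by
  let e := RingEquiv.ofBijective f hf
  let g : B →+* S := e.symm.toRingHom
  have h1 : RingHom.id S = g.comp f := RingHom.ext fun s => (e.symm_apply_apply s).symm
  have h2 : RingHom.id B = f.comp g := RingHom.ext fun b => (e.apply_symm_apply b).symm
  let E : Dual.D B ≌ Dual.D S := CategoryTheory.Equivalence.mk (DRing.restrictD f) (DRing.restrictD g)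
    ((resDId (RingHom.id B) rfl).symm ≪≫ (resDComp g f (RingHom.id B) h2).symm)
    (resDComp f g (RingHom.id S) h1 ≪≫ resDId (RingHom.id S) rfl)
  obtain ⟨r⟩ := nonempty_restrictD_inD f (ModuleCat.of B B)
  let θ : (ModuleCat.restrictScalars.{u} f).obj (ModuleCat.of B B) ≅ ModuleCat.of S S :=
    LinearEquiv.toModuleIso (X₁ := (ModuleCat.restrictScalars.{u} f).obj (ModuleCat.of B B)) (X₂ := S)
      { toFun := fun b => e.symm b
        invFun := fun s => e s
        map_add' := fun a b => map_add e.symm a b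
        map_smul' := fun s b => by
          show e.symm (f s * (show B from b)) = s * e.symm b
          rw [map_mul, show e.symm (f s) = s from e.symm_apply_apply s]
        left_inv := e.apply_symm_apply
        right_inv := e.symm_apply_apply }
  let ι := r ≪≫ (DerivedCategory.singleFunctor (ModuleCat.{u} S) 0).mapIso θ
  refine ⟨ι.hom, fun X => ?_⟩
  convert (ι.homToEquiv (Z := (DRing.restrictD f).obj X)).bijective.comp
    (E.fullyFaithfulFunctor.map_bijective X (Dual.inD B B)) using 1
  funext φ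
  rfl

theorem isCoind_regularSeq : ∀ (rs : List S) {B : Type u} [CommRing B] (f : S →+* B),
    Function.Surjective f → IsWeaklyRegular S rs → RingHom.ker f = Ideal.ofList rs →
      IsCoind f (Dual.inD S S) ((Dual.inD B B)⟦-(rs.length : ℤ)⟧) := by
  intro rs
  induction hn : rs.length generalizing S with
  | zero =>
    intro B _ f hf _ hk
    obtain rfl := List.length_eq_zero_iff.1 hn
    exact (isCoind_bijective f ⟨(RingHom.injective_iff_ker_eq_bot f).2 (by rw [hk, Ideal.ofList_nil]), hf⟩).of_iso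
      (Iso.refl _) ((shiftFunctorZero' (Dual.D B) (-((0 : ℕ) : ℤ)) (by simp)).app (Dual.inD B B)).symm
  | succ k ih =>
    intro B _ f hf hreg hk
    obtain ⟨r, rs, rfl⟩ := List.exists_cons_of_length_eq_add_one hn
    obtain ⟨hr, hrs⟩ := (isWeaklyRegular_cons_iff' S r rs).1 hreg
    let J : Ideal S := Ideal.span {r}
    let q : S →+* S ⧸ J := Ideal.Quotient.mk J
    have hJ : ∀ a ∈ J, f a = 0 := fun a ha => RingHom.mem_ker.1 (hk ▸ Ideal.span_mono (fun _ h => by
      rw [Set.mem_singleton_iff.1 h]; exact List.mem_cons_self) ha)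
    let f₁ : S ⧸ J →+* B := Ideal.Quotient.lift J f hJ
    have hf₁ : Function.Surjective f₁ := Ideal.Quotient.lift_surjective_of_surjective J hJ hf
    have hk₁ : RingHom.ker f₁ = Ideal.ofList (rs.map q) := by
      rw [Ideal.ker_quotient_lift, hk, Ideal.ofList_cons, Ideal.map_sup, Ideal.map_ofList]
      simp [J, Ideal.map_quotient_self]
      rfl
    have hrs' : IsWeaklyRegular (S ⧸ J) (rs.map q) := by
      have hJ' : (r • ⊤ : Submodule S S) = J := by
        ext y
        rw [Submodule.mem_smul_pointwise_iff_exists, Ideal.mem_span_singleton']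
        exact ⟨fun ⟨z, _, h⟩ => ⟨z, by rw [mul_comm]; exact h⟩,
          fun ⟨z, h⟩ => ⟨z, trivial, by rw [smul_eq_mul, mul_comm]; exact h⟩⟩
      let ω : QuotSMulTop r S ≃ₗ[S] S ⧸ J := Submodule.quotEquivOfEq _ _ hJ'
      exact (LinearEquiv.isWeaklyRegular_congr
        (LinearEquiv.extendScalarsOfSurjective (R := S) (S := S ⧸ J) Ideal.Quotient.mk_surjective ω) _).1 hrs
    have h1 := isCoind_mul_step q Ideal.Quotient.mk_surjective hr Ideal.mk_ker
    have hlen : (rs.map q).length = k := by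
      rw [List.length_map]
      simpa using hn
    have h2 := (ih (rs.map q) hlen f₁ hf₁ hrs' hk₁).shift (-1)
    exact (IsCoind.comp (h := f) (Ideal.Quotient.lift_comp_mk J f hJ).symm h1 h2).of_iso (Iso.refl _)
      ((shiftFunctorAdd' (Dual.D B) (-(k : ℤ)) (-1) (-((k + 1 : ℕ) : ℤ)) (by push_cast; ring)).app _).symm

end Groth.Agent.ShriekAlgLib
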