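import Groth.Agent.ShriekAlgLib.Comp

/-!
# The upper shriek and flat base change
-/

set_option autoImplicit false
set_option backward.isDefEq.respectTransparency false
set_option linter.style.haveILetI false

universe u

open CategoryTheory Limits
open scoped TensorProduct
attribute [local instance] HasDerivedCategory.standard MvPolynomial.algebraMvPolynomial
  Algebra.TensorProduct.rightAlgebra

noncomputable section

namespace Groth.Agent.ShriekAlgLib

open DRingLib DCohLib DTenLib DualCxLib

theorem shriekVia_flat_baseChange (R R' A : Type u) [CommRing R] [CommRing R'] [CommRing A] [IsNoetherianRing R]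
    [Algebra R R'] [Module.Flat R R'] [Algebra R A] (n : ℕ) (ψ : MvPolynomial (Fin n) R →ₐ[R] A)
    (hψ : Function.Surjective ψ) [DRing.HasLBaseChange (algebraMap R (MvPolynomial (Fin n) R))]
    (Rψ : Dual.D (MvPolynomial (Fin n) R) ⥤ Dual.D A) (adj : DRing.restrictD ψ.toRingHom ⊣ Rψ) (m : ℕ)
    (ψ' : MvPolynomial (Fin m) R' →ₐ[R'] (R' ⊗[R] A)) (hψ' : Function.Surjective ψ')
    [DRing.HasLBaseChange (algebraMap R' (MvPolynomial (Fin m) R'))]
    (Rψ' : Dual.D (MvPolynomial (Fin m) R') ⥤ Dual.D (R' ⊗[R] A)) (adj' : DRing.restrictD ψ'.toRingHom ⊣ Rψ')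
    [DRing.HasLBaseChange (algebraMap A (R' ⊗[R] A))] [DRing.HasLBaseChange (algebraMap R R')]
    (K : Dual.D R) (c : ℤ) [K.IsGE c] :
    Nonempty ((DRing.LBaseChange (algebraMap A (R' ⊗[R] A))).obj (Dual2.shriekVia n Rψ K) ≅
      Dual2.shriekVia m Rψ' ((DRing.LBaseChange (algebraMap R R')).obj K)) := by
  let P := MvPolynomial (Fin n) R
  let P' := MvPolynomial (Fin n) R'
  let A' := R' ⊗[R] A
  letI : Algebra P A := ψ.toRingHom.toAlgebra
  haveI : IsScalarTower R P A := .of_algebraMap_eq fun r => (ψ.commutes r).symm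
  haveI : Module.Finite P A := Module.Finite.of_surjective (Algebra.linearMap P A) hψ
  let ψ'' : P' →ₐ[R'] A' := MvPolynomial.aeval fun i => algebraMap A A' (ψ (MvPolynomial.X i))
  letI : Algebra P' A' := ψ''.toRingHom.toAlgebra
  letI : Algebra P A' := ((algebraMap A A').comp (algebraMap P A)).toAlgebra
  haveI : IsScalarTower P A A' := .of_algebraMap_eq fun _ => rfl
  haveI : IsScalarTower R' P' A' := .of_algebraMap_eq fun r => (ψ''.commutes r).symm
  haveI : IsScalarTower R P A' := .of_algebraMap_eq fun r => by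
    rw [IsScalarTower.algebraMap_apply R A A', IsScalarTower.algebraMap_apply R P A]
    rfl
  haveI : IsScalarTower P P' A' := .of_algebraMap_eq fun p => by
    refine RingHom.congr_fun (f := algebraMap P A') (g := ψ''.toRingHom.comp (algebraMap P P')) ?_ p
    refine MvPolynomial.ringHom_ext (fun r => ?_) fun i => ?_
    · show algebraMap P A' (algebraMap R P r) = ψ'' (MvPolynomial.map (algebraMap R R') (MvPolynomial.C r))
      rw [← IsScalarTower.algebraMap_apply R P A', MvPolynomial.map_C, IsScalarTower.algebraMap_apply R R' A']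
      exact (ψ''.commutes _).symm
    · show algebraMap A A' (ψ (MvPolynomial.X i)) = ψ'' (MvPolynomial.map (algebraMap R R') (MvPolynomial.X i))
      rw [MvPolynomial.map_X, MvPolynomial.aeval_X]
  haveI : IsScalarTower R P' A' := .of_algebraMap_eq fun r => by
    rw [IsScalarTower.algebraMap_apply R R' A', IsScalarTower.algebraMap_apply R R' P',
      ← IsScalarTower.algebraMap_apply R' P' A']
  haveI hPA : Algebra.IsPushout P A P' A' :=
    (Algebra.IsPushout.comp_iff R P R' (S' := P') (T := A) (T' := A')).1 inferInstance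
  haveI : Algebra.IsPushout P P' A A' := hPA.symm
  haveI : Module.Flat R' P' := inferInstance
  haveI : Module.Flat P P' :=
    Module.Flat.isBaseChange R P R' P' (f := (IsScalarTower.toAlgHom R R' P').toLinearMap)
      (Algebra.IsPushout.out (R := R) (S := P) (R' := R') (S' := P'))
  haveI : Module.Flat A A' := flat_of_isPushout P P' A A'
  haveI : DRing.HasLBaseChange (algebraMap P P') := DRingLib.hasLBaseChange _
  haveI : DRing.HasLBaseChange (algebraMap R P') := DRingLib.hasLBaseChange _
  haveI : DRing.HasLBaseChange (algebraMap R' P') := DRingLib.hasLBaseChange _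
  let L := (DRing.LBaseChange (algebraMap R P)).obj K
  haveI : L.IsGE c := DualCxLib.isGE_bcD R P K c
  have h1 := isCoind_flatBC P P' A A' L (Rψ.obj L) (isCoind_of_adj adj L) (bijective_bcΦ_finite P P' A L c)
  obtain ⟨e₁⟩ := nonempty_lbc_comp' (algebraMap R P) (algebraMap P P') (algebraMap R P')
    (IsScalarTower.algebraMap_eq R P P').symm K
  obtain ⟨e₂⟩ := nonempty_lbc_comp' (algebraMap R R') (algebraMap R' P') (algebraMap R P')
    (IsScalarTower.algebraMap_eq R R' P').symm K
  have hs : Function.Surjective ψ'' := by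
    intro x
    induction x using TensorProduct.induction_on with
    | zero => exact ⟨0, map_zero ψ''⟩
    | tmul r a =>
      obtain ⟨p, rfl⟩ := hψ a
      refine ⟨algebraMap R' P' r * algebraMap P P' p, ?_⟩
      rw [map_mul, show ψ'' (algebraMap P P' p) = algebraMap P A' p from
        (IsScalarTower.algebraMap_apply P P' A' p).symm, ψ''.commutes]
      show (r ⊗ₜ[R] (1 : A)) * ((1 : R') ⊗ₜ[R] ψ p) = r ⊗ₜ[R] ψ p
      rw [Algebra.TensorProduct.tmul_mul_tmul, mul_one, one_mul]
    | add x y hx hy =>
      obtain ⟨p, rfl⟩ := hx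
      obtain ⟨q, rfl⟩ := hy
      exact ⟨p + q, map_add ψ'' p q⟩
  obtain ⟨e⟩ := shriekVia_iso_of_isCoind m ψ' hψ' Rψ' adj' n ψ'' hs ((DRing.LBaseChange (algebraMap R R')).obj K) _
    (h1.of_iso (e₁ ≪≫ e₂.symm) (Iso.refl _))
  exact ⟨bcShiftIso A A' (Rψ.obj L) n ≪≫ e.symm⟩

end Groth.Agent.ShriekAlgLib
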