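import Groth.Agent.ShriekAlgLib.FlatCoind
import Groth.Agent.ShriekAlgLib.Poly
import Mathlib.RingTheory.TensorProduct.MvPolynomial
import Mathlib.RingTheory.IntegralClosure.IsIntegral.Basic
import Mathlib.RingTheory.AdjoinRoot

/-!
# The upper shriek of a finite map
-/

set_option autoImplicit false
set_option backward.isDefEq.respectTransparency false
set_option linter.style.haveILetI false

universe u

open CategoryTheory Limits
attribute [local instance] HasDerivedCategory.standard MvPolynomial.algebraMvPolynomial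

noncomputable section

namespace Groth.Agent.ShriekAlgLib

open DRingLib DCohLib DTenLib DualCxLib

/-- A finite free algebra covering prescribed elements of a finite algebra. -/
theorem exists_free_cover (R A : Type u) [CommRing R] [CommRing A] [Algebra R A] [Module.Finite R A] :
    ∀ (n : ℕ) (a : Fin n → A), ∃ (F : Type u) (_ : CommRing F) (_ : Algebra R F),
      Module.Free R F ∧ Module.Finite R F ∧ ∃ (π : F →ₐ[R] A) (c : Fin n → F), ∀ i, π (c i) = a i
  | 0, a => ⟨R, inferInstance, inferInstance, inferInstance, inferInstance, Algebra.ofId R A, fun i => i.elim0,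
      fun i => i.elim0⟩
  | n + 1, a => by
    obtain ⟨F, _, _, hfree, hfin, π, c, hc⟩ := exists_free_cover R A n (fun i => a i.succ)
    obtain ⟨p, hp, hpa⟩ := IsIntegral.of_finite R (a 0)
    let q := p.map (algebraMap R F)
    have hq : q.Monic := hp.map _
    haveI := hq.free_adjoinRoot
    haveI := hq.finite_adjoinRoot
    haveI : Module.Free R (AdjoinRoot q) := Module.Free.trans (R := R) (S := F) (M := AdjoinRoot q)
    haveI : Module.Finite R (AdjoinRoot q) := Module.Finite.trans F (AdjoinRoot q)
    have hev : q.eval₂ π.toRingHom (a 0) = 0 := by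
      show (p.map (algebraMap R F)).eval₂ π.toRingHom (a 0) = 0
      rw [Polynomial.eval₂_map, π.toRingHom_eq_coe, π.comp_algebraMap]
      exact hpa
    let π' : AdjoinRoot q →ₐ[R] A :=
      { AdjoinRoot.lift π.toRingHom (a 0) hev with
        commutes' := fun r => by
          show AdjoinRoot.lift π.toRingHom (a 0) hev (algebraMap R (AdjoinRoot q) r) = _
          rw [IsScalarTower.algebraMap_apply R F (AdjoinRoot q), AdjoinRoot.algebraMap_eq, AdjoinRoot.lift_of]
          exact π.commutes r }
    refine ⟨AdjoinRoot q, inferInstance, inferInstance, inferInstance, inferInstance, π',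
      Fin.cases (AdjoinRoot.root q) (fun i => AdjoinRoot.of q (c i)), fun i => ?_⟩
    refine Fin.cases ?_ (fun j => ?_) i
    · exact AdjoinRoot.lift_root hev
    · exact (AdjoinRoot.lift_of hev).trans (hc j)

theorem isCoind_polyBC (R F : Type u) [CommRing R] [CommRing F] [Algebra R F] (n : ℕ)
    [DRing.HasLBaseChange (algebraMap R (MvPolynomial (Fin n) R))]
    [DRing.HasLBaseChange (MvPolynomial.C : F →+* MvPolynomial (Fin n) F)] {K : Dual.D R} {M : Dual.D F}
    (h : IsCoind (algebraMap R F) K M)
    (hK : ∀ k : ℤ, Function.Bijective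
      (bcΦ R (MvPolynomial (Fin n) R) ((DRing.restrictD (algebraMap R F)).obj (DRing.toD (sng k (ModuleCat.of F F)))) K)) :
    IsCoind (MvPolynomial.map (algebraMap R F))
      ((DRing.LBaseChange (algebraMap R (MvPolynomial (Fin n) R))).obj K)
      ((DRing.LBaseChange (MvPolynomial.C : F →+* MvPolynomial (Fin n) F)).obj M) := by
  haveI : DRing.HasLBaseChange (algebraMap F (MvPolynomial (Fin n) F)) :=
    ‹DRing.HasLBaseChange (MvPolynomial.C : F →+* MvPolynomial (Fin n) F)›
  exact isCoind_flatBC R (MvPolynomial (Fin n) R) F (MvPolynomial (Fin n) F) K M h hK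

/-- Restriction of a shifted unit. -/
def resSngIso (R F : Type u) [CommRing R] [CommRing F] [Algebra R F] (k : ℤ) :
    (DRing.restrictD (algebraMap R F)).obj (DRing.toD (sng k (ModuleCat.of F F))) ≅
      DRing.toD (sng k ((ModuleCat.restrictScalars.{u} (algebraMap R F)).obj (ModuleCat.of F F))) :=
  (DTen.resFactors (algebraMap R F)).app _ ≪≫ DerivedCategory.Q.mapIso
    ((HomologicalComplex.singleMapHomologicalComplex (ModuleCat.restrictScalars.{u} (algebraMap R F))
      (ComplexShape.up ℤ) k).app (ModuleCat.of F F))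

theorem bijective_bcΦ_free (R R' F : Type u) [CommRing R] [CommRing R'] [CommRing F] [Algebra R R'] [Module.Flat R R']
    [Algebra R F] [Module.Free R F] [Module.Finite R F] [DRing.HasLBaseChange (algebraMap R R')] (K : Dual.D R) (k : ℤ) :
    Function.Bijective (bcΦ R R' ((DRing.restrictD (algebraMap R F)).obj (DRing.toD (sng k (ModuleCat.of F F)))) K) := by
  let M := (ModuleCat.restrictScalars.{u} (algebraMap R F)).obj (ModuleCat.of F F)
  let e : F ≃ₗ[R] M :=
    { toFun := fun x => x
      invFun := fun x => x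
      map_add' := fun _ _ => rfl
      map_smul' := fun r x => Algebra.smul_def r x }
  haveI : Module.Free R M := Module.Free.of_equiv e
  haveI : Module.Finite R M := Module.Finite.equiv e
  exact bijective_bcΦ_of_iso R R' (resSngIso R F k).symm (bijective_bcΦ_sng R R' k M K)

theorem shriekVia_of_finite (R A : Type u) [CommRing R] [CommRing A] [Algebra R A] [Module.Finite R A] (n : ℕ)
    (ψ : MvPolynomial (Fin n) R →ₐ[R] A)
    [DRing.HasLBaseChange (algebraMap R (MvPolynomial (Fin n) R))]
    (Rψ : Dual.D (MvPolynomial (Fin n) R) ⥤ Dual.D A) (adj : DRing.restrictD ψ.toRingHom ⊣ Rψ)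
    (R' : Dual.D R ⥤ Dual.D A) (adjR : DRing.restrictD (algebraMap R A) ⊣ R') (K : Dual.D R) :
    Nonempty (Dual2.shriekVia n Rψ K ≅ R'.obj K) := by
  obtain ⟨F, _, _, _, _, π, c, hc⟩ := exists_free_cover R A n (fun i => ψ (MvPolynomial.X i))
  haveI : DRing.HasLBaseChange (MvPolynomial.C : F →+* MvPolynomial (Fin n) F) := DRingLib.hasLBaseChange _
  obtain ⟨M, hM⟩ := exists_isCoind (algebraMap R F) K
  obtain ⟨M', hM'⟩ := exists_isCoind π.toRingHom M
  have h1 := isCoind_polyBC R F n hM (bijective_bcΦ_free R (MvPolynomial (Fin n) R) F K)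
  have h2 := h1.comp (h := (MvPolynomial.eval c).comp (MvPolynomial.map (algebraMap R F))) rfl (isCoind_aeval n c M)
  have h3 := h2.comp (h := ψ.toRingHom) ?_ (hM'.shift (-n : ℤ))
  · obtain ⟨e₁⟩ := h3.iso_adj adj
    obtain ⟨e₂⟩ := (hM.comp (h := algebraMap R A) π.comp_algebraMap.symm hM').iso_adj adjR
    exact ⟨(shiftFunctor (Dual.D A) (n : ℤ)).mapIso e₁ ≪≫ shiftAddIso M' (-n : ℤ) n 0 (by ring) ≪≫
      (shiftFunctorZero (Dual.D A) ℤ).app M' ≪≫ e₂.symm⟩
  · refine MvPolynomial.ringHom_ext (fun r => ?_) fun i => ?_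
    · show ψ (MvPolynomial.C r) = π (MvPolynomial.eval c (MvPolynomial.map (algebraMap R F) (MvPolynomial.C r)))
      rw [MvPolynomial.map_C, MvPolynomial.eval_C, π.commutes]
      exact ψ.commutes r
    · show ψ (MvPolynomial.X i) = π (MvPolynomial.eval c (MvPolynomial.map (algebraMap R F) (MvPolynomial.X i)))
      rw [MvPolynomial.map_X, MvPolynomial.eval_X, hc]

end Groth.Agent.ShriekAlgLib
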