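import Groth.Agent.ShriekAlgLib.PolyPerfect
import Groth.Agent.ShriekAlgLib.ResCoind
import Groth.Agent.ShriekAlgLib.BaseChange
import Groth.Agent.ShriekAlgLib.Comp
import Groth.Agent.ShriekAlgLib.Finite
import Groth.Agent.DRingLib.FlatBC
import Groth.Agent.DRingLib.WeaklyEtaleAmp
import Groth.Agent.DRingLib.PseudoCoherent
import Groth.Prelude.Def_DualSh

/-!
# The shriek of the base is a relative dualizing complex
-/

set_option autoImplicit false
set_option backward.isDefEq.respectTransparency false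
set_option linter.style.haveILetI false

universe u

open CategoryTheory CategoryTheory.Limits
open scoped TensorProduct
attribute [local instance] HasDerivedCategory.standard

noncomputable section

namespace Groth.Agent.ShriekAlgLib

open DRingLib DCohLib

theorem nonempty_lbc_unit (A B : Type u) [CommRing A] [CommRing B] [Algebra A B] [Module.Flat A B]
    [DRing.HasLBaseChange (algebraMap A B)] :
    Nonempty ((DRing.LBaseChange (algebraMap A B)).obj (Dual.inD A A) ≅ Dual.inD B B) :=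
  ⟨lbcInDIso (algebraMap A B) (flat_baseMod A B) (ModuleCat.of A A) ≪≫
    (DerivedCategory.singleFunctor (ModuleCat.{u} B) 0).mapIso
      ((extendScalarsTensorEquiv A B A).trans (TensorProduct.AlgebraTensorModule.rid A B B)).toModuleIso⟩

/-- Over a flat presentation, the restriction of `ω` to the polynomial ring is perfect. -/
theorem perf_res_shriek (R A : Type u) [CommRing R] [CommRing A] [IsNoetherianRing R]
    [Algebra R A] [Module.Flat R A] (n : ℕ) (ψ : MvPolynomial (Fin n) R →ₐ[R] A) (hψ : Function.Surjective ψ)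
    [DRing.HasLBaseChange (algebraMap R (MvPolynomial (Fin n) R))]
    (Rψ : Dual.D (MvPolynomial (Fin n) R) ⥤ Dual.D A) (adj : DRing.restrictD ψ.toRingHom ⊣ Rψ) :
    Perf FProj ((DRing.restrictD ψ.toRingHom).obj (Rψ.obj
      ((DRing.LBaseChange (algebraMap R (MvPolynomial (Fin n) R))).obj (Dual.inD R R)))) := by
  let P := MvPolynomial (Fin n) R
  letI := ψ.toRingHom.toAlgebra
  haveI : IsScalarTower R P A := .of_algebraMap_eq fun r => (ψ.commutes r).symm
  haveI : Module.Finite P A := Module.Finite.of_surjective (Algebra.linearMap P A) hψ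
  let L := (DRing.LBaseChange (algebraMap R P)).obj (Dual.inD R R)
  obtain ⟨eL⟩ := nonempty_lbc_unit R P
  haveI : (Dual.inD R R).IsGE 0 :=
    inferInstanceAs (((DerivedCategory.singleFunctor (ModuleCat.{u} R) 0).obj _).IsGE 0)
  haveI : L.IsGE 0 := DualCxLib.isGE_bcD R P (Dual.inD R R) 0
  obtain ⟨r⟩ := nonempty_restrictD_inD (algebraMap P A) (ModuleCat.of A A)
  obtain ⟨F, hF, ⟨eF⟩⟩ := ((isPerfect_iff _).1 (isPerfect_presentation R A n)).of_iso r.symm
  obtain ⟨e⟩ := nonempty_res_coind A 0 (isCoind_of_adj adj L) eL.symm hF eF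
  exact ⟨dualCx F, dualCx_bdd hF, ⟨e.symm⟩⟩

theorem isRelPerfect_shriekVia_self (R A : Type u) [CommRing R] [CommRing A] [IsNoetherianRing R] [IsNoetherianRing A]
    [Algebra R A] [Module.Flat R A] (n : ℕ) (ψ : MvPolynomial (Fin n) R →ₐ[R] A) (hψ : Function.Surjective ψ)
    [DRing.HasLBaseChange (algebraMap R (MvPolynomial (Fin n) R))]
    (Rψ : Dual.D (MvPolynomial (Fin n) R) ⥤ Dual.D A) (adj : DRing.restrictD ψ.toRingHom ⊣ Rψ) :
    Dual2.IsRelPerfect R A (Dual2.shriekVia n Rψ (Dual.inD R R)) := by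
  obtain ⟨⟨a, b, hab⟩, hfin⟩ := shriekVia_self_bounded R A n ψ hψ Rψ adj
  refine ⟨(isPseudoCoherent'_iff _).2 fun m => (isPseudoCoherent_iff m _).1
    ((Groth.Agent.S6942.result A m (Dual2.shriekVia n Rψ (Dual.inD R R)) A).1.2
      ⟨⟨b, fun i hi => hab i (Or.inr hi)⟩, fun i _ => hfin i⟩), ?_⟩
  let P := MvPolynomial (Fin n) R
  letI := ψ.toRingHom.toAlgebra
  let V := Rψ.obj ((DRing.LBaseChange (algebraMap R P)).obj (Dual.inD R R))
  obtain ⟨E, ⟨⟨c, d, hcd⟩, hE⟩, ⟨eE⟩⟩ := perf_res_shriek R A n ψ hψ Rψ adj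
  let e0 := resDComp (algebraMap R P) ψ.toRingHom (algebraMap R A) ψ.comp_algebraMap.symm
  let F := DRing.restrictD (algebraMap R A)
  refine ⟨c - n, d - n, ?_⟩
  have hflat : (algebraMap R P).Flat := RingHom.flat_algebraMap_iff.2 inferInstance
  have h := amp_of_iso (e0.app V) (amp_restrict_of_flat (algebraMap R P) hflat (a := c) (b := d)
    ⟨E, hcd, termwiseFlat_of_projective fun i => (hE i).2, ⟨eE⟩⟩)
  exact amp_of_iso ((F.commShiftIso (n : ℤ)).app V).symm (amp_shift h n)

theorem nonempty_coind_bc_self (R A : Type u) [CommRing R] [CommRing A] [IsNoetherianRing R] [IsNoetherianRing A]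
    [Algebra R A] [Module.Flat R A] (n : ℕ) (ψ : MvPolynomial (Fin n) R →ₐ[R] A) (hψ : Function.Surjective ψ)
    [DRing.HasLBaseChange (algebraMap R (MvPolynomial (Fin n) R))]
    (Rψ : Dual.D (MvPolynomial (Fin n) R) ⥤ Dual.D A) (adj : DRing.restrictD ψ.toRingHom ⊣ Rψ)
    [DRing.HasLBaseChange (Algebra.TensorProduct.includeLeftRingHom : A →+* A ⊗[R] A)]
    (Rμ : Dual.D (A ⊗[R] A) ⥤ Dual.D A) (adjμ : DRing.restrictD (Algebra.TensorProduct.lmul' R (S := A)).toRingHom ⊣ Rμ) :
    Nonempty (Rμ.obj ((DRing.LBaseChange (Algebra.TensorProduct.includeLeftRingHom : A →+* A ⊗[R] A)).obj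
      (Dual2.shriekVia n Rψ (Dual.inD R R))) ≅ Dual.inD A A) := by
  let T := A ⊗[R] A
  let μ := (Algebra.TensorProduct.lmul' R (S := A)).toRingHom
  let W := Dual2.shriekVia n Rψ (Dual.inD R R)
  let ψ' : MvPolynomial (Fin n) A →ₐ[A] T :=
    MvPolynomial.aeval fun i => (1 : A) ⊗ₜ[R] ψ (MvPolynomial.X i)
  have hψ' : Function.Surjective ψ' := by
    intro x
    induction x using TensorProduct.induction_on with
    | zero => exact ⟨0, map_zero ψ'⟩
    | tmul r a =>
      obtain ⟨p, rfl⟩ := hψ a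
      refine ⟨MvPolynomial.C r * MvPolynomial.map (algebraMap R A) p, ?_⟩
      have h : (ψ'.toRingHom).comp (MvPolynomial.map (algebraMap R A)) =
          (Algebra.TensorProduct.includeRight (R := R) (A := A) (B := A)).toRingHom.comp ψ.toRingHom := by
        refine MvPolynomial.ringHom_ext (fun s => ?_) fun i => ?_
        · show ψ' (MvPolynomial.map _ (MvPolynomial.C s)) = (1 : A) ⊗ₜ[R] ψ (MvPolynomial.C s)
          rw [MvPolynomial.map_C]
          exact (ψ'.commutes _).trans ((Algebra.TensorProduct.algebraMap_apply' (R := R) (A := A) (B := A) s).trans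
            (congrArg ((1 : A) ⊗ₜ[R] ·) (ψ.commutes s).symm) :)
        · show ψ' (MvPolynomial.map _ (MvPolynomial.X i)) = (1 : A) ⊗ₜ[R] ψ (MvPolynomial.X i)
          rw [MvPolynomial.map_X, MvPolynomial.aeval_X]
      rw [map_mul, show ψ' (MvPolynomial.map (algebraMap R A) p) = (1 : A) ⊗ₜ[R] ψ p from RingHom.congr_fun h p,
        ← MvPolynomial.algebraMap_eq, ψ'.commutes]
      show (r ⊗ₜ[R] (1 : A)) * ((1 : A) ⊗ₜ[R] ψ p) = r ⊗ₜ[R] ψ p
      rw [Algebra.TensorProduct.tmul_mul_tmul, mul_one, one_mul]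
    | add x y hx hy =>
      obtain ⟨p, rfl⟩ := hx
      obtain ⟨q, rfl⟩ := hy
      exact ⟨p + q, map_add ψ' p q⟩
  haveI : IsNoetherianRing T := isNoetherianRing_of_surjective (MvPolynomial (Fin n) A) T ψ'.toRingHom hψ'
  haveI : DRing.HasLBaseChange (algebraMap A (MvPolynomial (Fin n) A)) := DRingLib.hasLBaseChange _
  obtain ⟨Rψ', ⟨adj'⟩⟩ := exists_rightAdjoint ψ'.toRingHom
  let right : A →+* T := (Algebra.TensorProduct.includeRight (R := R) (A := A) (B := A)).toRingHom
  haveI : DRing.HasLBaseChange right := DRingLib.hasLBaseChange _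
  haveI : DRing.HasLBaseChange (@algebraMap A T _ _ Algebra.TensorProduct.rightAlgebra) := DRingLib.hasLBaseChange _
  haveI : DRing.HasLBaseChange (algebraMap R A) := DRingLib.hasLBaseChange _
  haveI : (Dual.inD R R).IsGE 0 :=
    inferInstanceAs (((DerivedCategory.singleFunctor (ModuleCat.{u} R) 0).obj _).IsGE 0)
  haveI : (Dual.inD A A).IsGE 0 :=
    inferInstanceAs (((DerivedCategory.singleFunctor (ModuleCat.{u} A) 0).obj _).IsGE 0)
  obtain ⟨eU⟩ := nonempty_lbc_unit R A
  obtain ⟨e₁⟩ : Nonempty ((DRing.LBaseChange right).obj W ≅ Dual2.shriekVia n Rψ' (Dual.inD A A)) := by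
    obtain ⟨e⟩ := shriekVia_flat_baseChange R A A n ψ hψ Rψ adj n ψ' hψ' Rψ' adj' (Dual.inD R R) 0
    exact ⟨e ≪≫ (shiftFunctor (Dual.D T) (n : ℤ)).mapIso (Rψ'.mapIso
      ((DRing.LBaseChange (algebraMap A (MvPolynomial (Fin n) A))).mapIso eU))⟩
  -- the composite `A → T → A`
  letI : Algebra T A := μ.toAlgebra
  haveI : IsScalarTower A T A := IsScalarTower.of_algebraMap_eq (R := A) (S := T) (A := A) fun a =>
    ((Algebra.TensorProduct.lmul'_apply_tmul (R := R) a (1 : A)).trans (mul_one a)).symm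
  have hμs : Function.Surjective μ := fun a =>
    ⟨a ⊗ₜ[R] 1, (Algebra.TensorProduct.lmul'_apply_tmul (R := R) a (1 : A)).trans (mul_one a)⟩
  haveI : Module.Finite T A := Module.Finite.of_surjective (Algebra.linearMap T A) hμs
  let χ : MvPolynomial (Fin 0) T →ₐ[T] A := MvPolynomial.aeval Fin.elim0
  have hχ : Function.Surjective χ := fun a => by
    obtain ⟨t, rfl⟩ := hμs a
    exact ⟨MvPolynomial.C t, MvPolynomial.aeval_C _ t⟩
  let θ : MvPolynomial (Fin 0) A →ₐ[A] A := MvPolynomial.aeval Fin.elim0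
  have hθ : Function.Surjective θ := fun a => ⟨MvPolynomial.C a, MvPolynomial.aeval_C _ a⟩
  haveI : DRing.HasLBaseChange (algebraMap T (MvPolynomial (Fin 0) T)) := DRingLib.hasLBaseChange _
  haveI : DRing.HasLBaseChange (algebraMap A (MvPolynomial (Fin 0) A)) := DRingLib.hasLBaseChange _
  obtain ⟨Rχ, ⟨adjχ⟩⟩ := exists_rightAdjoint χ.toRingHom
  obtain ⟨Rθ, ⟨adjθ⟩⟩ := exists_rightAdjoint θ.toRingHom
  obtain ⟨e₂⟩ := shriekVia_comp A T A n ψ' hψ' Rψ' adj' 0 χ hχ Rχ adjχ 0 θ hθ Rθ adjθ (Dual.inD A A) 0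
  obtain ⟨e₃⟩ := shriekVia_of_finite T A 0 χ Rχ adjχ Rμ adjμ (Dual2.shriekVia n Rψ' (Dual.inD A A))
  obtain ⟨e₄⟩ := shriekVia_of_finite A A 0 θ Rθ adjθ (𝟭 (Dual.D A))
    (Adjunction.id.ofNatIsoLeft (resDId (algebraMap A A) rfl).symm) (Dual.inD A A)
  -- the swap
  let σ : T ≃ₐ[R] T := Algebra.TensorProduct.comm R A A
  have hσσ : σ.toRingEquiv.toRingHom.comp σ.toRingEquiv.toRingHom = RingHom.id T := by
    refine RingHom.ext fun x => ?_
    show σ (σ x) = x
    induction x using TensorProduct.induction_on with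
    | zero => rw [map_zero, map_zero]
    | tmul a b => rfl
    | add x y hx hy => rw [map_add, map_add, hx, hy]
  haveI : DRing.HasLBaseChange σ.toRingEquiv.toRingHom := DRingLib.hasLBaseChange _
  obtain ⟨e₅⟩ := nonempty_lbc_comp' right σ.toRingEquiv.toRingHom
    (Algebra.TensorProduct.includeLeftRingHom : A →+* T) (RingHom.ext fun a => rfl) W
  have hσ := (isCoind_lbc_of_bijective (f := σ.toRingEquiv.toRingHom) σ.toRingEquiv.toRingHom hσσ hσσ
    ((DRing.LBaseChange right).obj W)).of_iso e₅ (Iso.refl _)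
  have hμσ : μ = μ.comp σ.toRingEquiv.toRingHom := by
    refine RingHom.ext fun x => ?_
    show μ x = μ (σ x)
    induction x using TensorProduct.induction_on with
    | zero => rw [map_zero σ]
    | tmul a b =>
      exact (Algebra.TensorProduct.lmul'_apply_tmul (R := R) a b).trans
        ((mul_comm a b).trans (Algebra.TensorProduct.lmul'_apply_tmul (R := R) b a).symm)
    | add x y hx hy => rw [map_add σ, map_add, map_add, hx, hy]
  obtain ⟨e₆⟩ := (hσ.comp (h := μ) hμσ (isCoind_of_adj adjμ _)).iso_adj adjμ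
  exact ⟨e₆ ≪≫ Rμ.mapIso e₁ ≪≫ e₃.symm ≪≫ e₂.symm ≪≫ e₄⟩

end Groth.Agent.ShriekAlgLib
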