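import Groth.Agent.S5152
import Groth.Agent.S2062
import Groth.Agent.RatliffLib.Formal
import Groth.Agent.S0402
import Groth.Agent.CMFlatLib.Poly
import Groth.Agent.DimFormulaLib.Chart
import Groth.Agent.DimFormulaLib.LocalDim
import Groth.Agent.CILib.Dim
import Groth.Agent.Depth.FlatLocal
import Groth.Agent.LocCohLib.Depth
import Groth.Agent.ShriekAlgLib.RelDualizing

/-!
# The fibre dimension bounds the depth along a presentation
-/

set_option autoImplicit false
set_option backward.isDefEq.respectTransparency false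
set_option linter.style.haveILetI false
set_option maxRecDepth 4000

universe u

open CategoryTheory AlgebraicGeometry IsLocalRing
open scoped TensorProduct
attribute [local instance] HasDerivedCategory.standard

noncomputable section

namespace Groth.Agent.ShriekAlgLib

section Fibre

variable (R A : Type u) [CommRing R] [CommRing A] [Algebra R A] [Algebra.FiniteType R A] (n : ℕ)
  (ψ : MvPolynomial (Fin n) R →ₐ[R] A)

theorem exists_trdeg_fibre_le (q : PrimeSpectrum A) (d : ℕ)
    (hd : FlatMor.fibreDimAt (Spec.map (CommRingCat.ofHom (algebraMap R A))) q ≤ (d : WithBot ℕ∞)) :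
    ∃ t : ℕ, t ≤ d ∧ Algebra.trdeg (R ⧸ q.asIdeal.under R) (A ⧸ q.asIdeal) = t := by
  let ch : DimFormulaLib.Chart (Spec.map (CommRingCat.ofHom (algebraMap R A))) q :=
    { A := R, B := A, i := 𝟙 _, j := 𝟙 _, w := by simp, q := q, hq := rfl }
  rw [ch.fibreDimAt_eq] at hd
  haveI : q.asIdeal.LiesOver ch.p.asIdeal := ⟨rfl⟩
  let F := ch.p.asIdeal.Fiber A
  obtain ⟨t, ht⟩ := DimFormulaLib.exists_nat_trdeg_quotient ch.p.asIdeal.ResidueField F ch.Q.asIdeal
  obtain ⟨a, -, hl, -⟩ := DimFormulaLib.localDim_eq_height_add ch.p.asIdeal.ResidueField F ch.Q t ht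
  have htd : t ≤ d := by
    have h : a + t ≤ d := by exact_mod_cast (hl.symm.le.trans hd : ((a + t : ℕ) : WithBot ℕ∞) ≤ (d : WithBot ℕ∞))
    omega
  refine ⟨t, htd, ?_⟩
  rw [← ht]
  exact (DimFormulaLib.trdeg_fibre ch.p.asIdeal q.asIdeal ch.Q.asIdeal ch.comap_Q).symm

set_option backward.isDefEq.respectTransparency true in
/-- The depth of `P ⊗ M` at a prime whose fibre-wise closure has dimension at most `t`. -/
theorem le_depth_polynomial_tensor [IsNoetherianRing R] (p : Ideal R) [p.IsPrime]
    (Q : Ideal (MvPolynomial (Fin n) R)) [Q.IsPrime] [Q.LiesOver p] (t : ℕ)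
    (ht : Algebra.trdeg (R ⧸ p) (MvPolynomial (Fin n) R ⧸ Q) = t)
    (M : Type u) [AddCommGroup M] [Module R M] [Module.Finite R M] :
    ((n - t : ℕ) : ℕ∞) ≤ LocCoh.depth (Localization.AtPrime Q)
      (LocalizedModule Q.primeCompl (MvPolynomial (Fin n) R ⊗[R] M)) := by
  let P := MvPolynomial (Fin n) R
  obtain ⟨QQ, hQQ⟩ : ∃ QQ : PrimeSpectrum (p.Fiber P), QQ.asIdeal.comap
      (Algebra.TensorProduct.includeRight : P →ₐ[R] p.Fiber P).toRingHom = Q :=
    ⟨((PrimeSpectrum.preimageEquivFiber R P ⟨p, inferInstance⟩) ⟨⟨Q, inferInstance⟩, PrimeSpectrum.ext (Q.over_def p).symm⟩),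
      congrArg (fun z => z.1.asIdeal)
        ((PrimeSpectrum.preimageEquivFiber R P ⟨p, inferInstance⟩).symm_apply_apply
          ⟨⟨Q, inferInstance⟩, PrimeSpectrum.ext (Q.over_def p).symm⟩)⟩
  obtain ⟨hreg, a, ha, hat⟩ := CMFlatLib.dim_polynomial_fibre n p Q QQ hQQ t ht
  obtain ⟨e⟩ := CMFlatLib.exists_quotLocal_equiv p Q QQ.asIdeal hQQ
  let Rp := Localization.AtPrime p
  let L := Localization.AtPrime Q
  letI : Algebra Rp L := Localization.AtPrime.algebraOfLiesOver p Q
  haveI : IsLocalHom (algebraMap Rp L) := Localization.isLocalHom_localRingHom p Q (algebraMap R P) (Q.over_def p)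
  haveI : Module.Flat R L := Module.Flat.trans R P L
  haveI : IsScalarTower R Rp L := IsScalarTower.of_algebraMap_eq (R := R) (S := Rp) (A := L) fun y =>
    ((Localization.localRingHom_to_map p Q (algebraMap R P) (Q.over_def p) y).trans
      (IsScalarTower.algebraMap_apply R P L y).symm).symm
  haveI : Module.Flat Rp L := (Module.flat_iff_of_isLocalization Rp p.primeCompl _).2 inferInstance
  have hpm : p.map (algebraMap R L) = (maximalIdeal Rp).map (algebraMap Rp L) := by
    rw [← Localization.AtPrime.map_eq_maximalIdeal, Ideal.map_map, ← IsScalarTower.algebraMap_eq]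
  let T := L ⧸ (maximalIdeal Rp).map (algebraMap Rp L)
  let eT : T ≃+* Localization.AtPrime QQ.asIdeal := (Ideal.quotEquivOfEq hpm.symm).trans e
  haveI : IsRegularLocalRing T := IsRegularLocalRing.of_ringEquiv (R := Localization.AtPrime QQ.asIdeal) eT.symm
  haveI : LocCoh.IsCohenMacaulayLocalRing T := RatliffLib.cm_of_regularLocal T
  have hdep : LocCoh.depth T T = a := by
    have h1 : ringKrullDim T = a := (ringKrullDim_eq_of_ringEquiv eT).trans ha
    have h2 := (inferInstance : LocCoh.IsCohenMacaulayLocalRing T).supportDim_eq_depth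
    rw [Module.supportDim_self_eq_ringKrullDim, h1] at h2
    exact (WithBot.coe_injective h2).symm
  have hf : LocCoh.depth L (L ⧸ (maximalIdeal Rp).map (algebraMap Rp L) • (⊤ : Submodule L L)) = a := by
    rw [← hdep, FlatDepth.depth_of_surjective (S := L) (R := T) Ideal.Quotient.mk_surjective T]
    refine Depth.depth_congr (Submodule.quotEquivOfEq _ _ ?_)
    exact (Ideal.smul_eq_mul _ _).trans (Ideal.mul_top _)
  let N := Rp ⊗[R] M
  have h := Groth.Agent.S2062.result (R := Rp) (S := L) (M := N) (N := L)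
  let e₁ : LocalizedModule Q.primeCompl (P ⊗[R] M) ≃ₗ[L] L ⊗[P] (P ⊗[R] M) :=
    (IsLocalizedModule.isBaseChange Q.primeCompl L
      (LocalizedModule.mkLinearMap Q.primeCompl (P ⊗[R] M))).equiv.symm
  have hl : LocCoh.depth L (LocalizedModule Q.primeCompl (P ⊗[R] M)) = LocCoh.depth L (L ⊗[Rp] N) :=
    Depth.depth_congr (e₁ ≪≫ₗ TensorProduct.AlgebraTensorModule.cancelBaseChange R P L L M ≪≫ₗ
      (TensorProduct.AlgebraTensorModule.cancelBaseChange R Rp L L M).symm)
  rw [hl, h, hf]
  exact le_add_left (by exact_mod_cast (by omega : n - t ≤ a))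

set_option backward.isDefEq.respectTransparency true in
/-- The depth of affine space at a prime whose fibre-wise closure has dimension at most `t`. -/
theorem le_depth_polynomial [IsNoetherianRing R] (p : Ideal R) [p.IsPrime]
    (Q : Ideal (MvPolynomial (Fin n) R)) [Q.IsPrime] [Q.LiesOver p] (t : ℕ)
    (ht : Algebra.trdeg (R ⧸ p) (MvPolynomial (Fin n) R ⧸ Q) = t) :
    ((n - t : ℕ) : ℕ∞) ≤ LocCoh.depth (Localization.AtPrime Q) (Localization.AtPrime Q) := by
  have h := le_depth_polynomial_tensor R n p Q t ht R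
  rw [← Depth.depth_localizedSelf Q]
  refine h.trans_eq (Depth.depth_congr ?_)
  exact IsLocalizedModule.mapEquiv Q.primeCompl
    (LocalizedModule.mkLinearMap Q.primeCompl (MvPolynomial (Fin n) R ⊗[R] R))
    (LocalizedModule.mkLinearMap Q.primeCompl (MvPolynomial (Fin n) R))
    (Localization.AtPrime Q)
    (TensorProduct.AlgebraTensorModule.rid R (MvPolynomial (Fin n) R) (MvPolynomial (Fin n) R))

/-- The depth of affine space at a point of a closed subscheme. -/
theorem le_depth_presentation [IsNoetherianRing R] (hψ : Function.Surjective ψ) (q : PrimeSpectrum A) (d : ℕ)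
    (hd : FlatMor.fibreDimAt (Spec.map (CommRingCat.ofHom (algebraMap R A))) q ≤ (d : WithBot ℕ∞)) :
    ((n - d : ℕ) : ℕ∞) ≤ LocCoh.depth (Localization.AtPrime (q.asIdeal.comap ψ.toRingHom))
      (Localization.AtPrime (q.asIdeal.comap ψ.toRingHom)) := by
  obtain ⟨t, htd, ht⟩ := exists_trdeg_fibre_le R A q d hd
  haveI : (q.asIdeal.comap ψ.toRingHom).LiesOver (q.asIdeal.under R) := ⟨by
    ext r
    show algebraMap R A r ∈ q.asIdeal ↔ ψ (algebraMap R _ r) ∈ q.asIdeal
    rw [ψ.commutes]⟩
  let e : (MvPolynomial (Fin n) R ⧸ q.asIdeal.comap ψ.toRingHom) ≃+* A ⧸ q.asIdeal :=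
    RingEquiv.ofBijective (Ideal.quotientMap q.asIdeal ψ.toRingHom le_rfl)
      ⟨Ideal.quotientMap_injective, Ideal.quotientMap_surjective (H := le_rfl) hψ⟩
  have h1 := DimFormulaLib.trdeg_eq_of_ringEquiv (RingEquiv.refl (R ⧸ q.asIdeal.under R)) e (fun x => by
    obtain ⟨r, rfl⟩ := Ideal.Quotient.mk_surjective x
    exact (congrArg (Ideal.Quotient.mk q.asIdeal) (ψ.commutes r)).symm)
  exact le_trans (Nat.cast_le.2 (by omega : n - d ≤ n - t))
    (le_depth_polynomial R n (q.asIdeal.under R) _ t (h1.trans ht))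

end Fibre

theorem depth_of_ringEquiv {R S : Type u} [CommRing R] [CommRing S] [IsLocalRing R] [IsLocalRing S]
    [IsNoetherianRing R] [IsNoetherianRing S] (e : R ≃+* S) : LocCoh.depth S S = LocCoh.depth R R := by
  letI := e.toRingHom.toAlgebra
  haveI : Module.Flat R S := Module.Flat.of_linearEquiv
    ({ e.toAddEquiv.symm with
       map_smul' := fun r x => by
         refine Eq.trans (congrArg e.symm (Algebra.smul_def r x)) ?_
         exact (map_mul e.symm _ _).trans (congrArg (· * e.symm x) (e.symm_apply_apply r)) } : S ≃ₗ[R] R)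
  exact Depth.depth_eq_of_map_maximalIdeal R S (eq_maximalIdeal
    (Ideal.IsMaximal.map_of_surjective_of_ker_le e.surjective (le_maximalIdeal (RingHom.ker_ne_top _))))

end Groth.Agent.ShriekAlgLib
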