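import Groth.Agent.ShriekAlgLib.IsCoind
import Groth.Agent.KInj.Lifting

/-!
# Coextension of K-injective representatives
-/

set_option autoImplicit false
set_option backward.isDefEq.respectTransparency false
set_option linter.style.haveILetI false

universe u

open CategoryTheory Limits
attribute [local instance] HasDerivedCategory.standard

noncomputable section

namespace Groth.Agent.ShriekAlgLib

variable {A B : Type u} [CommRing A] [CommRing B]

/-- A K-injective complex of injective modules representing `K`. -/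
structure KIRep (K : Dual.D A) where
  E : DRing.Cx A
  kinj : E.IsKInjective
  inj : ∀ n, Injective (E.X n)
  iso : DRing.toD E ≅ K

theorem nonempty_kIRep (K : Dual.D A) : Nonempty (KIRep K) := by
  let P := DerivedCategory.Q.objPreimage K
  obtain ⟨J, f, hJ, hf, -, hi⟩ := KInj.exists_isKInjective_resolution (A := ModuleCat.{u} A) P
  haveI := hf
  exact ⟨⟨J, hJ, hi, (asIso (DerivedCategory.Q.map f)).symm ≪≫ DerivedCategory.Q.objObjPreimageIso K⟩⟩

/-- Coextension of scalars on complexes. -/
abbrev coCx (f : A →+* B) : DRing.Cx A ⥤ DRing.Cx B :=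
  haveI : (ModuleCat.coextendScalars.{u, u, u} f).Additive :=
    (ModuleCat.restrictCoextendScalarsAdj f).right_adjoint_additive
  (ModuleCat.coextendScalars.{u, u, u} f).mapHomologicalComplex (ComplexShape.up ℤ)

/-- The counit on complexes. -/
def coε (f : A →+* B) (E : DRing.Cx A) : (DTen.resCx f).obj ((coCx f).obj E) ⟶ E where
  f i := (ModuleCat.restrictCoextendScalarsAdj f).counit.app (E.X i)
  comm' i j _ := ((ModuleCat.restrictCoextendScalarsAdj f).counit.naturality (E.d i j)).symm

/-- The unit on complexes. -/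
def coη (f : A →+* B) (P : DRing.Cx B) : P ⟶ (coCx f).obj ((DTen.resCx f).obj P) where
  f i := (ModuleCat.restrictCoextendScalarsAdj f).unit.app (P.X i)
  comm' i j _ := ((ModuleCat.restrictCoextendScalarsAdj f).unit.naturality (P.d i j)).symm

theorem coη_coε (f : A →+* B) {P : DRing.Cx B} {E : DRing.Cx A} (h : (DTen.resCx f).obj P ⟶ E) :
    (DTen.resCx f).map (coη f P ≫ (coCx f).map h) ≫ coε f E = h := by
  refine HomologicalComplex.hom_ext _ _ fun i => ?_
  let adj := ModuleCat.restrictCoextendScalarsAdj f
  show (ModuleCat.restrictScalars f).map (adj.unit.app (P.X i) ≫ (ModuleCat.coextendScalars f).map (h.f i)) ≫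
    adj.counit.app (E.X i) = h.f i
  exact (adj.homEquiv_counit _ _ _).symm.trans
    ((congrArg (adj.homEquiv _ _).symm (adj.homEquiv_unit _ _ _).symm).trans (Equiv.symm_apply_apply _ _))

theorem coε_coη (f : A →+* B) {P : DRing.Cx B} {E : DRing.Cx A} (g : P ⟶ (coCx f).obj E) :
    coη f P ≫ (coCx f).map ((DTen.resCx f).map g ≫ coε f E) = g := by
  refine HomologicalComplex.hom_ext _ _ fun i => ?_
  let adj := ModuleCat.restrictCoextendScalarsAdj f
  show adj.unit.app (P.X i) ≫ (ModuleCat.coextendScalars f).map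
    ((ModuleCat.restrictScalars f).map (g.f i) ≫ adj.counit.app (E.X i)) = g.f i
  exact (adj.homEquiv_unit _ _ _).symm.trans
    ((congrArg (adj.homEquiv _ _) (adj.homEquiv_counit _ _ _).symm).trans (Equiv.apply_symm_apply _ _))

theorem isKInjective_coCx (f : A →+* B) (E : DRing.Cx A) [E.IsKInjective] : ((coCx f).obj E).IsKInjective := by
  haveI : (ModuleCat.coextendScalars.{u, u, u} f).Additive :=
    (ModuleCat.restrictCoextendScalarsAdj f).right_adjoint_additive
  exact KInj.isKInjective_map_of_adjunction (ModuleCat.restrictCoextendScalarsAdj f) E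

/-- Coextension of a K-injective representative corepresents maps out of restrictions. -/
theorem isCoind_coCx_of_kInjective (f : A →+* B) {K : Dual.D A} (E : DRing.Cx A) [hE : E.IsKInjective]
    (eK : DRing.toD E ≅ K) :
    IsCoind f K (DRing.toD ((coCx f).obj E)) := by
  haveI := isKInjective_coCx f E
  haveI : (ModuleCat.coextendScalars.{u, u, u} f).Additive :=
    (ModuleCat.restrictCoextendScalarsAdj f).right_adjoint_additive
  refine IsCoind.of_iso (L := DRing.toD ((coCx f).obj E)) ?_ eK (Iso.refl _)
  let F := DRing.restrictD f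
  let ε : F.obj (DRing.toD ((coCx f).obj E)) ⟶ DRing.toD E :=
    (DTen.resFactors f).hom.app ((coCx f).obj E) ≫ DerivedCategory.Q.map (coε f E)
  have hmap : ∀ {P : DRing.Cx B} (g : P ⟶ (coCx f).obj E), F.map (DerivedCategory.Q.map g) ≫ ε =
      (DTen.resFactors f).hom.app P ≫ DerivedCategory.Q.map ((DTen.resCx f).map g ≫ coε f E) := fun g => by
    rw [Functor.map_comp]
    exact (DTen.resFactors f).hom.naturality_assoc g _
  refine ⟨ε, fun X => ?_⟩
  let P := DerivedCategory.Q.objPreimage X
  let e : DRing.toD P ≅ X := DerivedCategory.Q.objObjPreimageIso X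
  suffices h : Function.Bijective fun g : DRing.toD P ⟶ DRing.toD ((coCx f).obj E) => F.map g ≫ ε by
    convert ((F.mapIso e).homFromEquiv (Z := DRing.toD E)).bijective.comp
      (h.comp (e.symm.homFromEquiv (Z := DRing.toD ((coCx f).obj E))).bijective) using 1
    funext g
    show F.map g ≫ ε = F.map e.inv ≫ F.map (e.hom ≫ g) ≫ ε
    rw [← Functor.map_comp_assoc, Iso.inv_hom_id_assoc]
  let r := (DTen.resFactors f).app P
  refine ⟨fun g g' hgg => ?_, fun w => ?_⟩
  · obtain ⟨g, rfl⟩ := (CochainComplex.IsKInjective.Qh_map_bijective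
      ((HomotopyCategory.quotient (ModuleCat.{u} B) (ComplexShape.up ℤ)).obj P) ((coCx f).obj E)).2 g
    obtain ⟨g, rfl⟩ := (HomotopyCategory.quotient _ _).map_surjective g
    obtain ⟨g', rfl⟩ := (CochainComplex.IsKInjective.Qh_map_bijective
      ((HomotopyCategory.quotient (ModuleCat.{u} B) (ComplexShape.up ℤ)).obj P) ((coCx f).obj E)).2 g'
    obtain ⟨g', rfl⟩ := (HomotopyCategory.quotient _ _).map_surjective g'
    have h1 : DerivedCategory.Q.map ((DTen.resCx f).map g ≫ coε f E) =
        DerivedCategory.Q.map ((DTen.resCx f).map g' ≫ coε f E) :=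
      (cancel_epi r.hom).1 ((hmap g).symm.trans (hgg.trans (hmap g')))
    have h2 := (CochainComplex.IsKInjective.Qh_map_bijective
      ((HomotopyCategory.quotient (ModuleCat.{u} A) (ComplexShape.up ℤ)).obj ((DTen.resCx f).obj P)) E).1
        (a₁ := (HomotopyCategory.quotient _ _).map _) (a₂ := (HomotopyCategory.quotient _ _).map _) h1
    have H := ((ModuleCat.coextendScalars.{u, u, u} f).mapHomotopy
      (HomotopyCategory.homotopyOfEq _ _ h2)).compLeft (coη f P)
    exact congrArg DerivedCategory.Qh.map (HomotopyCategory.eq_of_homotopy g g'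
      ((Homotopy.ofEq (coε_coη f g).symm).trans (H.trans (Homotopy.ofEq (coε_coη f g')))))
  · obtain ⟨h, hh⟩ := (CochainComplex.IsKInjective.Qh_map_bijective
      ((HomotopyCategory.quotient (ModuleCat.{u} A) (ComplexShape.up ℤ)).obj ((DTen.resCx f).obj P)) E).2
        (r.inv ≫ w)
    obtain ⟨h, rfl⟩ := (HomotopyCategory.quotient _ _).map_surjective h
    refine ⟨DerivedCategory.Q.map (coη f P ≫ (coCx f).map h), (hmap _).trans ?_⟩
    rw [coη_coε, show DerivedCategory.Q.map h = r.inv ≫ w from hh]
    exact r.hom_inv_id_assoc w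

/-- Coextension of a chosen representative. -/
theorem isCoind_coCx (f : A →+* B) {K : Dual.D A} (S : KIRep K) :
    IsCoind f K (DRing.toD ((coCx f).obj S.E)) :=
  haveI := S.kinj
  isCoind_coCx_of_kInjective f S.E S.iso

theorem exists_isCoind (f : A →+* B) (K : Dual.D A) : ∃ L : Dual.D B, IsCoind f K L := by
  obtain ⟨S⟩ := nonempty_kIRep K
  exact ⟨_, isCoind_coCx f S⟩

end Groth.Agent.ShriekAlgLib
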