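import Groth.Agent.ShriekAlgLib.HomBC
import Groth.Agent.ShriekAlgLib.Coext
import Groth.Agent.DualCxLib.BidualCx
import Mathlib.Algebra.Homology.HomotopyCategory.HomComplexShift

/-!
# Duals and coextension
-/

set_option autoImplicit false
set_option backward.isDefEq.respectTransparency false
set_option linter.style.haveILetI false
set_option maxRecDepth 4000

universe u

open CategoryTheory CategoryTheory.Limits CochainComplex CochainComplex.HomComplex
open scoped ChangeOfRings
attribute [local instance] HasDerivedCategory.standard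

noncomputable section

namespace Groth.Agent.ShriekAlgLib

open DRingLib DCohLib

variable {A B : Type u} [CommRing A] [CommRing B]

/-- Hom complexes commute with shifts of the target. -/
def homCxShiftIso (K L : DRing.Cx A) (a : ℤ) : DRing.homCx K (L⟦a⟧) ≅ (DRing.homCx K L)⟦a⟧ :=
  (HomologicalComplex.Hom.isoOfComponents (C₁ := (DRing.homCx K L)⟦a⟧) (C₂ := DRing.homCx K (L⟦a⟧))
    (fun i => ((Cochain.rightShiftLinearEquiv (R := A) K L (i + a) a i rfl).toModuleIso :
      ((DRing.homCx K L)⟦a⟧).X i ≅ (DRing.homCx K (L⟦a⟧)).X i))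
    (fun i j _ => ModuleCat.hom_ext (LinearMap.ext fun (z : Cochain K L (i + a)) => by
      show δ i j (z.rightShift a i rfl) =
        (a.negOnePow • δ (i + a) (j + a) z : Cochain K L (j + a)).rightShift a j rfl
      rw [Cochain.δ_rightShift z a i j rfl (j + a) rfl]
      exact (map_zsmul (Cochain.rightShiftAddEquiv K L (j + a) a j rfl) _ _).symm))).symm

theorem nonempty_homCx_congr {K L : DRing.Cx A} (I : DRing.Cx A) [I.IsKInjective] (e : DRing.toD K ≅ DRing.toD L) :
    Nonempty (DRing.toD (DRing.homCx K I) ≅ DRing.toD (DRing.homCx L I)) := by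
  let φ : DerivedCategory.Q.obj K ⟶ DerivedCategory.Q.obj L := e.hom
  haveI : IsIso φ := inferInstanceAs (IsIso e.hom)
  obtain ⟨X, s, hs, g, hg⟩ := DerivedCategory.right_fac φ
  haveI := hs
  haveI : IsIso (DerivedCategory.Q.map g) := by
    rw [show DerivedCategory.Q.map g = DerivedCategory.Q.map s ≫ φ by rw [hg, IsIso.hom_inv_id_assoc]]
    infer_instance
  haveI := isIso_Q_of_qis _ (quasiIso_homCxPre s I ((DerivedCategory.isIso_Q_map_iff_quasiIso (φ := s)).1 hs))
  haveI := isIso_Q_of_qis _ (quasiIso_homCxPre g I ((DerivedCategory.isIso_Q_map_iff_quasiIso (φ := g)).1 inferInstance))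
  exact ⟨asIso (DerivedCategory.Q.map (homCxPre s I)) ≪≫ (asIso (DerivedCategory.Q.map (homCxPre g I))).symm⟩

theorem nonempty_RHomCx_congr {K L : DRing.Cx A} [DRing.HasRHomCx K] (e : DRing.toD K ≅ DRing.toD L) {X : Dual.D A}
    (I : DRing.Cx A) [I.IsKInjective] (eI : DRing.toD I ≅ X) :
    Nonempty ((DRing.RHomCx K).obj X ≅ DRing.toD (DRing.homCx L I)) := by
  obtain ⟨e1⟩ := nonempty_RHomCx_kInjective K I
  obtain ⟨e2⟩ := nonempty_homCx_congr I e
  exact ⟨(DRing.RHomCx K).mapIso eI.symm ≪≫ e1 ≪≫ e2⟩

section HomCo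

variable [Algebra A B]

/-- An element of a coextension, as a linear map. -/
def coL {M : ModuleCat.{u} A} (g : (ModuleCat.coextendScalars.{u, u, u} (algebraMap A B)).obj M) :
    (ModuleCat.restrictScalars.{u} (algebraMap A B)).obj (ModuleCat.of B B) →ₗ[A] M := g

/-- A linear map as an element of a coextension. -/
def coMk {M : ModuleCat.{u} A}
    (g : (ModuleCat.restrictScalars.{u} (algebraMap A B)).obj (ModuleCat.of B B) →ₗ[A] M) :
    (ModuleCat.coextendScalars.{u, u, u} (algebraMap A B)).obj M := g

theorem adj_symm_one_tmul {M : ModuleCat.{u} A} {N : ModuleCat.{u} B}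
    (φ : M ⟶ (ModuleCat.restrictScalars.{u} (algebraMap A B)).obj N) (m : M) :
    (((ModuleCat.extendRestrictScalarsAdj.{u} (algebraMap A B)).homEquiv M N).symm φ).hom
      ((1 : B) ⊗ₜ[A,algebraMap A B] m) = φ.hom m :=
  congr($(((ModuleCat.extendRestrictScalarsAdj.{u} (algebraMap A B)).homEquiv M N).apply_symm_apply φ).hom m)

theorem coL_map {M N : ModuleCat.{u} A} (φ : M ⟶ N)
    (g : (ModuleCat.coextendScalars.{u, u, u} (algebraMap A B)).obj M) (b : B) :
    coL (((ModuleCat.coextendScalars.{u, u, u} (algebraMap A B)).map φ).hom g) b = φ.hom (coL g b) := rfl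

theorem coL_smul {M : ModuleCat.{u} A} (c : B) (g : (ModuleCat.coextendScalars.{u, u, u} (algebraMap A B)).obj M)
    (b : B) : coL (c • g) b = coL g (b * c : B) := rfl

variable (F I : DRing.Cx A)

/-- An element of the source, at an element of `B`. -/
def coApp (n : ℤ) (g : ((coCx (algebraMap A B)).obj (DRing.homCx F I)).X n) :
    (ModuleCat.restrictScalars.{u} (algebraMap A B)).obj (ModuleCat.of B B) →ₗ[A] Cochain F I n := coL g

/-- `Hom_A(B, Cochain(F, I))` to `Cochain_B(B ⊗ F, Hom_A(B, I))` on terms. -/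
def homCoFun (n : ℤ) (g : ((coCx (algebraMap A B)).obj (DRing.homCx F I)).X n) :
    Cochain ((extC A B).obj F) ((coCx (algebraMap A B)).obj I) n :=
  Cochain.mk fun p q h => ((ModuleCat.extendRestrictScalarsAdj.{u} (algebraMap A B)).homEquiv _ _).symm
    (ModuleCat.ofHom (X := F.X p)
      (Y := (ModuleCat.restrictScalars.{u} (algebraMap A B)).obj (((coCx (algebraMap A B)).obj I).X q))
      { toFun := fun m => coMk (DualCxLib.vApp p q h m ∘ₗ coApp F I n g)
        map_add' := fun m m' => LinearMap.ext fun b => map_add ((coApp F I n g b).v p q h).hom m m'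
        map_smul' := fun r m => LinearMap.ext fun (b : B) => by
          show ((coApp F I n g b).v p q h).hom (r • m) = ((coApp F I n g (b * algebraMap A B r : B)).v p q h).hom m
          rw [show (b * algebraMap A B r : B) =
            (r • (show (ModuleCat.restrictScalars.{u} (algebraMap A B)).obj (ModuleCat.of B B) from b)) from
              mul_comm _ _]
          exact (map_smul ((coApp F I n g b).v p q h).hom r m).trans
            (map_smul (DualCxLib.vApp p q h m ∘ₗ coApp F I n g) r
              (show (ModuleCat.restrictScalars.{u} (algebraMap A B)).obj (ModuleCat.of B B) from b)).symm })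

theorem homCoFun_one_tmul (n : ℤ) (g : ((coCx (algebraMap A B)).obj (DRing.homCx F I)).X n) (p q : ℤ) (h : p + n = q)
    (m : F.X p) : ((homCoFun F I n g).v p q h).hom ((1 : B) ⊗ₜ[A,algebraMap A B] m) =
      coMk (DualCxLib.vApp p q h m ∘ₗ coApp F I n g) :=
  adj_symm_one_tmul _ m

variable {F I}

theorem cochain_ext_one_tmul {n : ℤ} {z z' : Cochain ((extC A B).obj F) ((coCx (algebraMap A B)).obj I) n}
    (hz : ∀ p q h (m : F.X p) (b : B), coL ((z.v p q h).hom ((1 : B) ⊗ₜ[A,algebraMap A B] m)) b =
      coL ((z'.v p q h).hom ((1 : B) ⊗ₜ[A,algebraMap A B] m)) b) : z = z' :=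
  Cochain.ext _ _ fun p q h => ModuleCat.ExtendScalars.hom_ext fun m => LinearMap.ext fun b => hz p q h m b

theorem coL_homCoFun (n : ℤ) (g : ((coCx (algebraMap A B)).obj (DRing.homCx F I)).X n) (p q : ℤ) (h : p + n = q)
    (m : F.X p) (b : B) : coL (((homCoFun F I n g).v p q h).hom ((1 : B) ⊗ₜ[A,algebraMap A B] m)) b =
      ((coApp F I n g b).v p q h).hom m := by
  rw [homCoFun_one_tmul]
  rfl

variable (F I)

/-- The inverse on terms. -/
def homCoInv (n : ℤ) (z : Cochain ((extC A B).obj F) ((coCx (algebraMap A B)).obj I) n) :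
    ((coCx (algebraMap A B)).obj (DRing.homCx F I)).X n :=
  coMk (M := (DRing.homCx F I).X n)
    { toFun := fun b => Cochain.mk fun p q h => ModuleCat.ofHom
        { toFun := fun m => coL ((z.v p q h).hom ((1 : B) ⊗ₜ[A,algebraMap A B] m)) b
          map_add' := fun m m' => by
            show coL ((z.v p q h).hom ((1 : B) ⊗ₜ[A,algebraMap A B] (m + m'))) b = _
            rw [TensorProduct.tmul_add]
            erw [map_add (z.v p q h).hom]
            rfl
          map_smul' := fun r m => by
            show coL ((z.v p q h).hom ((1 : B) ⊗ₜ[A,algebraMap A B] (r • m))) b = _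
            rw [TensorProduct.tmul_smul]
            erw [(z.v p q h).hom.map_smul (algebraMap A B r) ((1 : B) ⊗ₜ[A,algebraMap A B] m)]
            rw [coL_smul]
            show coL _ ((show B from b) * algebraMap A B r : B) = r • coL _ b
            rw [← map_smul]
            congr 1
            exact mul_comm (show B from b) (algebraMap A B r) }
      map_add' := fun b b' => Cochain.ext _ _ fun p q h => ModuleCat.hom_ext (LinearMap.ext fun m => by
        exact map_add (coL ((z.v p q h).hom ((1 : B) ⊗ₜ[A,algebraMap A B] m))) b b')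
      map_smul' := fun r b => Cochain.ext _ _ fun p q h => ModuleCat.hom_ext (LinearMap.ext fun m => by
        exact map_smul (coL ((z.v p q h).hom ((1 : B) ⊗ₜ[A,algebraMap A B] m))) r b) }

theorem coApp_homCoInv (n : ℤ) (z : Cochain ((extC A B).obj F) ((coCx (algebraMap A B)).obj I) n) (b : B) (p q : ℤ)
    (h : p + n = q) (m : F.X p) : ((coApp F I n (homCoInv F I n z) b).v p q h).hom m =
      coL ((z.v p q h).hom ((1 : B) ⊗ₜ[A,algebraMap A B] m)) b := rfl

/-- The comparison on terms. -/
def homCoEquiv (n : ℤ) : ((coCx (algebraMap A B)).obj (DRing.homCx F I)).X n ≃ₗ[B]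
    Cochain ((extC A B).obj F) ((coCx (algebraMap A B)).obj I) n where
  toFun := homCoFun F I n
  map_add' g g' := cochain_ext_one_tmul fun p q h m b => by
    rw [Cochain.add_v, coL_homCoFun, ModuleCat.hom_add, LinearMap.add_apply]
    refine Eq.trans ?_ (congrArg₂ (· + ·) (coL_homCoFun n g p q h m b) (coL_homCoFun n g' p q h m b)).symm
    rfl
  map_smul' c g := cochain_ext_one_tmul fun p q h m b => by
    rw [RingHom.id_apply, Cochain.smul_v, coL_homCoFun, ModuleCat.hom_smul, LinearMap.smul_apply, coL_smul,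
      coL_homCoFun]
    rfl
  invFun := homCoInv F I n
  left_inv g := LinearMap.ext fun b => Cochain.ext _ _ fun p q h => ModuleCat.hom_ext (LinearMap.ext fun m =>
    (coApp_homCoInv F I n (homCoFun F I n g) b p q h m).trans (coL_homCoFun n g p q h m b))
  right_inv z := cochain_ext_one_tmul fun p q h m b => by
    rw [coL_homCoFun, coApp_homCoInv]

/-- Coextension of a Hom complex is the Hom complex out of the extension into the coextension. -/
def homCoIso : (coCx (algebraMap A B)).obj (DRing.homCx F I) ≅
    DRing.homCx ((extC A B).obj F) ((coCx (algebraMap A B)).obj I) :=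
  HomologicalComplex.Hom.isoOfComponents (fun n => (homCoEquiv F I n).toModuleIso) fun i j hij => by
    obtain rfl : i + 1 = j := hij
    refine ModuleCat.hom_ext (LinearMap.ext fun g => cochain_ext_one_tmul fun p q h m b => ?_)
    show coL (((δ i (i + 1) (homCoFun F I i g)).v p q h).hom ((1 : B) ⊗ₜ[A,algebraMap A B] m)) b =
      coL (((homCoFun F I (i + 1) ((((coCx (algebraMap A B)).obj (DRing.homCx F I)).d i (i + 1)).hom g)).v p q h).hom
        ((1 : B) ⊗ₜ[A,algebraMap A B] m)) b
    rw [coL_homCoFun]
    show _ = ((δ i (i + 1) (coApp F I i g b)).v p q h).hom m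
    rw [δ_v i (i + 1) rfl _ p q h (q - 1) (p + 1) rfl rfl, δ_v i (i + 1) rfl _ p q h (q - 1) (p + 1) rfl rfl]
    simp only [Units.smul_def, ModuleCat.hom_add, LinearMap.add_apply, ModuleCat.hom_comp, LinearMap.comp_apply,
      ModuleCat.hom_zsmul, LinearMap.smul_apply]
    rw [← coL_homCoFun i g p (q - 1) (by omega) m b, ← coL_homCoFun i g (p + 1) q (by omega) _ b]
    rfl

end HomCo

end Groth.Agent.ShriekAlgLib
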