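import Groth.Agent.ShriekAlgLib.CMDual
import Groth.Agent.CMCat.Polynomial
import Groth.Agent.S14424
import Groth.Agent.DimFormulaLib.Irreducible
import Mathlib.RingTheory.MvPolynomial.Localization

/-!
# Depth along presentations over Cohen–Macaulay points, and the bottom cohomology
-/

set_option autoImplicit false
set_option backward.isDefEq.respectTransparency false
set_option linter.style.haveILetI false
set_option maxRecDepth 4000

universe u

open CategoryTheory AlgebraicGeometry IsLocalRing
open scoped TensorProduct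
attribute [local instance] HasDerivedCategory.standard MvPolynomial.algebraMvPolynomial

noncomputable section

namespace Groth.Agent.ShriekAlgLib

open DRingLib DualCxLib

theorem isCohenMacaulayLocalRing_mvPolynomial_atPrime {R : Type u} [CommRing R] [IsNoetherianRing R]
    (p : Ideal R) [p.IsPrime] [LocCoh.IsCohenMacaulayLocalRing (Localization.AtPrime p)] (n : ℕ)
    (Q : Ideal (MvPolynomial (Fin n) R)) [Q.IsPrime] (hQ : Q.under R ≤ p) :
    LocCoh.IsCohenMacaulayLocalRing (Localization.AtPrime Q) := by
  haveI : LocCoh.IsCohenMacaulayRing (Localization.AtPrime p) := CMCat.isCohenMacaulayRing_of_local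
  let P := MvPolynomial (Fin n) R
  let P' := MvPolynomial (Fin n) (Localization.AtPrime p)
  haveI := CMCat.isCohenMacaulayRing_mvPolynomial (R := Localization.AtPrime p) n
  let M : Submonoid P := p.primeCompl.map (MvPolynomial.C (σ := Fin n))
  haveI : IsLocalization M P' := MvPolynomial.isLocalization p.primeCompl (Localization.AtPrime p)
  have hdisj : Disjoint (M : Set P) Q := by
    refine Set.disjoint_left.2 ?_
    rintro _ ⟨s, hs, rfl⟩ h
    exact hs (hQ h)
  let Qp : Ideal P' := Q.map (algebraMap P P')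
  haveI : Qp.IsPrime := IsLocalization.isPrime_of_isPrime_disjoint M P' Q inferInstance hdisj
  have hc : Qp.comap (algebraMap P P') = Q :=
    IsLocalization.under_map_of_isPrime_disjoint M P' (I := Q) inferInstance hdisj
  haveI : IsLocalization.AtPrime (Localization.AtPrime Qp) (Qp.comap (algebraMap P P')) :=
    IsLocalization.isLocalization_isLocalization_atPrime_isLocalization M (Localization.AtPrime Qp) Qp
  haveI : IsLocalization Q.primeCompl (Localization.AtPrime Qp) := by
    have key : ∀ (J : Ideal P) [J.IsPrime], IsLocalization.AtPrime (Localization.AtPrime Qp) J → J = Q →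
        IsLocalization Q.primeCompl (Localization.AtPrime Qp) := by
      rintro J _ h rfl
      exact h
    exact key _ inferInstance hc
  haveI := LocCoh.IsCohenMacaulayRing.isCohenMacaulayLocalRing_localization Qp (R := P')
  exact CMCat.isCohenMacaulayLocalRing_of_ringEquiv (A := Localization.AtPrime Qp)
    (IsLocalization.algEquiv Q.primeCompl (Localization.AtPrime Qp) (Localization.AtPrime Q)).toRingEquiv

theorem trdeg_quotient_eq_resTrdeg {R A : Type u} [CommRing R] [CommRing A] [Algebra R A]
    [Algebra.FiniteType R A] (q : PrimeSpectrum A) :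
    Dual3.resTrdeg (Spec.map (CommRingCat.ofHom (algebraMap R A))) q =
      Algebra.trdeg (R ⧸ q.asIdeal.under R) (A ⧸ q.asIdeal) := by
  let ch : DimFormulaLib.Chart (Spec.map (CommRingCat.ofHom (algebraMap R A))) q :=
    { A := R, B := A, i := 𝟙 _, j := 𝟙 _, w := by simp, q := q, hq := rfl }
  haveI : LocallyOfFiniteType (Spec.map (CommRingCat.ofHom (algebraMap R A))) :=
    (HasRingHomProperty.Spec_iff (P := @LocallyOfFiniteType)).2 (RingHom.finiteType_algebraMap.2 inferInstance)
  show DimFormulaLib.resTrdegAt (Spec.map (CommRingCat.ofHom (algebraMap R A))) q = _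
  rw [ch.resTrdegAt_self]
  rfl

/-- The depth of affine space at the points of a closed subscheme over a Cohen–Macaulay point. -/
theorem le_depth_presentation_of_cm (R A : Type u) [CommRing R] [CommRing A] [IsNoetherianRing R] [Algebra R A]
    (n : ℕ) (ψ : MvPolynomial (Fin n) R →ₐ[R] A) (hψ : Function.Surjective ψ) (p : Ideal R) [p.IsPrime]
    [LocCoh.IsCohenMacaulayLocalRing (Localization.AtPrime p)] (r : ℕ)
    (hr : ∀ q : PrimeSpectrum A, q.asIdeal ∈ minimalPrimes A →
      Dual3.resTrdeg (Spec.map (CommRingCat.ofHom (algebraMap R A))) q ≤ (r : Cardinal.{u}))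
    (q : PrimeSpectrum A) (hq : q.asIdeal.under R ≤ p) :
    ((n - r : ℕ) : ℕ∞) ≤ LocCoh.depth (Localization.AtPrime (q.asIdeal.comap ψ.toRingHom))
      (Localization.AtPrime (q.asIdeal.comap ψ.toRingHom)) := by
  obtain ⟨q₀, hq₀, hle⟩ := Ideal.exists_minimalPrimes_le (bot_le : (⊥ : Ideal A) ≤ q.asIdeal)
  haveI : q₀.IsPrime := hq₀.1.1
  haveI : Algebra.FiniteType R A := Algebra.FiniteType.of_surjective ψ hψ
  have ht := hr ⟨q₀, inferInstance⟩ hq₀
  rw [trdeg_quotient_eq_resTrdeg (⟨q₀, inferInstance⟩ : PrimeSpectrum A)] at ht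
  obtain ⟨t, ht'⟩ := Cardinal.lt_aleph0.1 (ht.trans_lt (Cardinal.natCast_lt_aleph0 (n := r)))
  rw [ht'] at ht
  have htr : t ≤ r := by exact_mod_cast ht
  let Q₀ := q₀.comap ψ.toRingHom
  let Q := q.asIdeal.comap ψ.toRingHom
  haveI : Q₀.LiesOver (q₀.under R) := ⟨by
    ext x
    show algebraMap R A x ∈ q₀ ↔ ψ (algebraMap R _ x) ∈ q₀
    rw [ψ.commutes]⟩
  let e : (MvPolynomial (Fin n) R ⧸ Q₀) ≃+* A ⧸ q₀ :=
    RingEquiv.ofBijective (Ideal.quotientMap q₀ ψ.toRingHom le_rfl)
      ⟨Ideal.quotientMap_injective, Ideal.quotientMap_surjective (H := le_rfl) hψ⟩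
  have h1 := DimFormulaLib.trdeg_eq_of_ringEquiv (RingEquiv.refl (R ⧸ q₀.under R)) e (fun x => by
    obtain ⟨s, rfl⟩ := Ideal.Quotient.mk_surjective x
    exact (congrArg (Ideal.Quotient.mk q₀) (ψ.commutes s)).symm)
  have hQR : Q.under R ≤ p := fun x hx => hq (by
    show algebraMap R A x ∈ q.asIdeal
    rw [← ψ.commutes]
    exact hx)
  haveI := isCohenMacaulayLocalRing_mvPolynomial_atPrime p n Q hQR
  calc ((n - r : ℕ) : ℕ∞) ≤ ((n - t : ℕ) : ℕ∞) := Nat.cast_le.2 (by omega)
    _ ≤ LocCoh.depth (Localization.AtPrime Q₀) (Localization.AtPrime Q₀) :=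
      le_depth_polynomial R n (q₀.under R) Q₀ t (h1.trans ht')
    _ ≤ Q₀.height := S14424.depth_at_le_height Q₀
    _ ≤ Q.height := Ideal.height_mono (Ideal.comap_mono hle)
    _ = _ := ((S14424.cm_iff_depth_eq_height Q).1 inferInstance).symm

set_option backward.isDefEq.respectTransparency false in
/-- Depth of the bottom cohomology of a coinduced complex, at a prime. -/
theorem min_supportDim_le_depth_localized_coind {P A : Type u} [CommRing P] [CommRing A] [IsNoetherianRing P]
    [Algebra P A] (hf : Function.Surjective (algebraMap P A)) {W : Dual.D A}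
    (hW : IsCoind (algebraMap P A) (Dual.inD P P) W) (q : PrimeSpectrum A)
    [LocCoh.IsCohenMacaulayLocalRing (Localization.AtPrime (q.asIdeal.under P))] (c : ℕ)
    (hc : ∀ q' : PrimeSpectrum A, q' ≤ q → (c : ℕ∞) ≤
      LocCoh.depth (Localization.AtPrime (q'.asIdeal.under P)) (Localization.AtPrime (q'.asIdeal.under P))) :
    Module.Finite (Localization.AtPrime q.asIdeal) (LocalizedModule q.asIdeal.primeCompl (Dual.HD A W c)) ∧
      min (2 : WithBot ℕ∞) (Module.supportDim (Localization.AtPrime q.asIdeal)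
        (LocalizedModule q.asIdeal.primeCompl (Dual.HD A W c))) ≤
      ((LocCoh.depth (Localization.AtPrime q.asIdeal)
        (LocalizedModule q.asIdeal.primeCompl (Dual.HD A W c)) : ℕ∞) : WithBot ℕ∞) := by
  let Q := q.asIdeal.under P
  let L := Localization.AtPrime Q
  let B := Localization.AtPrime q.asIdeal
  let g : L →+* B := Localization.localRingHom Q q.asIdeal (algebraMap P A) rfl
  letI : Algebra L B := g.toAlgebra
  haveI : IsScalarTower P L B := IsScalarTower.of_algebraMap_eq (R := P) (S := L) (A := B) fun y =>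
    ((Localization.localRingHom_to_map Q q.asIdeal (algebraMap P A) rfl y).trans
      (IsScalarTower.algebraMap_apply P A B y).symm).symm
  haveI : Algebra.IsPushout P L A B := isPushout_atPrime hf q.asIdeal B
  have hgs : Function.Surjective g := fun z => by
    obtain ⟨a, ⟨s, hs⟩, rfl⟩ := IsLocalization.exists_mk'_eq q.asIdeal.primeCompl z
    obtain ⟨x, rfl⟩ := hf a
    obtain ⟨y, rfl⟩ := hf s
    exact ⟨IsLocalization.mk' L x ⟨y, hs⟩, Localization.localRingHom_mk' Q q.asIdeal _ rfl x ⟨y, hs⟩⟩
  haveI : Module.Finite P A := Module.Finite.of_surjective (Algebra.linearMap P A) hf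
  haveI : Module.Flat A B := IsLocalization.flat _ q.asIdeal.primeCompl
  haveI : Module.Flat P L := IsLocalization.flat _ Q.primeCompl
  haveI : DRing.HasLBaseChange (algebraMap P L) := DRingLib.hasLBaseChange _
  haveI : DRing.HasLBaseChange (algebraMap A B) := DRingLib.hasLBaseChange _
  haveI : (Dual.inD P P).IsGE 0 :=
    inferInstanceAs (((DerivedCategory.singleFunctor (ModuleCat.{u} P) 0).obj _).IsGE 0)
  obtain ⟨eU⟩ := nonempty_lbc_unit P L
  have h := (isCoind_flatBC P L A B (Dual.inD P P) W hW (bijective_bcΦ_finite P L A (Dual.inD P P) 0)).of_iso eU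
    (Iso.refl _)
  have hdepth : (c : ℕ∞) ≤ LocCoh.idealDepth (RingHom.ker g) L := by
    refine (QGorLib.le_idealDepth_iff_forall c).2 fun p' hp' => ?_
    obtain ⟨q', hq'⟩ : ∃ q' : PrimeSpectrum B, PrimeSpectrum.comap g q' = p' :=
      ⟨⟨p'.asIdeal.map g, Ideal.map_isPrime_of_surjective hgs hp'⟩, PrimeSpectrum.ext (by
        show (p'.asIdeal.map g).comap g = p'.asIdeal
        rw [Ideal.comap_map_of_surjective g hgs, ← RingHom.ker_eq_comap_bot]
        exact sup_eq_left.2 hp')⟩
    let q₀ : PrimeSpectrum A := PrimeSpectrum.comap (algebraMap A B) q'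
    have hle : q₀ ≤ q := fun x hx => by
      by_contra hxq
      exact q'.isPrime.ne_top
        (Ideal.eq_top_of_isUnit_mem _ hx (IsLocalization.map_units B (⟨x, hxq⟩ : q.asIdeal.primeCompl)))
    have hQ : q₀.asIdeal.under P = p'.asIdeal.comap (algebraMap P L) := by
      rw [← hq']
      ext x
      show algebraMap A B (algebraMap P A x) ∈ q'.asIdeal ↔ g (algebraMap P L x) ∈ q'.asIdeal
      rw [show g (algebraMap P L x) = algebraMap A B (algebraMap P A x) from
        Localization.localRingHom_to_map Q q.asIdeal (algebraMap P A) rfl x]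
    rw [Depth.depth_localizedSelf]
    haveI : (p'.asIdeal.comap (algebraMap P L)).IsPrime := Ideal.IsPrime.comap _
    have h1 := hc q₀ hle
    rw [depth_of_ringEquiv (IsLocalization.localizationLocalizationAtPrimeIsoLocalization Q.primeCompl
      p'.asIdeal).toRingEquiv]
    have h2 : ∀ (I J : Ideal P) [I.IsPrime] [J.IsPrime], I = J →
        LocCoh.depth (Localization.AtPrime I) (Localization.AtPrime I) =
          LocCoh.depth (Localization.AtPrime J) (Localization.AtPrime J) := by
      rintro I J _ _ rfl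
      rfl
    rwa [h2 _ _ hQ] at h1
  obtain ⟨kfin, key⟩ := min_supportDim_le_depth_coind (algebraMap L B) hgs h c hdepth
  obtain ⟨e⟩ := DualCxLib.nonempty_HD_bcD A B W (c : ℤ)
  let e' : Dual.HD B ((DualCxLib.bcD A B).obj W) c ≃ₗ[B] LocalizedModule q.asIdeal.primeCompl (Dual.HD A W c) :=
    e.trans (IsLocalizedModule.isBaseChange q.asIdeal.primeCompl B
      (LocalizedModule.mkLinearMap q.asIdeal.primeCompl (Dual.HD A W c))).equiv
  refine ⟨haveI := kfin; Module.Finite.equiv e', ?_⟩
  rw [← Module.supportDim_eq_of_equiv e', ← CAlgBasics.depth_congr e']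
  exact key

theorem fibIso_localized_localized {A : Type u} [CommRing A] (S : Submonoid A) (M : Type u) [AddCommGroup M]
    [Module A M] (𝔮 : Ideal (Localization S)) [𝔮.IsPrime] (q : Ideal A) [q.IsPrime]
    (hq : q = 𝔮.comap (algebraMap A (Localization S))) :
    FibreDepth.FibIso (Localization.AtPrime q) (LocalizedModule q.primeCompl M)
      (Localization.AtPrime 𝔮) (LocalizedModule 𝔮.primeCompl (LocalizedModule S M)) := by
  subst hq
  let T := Localization S
  let T' := Localization.AtPrime 𝔮
  let q := 𝔮.comap (algebraMap A T)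
  haveI : IsLocalization.AtPrime T' q :=
    IsLocalization.isLocalization_isLocalization_atPrime_isLocalization S T' 𝔮
  let φ : Localization.AtPrime q ≃ₐ[A] T' := IsLocalization.algEquiv q.primeCompl _ _
  let g : M →ₗ[A] LocalizedModule 𝔮.primeCompl (LocalizedModule S M) :=
    ((LocalizedModule.mkLinearMap 𝔮.primeCompl (LocalizedModule S M)).restrictScalars A) ∘ₗ
      LocalizedModule.mkLinearMap S M
  have hb : IsBaseChange T' g :=
    IsBaseChange.comp (IsLocalizedModule.isBaseChange S T (LocalizedModule.mkLinearMap S M))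
      (IsLocalizedModule.isBaseChange 𝔮.primeCompl T' (LocalizedModule.mkLinearMap 𝔮.primeCompl (LocalizedModule S M)))
  haveI : IsLocalizedModule q.primeCompl g := (isLocalizedModule_iff_isBaseChange q.primeCompl T' g).2 hb
  let E : LocalizedModule q.primeCompl M ≃ₗ[A] LocalizedModule 𝔮.primeCompl (LocalizedModule S M) :=
    IsLocalizedModule.linearEquiv q.primeCompl (LocalizedModule.mkLinearMap q.primeCompl M) g
  refine ⟨φ.toRingEquiv.toRingHom, φ.surjective, E.toAddEquiv, fun z v => ?_⟩
  obtain ⟨a, ⟨t, ht⟩, rfl⟩ := IsLocalization.exists_mk'_eq q.primeCompl z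
  show E _ = φ _ • E v
  have hu : IsUnit (algebraMap A T' t) := IsLocalization.map_units T' (⟨t, ht⟩ : q.primeCompl)
  refine hu.smul_left_cancel.1 ?_
  rw [smul_smul, ← φ.commutes t, ← map_mul, IsLocalization.mk'_spec'_mk, φ.commutes, φ.commutes, algebraMap_smul,
    algebraMap_smul, ← map_smul, ← map_smul, ← algebraMap_smul (Localization.AtPrime q) t, smul_smul,
    IsLocalization.mk'_spec'_mk, algebraMap_smul]

end Groth.Agent.ShriekAlgLib
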