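import Groth.Agent.ShriekAlgLib.CoindData
import Groth.Agent.DRingLib.FlatBC
import Mathlib.RingTheory.TensorProduct.Basic
import Mathlib.LinearAlgebra.Contraction

/-!
# Base change of Hom complexes
-/

set_option autoImplicit false
set_option backward.isDefEq.respectTransparency false
set_option linter.style.haveILetI false

universe u

open CategoryTheory CategoryTheory.Limits CochainComplex.HomComplex
open scoped TensorProduct ChangeOfRings
attribute [local instance] HasDerivedCategory.standard

noncomputable section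

namespace Groth.Agent.ShriekAlgLib

open DRingLib DCohLib

variable (P P' : Type u) [CommRing P] [CommRing P'] [Algebra P P']

/-- Extension of scalars of modules. -/
abbrev extF : ModuleCat.{u} P ⥤ ModuleCat.{u} P' := ModuleCat.extendScalars.{u, u, u} (algebraMap P P')

/-- Extension of scalars of complexes. -/
abbrev extC : DRing.Cx P ⥤ DRing.Cx P' := DTen.extCx (algebraMap P P')

variable {P}

theorem extF_map_smul {M N : ModuleCat.{u} P} (r : P) (f : M ⟶ N) :
    (extF P P').map (r • f) = algebraMap P P' r • (extF P P').map f := by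
  apply ModuleCat.ExtendScalars.hom_ext
  intro m
  show ((1 : P') ⊗ₜ[P,algebraMap P P'] (r • f.hom m) : (extF P P').obj N) =
    algebraMap P P' r • ((1 : P') ⊗ₜ[P,algebraMap P P'] f.hom m : (extF P P').obj N)
  apply (extendScalarsTensorEquiv P P' N).injective
  rw [map_smul, algebraMap_smul]
  exact TensorProduct.tmul_smul r (1 : P') (f.hom m)

theorem extF_map_one_tmul {M N : ModuleCat.{u} P} (f : M ⟶ N) (m : M) :
    ((extF P P').map f).hom ((1 : P') ⊗ₜ[P,algebraMap P P'] m) = ((1 : P') ⊗ₜ[P,algebraMap P P'] f.hom m : (extF P P').obj N) := rfl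

/-- Base change of a cochain as a linear map. -/
def cochainExt (F X : DRing.Cx P) (i : ℤ) :
    (DRing.homCx F X).X i ⟶
      (ModuleCat.restrictScalars.{u} (algebraMap P P')).obj ((DRing.homCx ((extC P P').obj F) ((extC P P').obj X)).X i) :=
  ModuleCat.ofHom
    (Y := (ModuleCat.restrictScalars.{u} (algebraMap P P')).obj ((DRing.homCx ((extC P P').obj F) ((extC P P').obj X)).X i))
    { toFun := fun (z : Cochain F X i) => z.map (extF P P')
      map_add' := fun (z z' : Cochain F X i) => Cochain.map_add z z' (extF P P')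
      map_smul' := fun r (z : Cochain F X i) => by
        refine Cochain.ext _ _ fun p q hpq => ?_
        show (extF P P').map ((r • z).v p q hpq) = algebraMap P P' r • (extF P P').map (z.v p q hpq)
        rw [Cochain.smul_v, extF_map_smul] }

/-- The term of the base change map of Hom complexes. -/
def extHomTerm (F X : DRing.Cx P) (i : ℤ) :
    (extF P P').obj ((DRing.homCx F X).X i) ⟶ (DRing.homCx ((extC P P').obj F) ((extC P P').obj X)).X i :=
  ((ModuleCat.extendRestrictScalarsAdj.{u} (algebraMap P P')).homEquiv _ _).symm (cochainExt P' F X i)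

theorem extHomTerm_one_tmul (F X : DRing.Cx P) (i : ℤ) (z : Cochain F X i) :
    (extHomTerm P' F X i).hom ((1 : P') ⊗ₜ[P,algebraMap P P'] z) = z.map (extF P P') := by
  have h := ((ModuleCat.extendRestrictScalarsAdj.{u} (algebraMap P P')).homEquiv _ _).apply_symm_apply
    (cochainExt P' F X i)
  exact congr($(h).hom z)

/-- Base change of Hom complexes. -/
def extHom (F X : DRing.Cx P) :
    (extC P P').obj (DRing.homCx F X) ⟶ DRing.homCx ((extC P P').obj F) ((extC P P').obj X) where
  f i := extHomTerm P' F X i
  comm' i j _ := by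
    apply ModuleCat.ExtendScalars.hom_ext
    intro (z : Cochain F X i)
    show δ i j ((extHomTerm P' F X i).hom ((1 : P') ⊗ₜ[P,algebraMap P P'] z)) =
      (extHomTerm P' F X j).hom ((1 : P') ⊗ₜ[P,algebraMap P P'] (δ i j z))
    rw [extHomTerm_one_tmul, extHomTerm_one_tmul]
    exact δ_map (n := i) (m := j) z (extF P P')

theorem extHom_naturality (F : DRing.Cx P) {X Y : DRing.Cx P} (g : X ⟶ Y) :
    (extC P P').map (DRing.homCxMap F g) ≫ extHom P' F Y =
      extHom P' F X ≫ DRing.homCxMap ((extC P P').obj F) ((extC P P').map g) := by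
  refine HomologicalComplex.hom_ext _ _ fun i => ?_
  apply ModuleCat.ExtendScalars.hom_ext
  intro (z : Cochain F X i)
  show (extHomTerm P' F Y i).hom ((1 : P') ⊗ₜ[P,algebraMap P P'] (z.comp (Cochain.ofHom g) (add_zero i))) =
    ((extHomTerm P' F X i).hom ((1 : P') ⊗ₜ[P,algebraMap P P'] z) : Cochain _ _ i).comp
      (Cochain.ofHom ((extC P P').map g)) (add_zero i)
  rw [extHomTerm_one_tmul, extHomTerm_one_tmul, Cochain.map_comp, Cochain.map_ofHom]

variable (P)

/-- Extension of scalars of the ring itself. -/
def extUnit : (extF P P').obj (ModuleCat.of P P) ≅ ModuleCat.of P' P' :=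
  ((extendScalarsTensorEquiv P P' P).trans (TensorProduct.AlgebraTensorModule.rid P P' P')).toModuleIso

theorem extUnit_tmul (r : P) : (extUnit P P').hom.hom ((1 : P') ⊗ₜ[P,algebraMap P P'] r) = algebraMap P P' r := by
  show TensorProduct.AlgebraTensorModule.rid P P' P' ((1 : P') ⊗ₜ[P] r) = _
  rw [TensorProduct.AlgebraTensorModule.rid_tmul, Algebra.smul_def, mul_one]

/-- Extension of scalars of the unit complex. -/
def extOneIso : (extC P P').obj (oneCx P) ≅ oneCx P' :=
  (HomologicalComplex.singleMapHomologicalComplex (extF P P') (ComplexShape.up ℤ) 0).app (ModuleCat.of P P) ≪≫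
    (CochainComplex.singleFunctor (ModuleCat.{u} P') 0).mapIso (extUnit P P')

variable {P}

/-- The base change of the dual complex. -/
def extDual (F : DRing.Cx P) : (extC P P').obj (dualCx F) ⟶ dualCx ((extC P P').obj F) :=
  extHom P' F (oneCx P) ≫ DRing.homCxMap ((extC P P').obj F) (extOneIso P P').hom

theorem dualE_extDual_one_tmul (F : DRing.Cx P) (i : ℤ) (z : Cochain F (oneCx P) i) (v : F.X (-i)) :
    dualE (P := (extC P P').obj F) (neg_add_cancel i) (((extDual P' F).f i).hom ((1 : P') ⊗ₜ[P,algebraMap P P'] z))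
        ((1 : P') ⊗ₜ[P,algebraMap P P'] v) = algebraMap P P' (dualE (P := F) (neg_add_cancel i) z v) := by
  show (((((extHomTerm P' F (oneCx P) i).hom ((1 : P') ⊗ₜ[P,algebraMap P P'] z) : Cochain _ _ i).comp
      (Cochain.ofHom (extOneIso P P').hom) (add_zero i)).v (-i) 0 (neg_add_cancel i)) ≫
      (HomologicalComplex.singleObjXSelf (ComplexShape.up ℤ) 0 (ModuleCat.of P' P')).hom).hom _ = _
  rw [extHomTerm_one_tmul, Cochain.comp_zero_cochain_v, Cochain.map_v, Cochain.ofHom_v, Category.assoc]
  have h : (extOneIso P P').hom.f 0 ≫ (HomologicalComplex.singleObjXSelf (ComplexShape.up ℤ) 0 (ModuleCat.of P' P')).hom =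
      (extF P P').map (HomologicalComplex.singleObjXSelf (ComplexShape.up ℤ) 0 (ModuleCat.of P P)).hom ≫
        (extUnit P P').hom := by
    simp only [extOneIso, Iso.trans_hom, Iso.app_hom, Functor.mapIso_hom, HomologicalComplex.comp_f,
      HomologicalComplex.singleMapHomologicalComplex_hom_app_self, Category.assoc]
    erw [HomologicalComplex.single_map_f_self]
    simp [Category.assoc]
  erw [h]
  exact extUnit_tmul P P' (dualE (P := F) (neg_add_cancel i) z v)

/-- Duals of finite projective modules commute with base change. -/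
def dualBCEquiv (V : Type u) [AddCommGroup V] [Module P V] [Module.Finite P V] [Module.Projective P V] :
    P' ⊗[P] Module.Dual P V ≃+ (P' ⊗[P] V →ₗ[P'] P') :=
  ((TensorProduct.comm P P' (Module.Dual P V)).trans (dualTensorHomEquiv P V P')).toAddEquiv.trans
    (LinearMap.liftBaseChangeEquiv P').toAddEquiv

theorem dualBCEquiv_tmul (V : Type u) [AddCommGroup V] [Module P V] [Module.Finite P V] [Module.Projective P V]
    (s : P') (φ : Module.Dual P V) (v : V) :
    dualBCEquiv P' V (s ⊗ₜ[P] φ) ((1 : P') ⊗ₜ[P] v) = s * algebraMap P P' (φ v) := by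
  simp [dualBCEquiv, Algebra.smul_def, mul_comm]

theorem isIso_extDual (F : DRing.Cx P) (hF : ∀ i, FProj (F.X i)) : IsIso (extDual P' F) := by
  haveI : ∀ i, IsIso ((extDual P' F).f i) := fun i => by
    rw [ConcreteCategory.isIso_iff_bijective]
    haveI := (hF (-i)).1
    haveI := (hF (-i)).2
    let D := dualCx F
    let eD := extendScalarsTensorEquiv P P' (D.X i)
    let eV := extendScalarsTensorEquiv P P' (F.X (-i))
    let ed : P' ⊗[P] (D.X i) ≃+ P' ⊗[P] Module.Dual P (F.X (-i)) :=
      (LinearEquiv.lTensor P' (dualE (P := F) (neg_add_cancel i))).toAddEquiv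
    let e₂ : (dualCx ((extC P P').obj F)).X i ≃+ (P' ⊗[P] F.X (-i) →ₗ[P'] P') :=
      (dualE (P := (extC P P').obj F) (neg_add_cancel i)).toAddEquiv.trans
        (LinearEquiv.congrLeft P' P' eV).toAddEquiv
    let g : P' ⊗[P] (D.X i) →ₗ[P'] (dualCx ((extC P P').obj F)).X i :=
      ((extDual P' F).f i).hom ∘ₗ eD.symm.toLinearMap
    have key : ∀ y : P' ⊗[P] (D.X i), e₂ (g y) = dualBCEquiv P' (F.X (-i)) (ed y) := fun y => by
      induction y using TensorProduct.induction_on with
      | zero => rw [map_zero g, map_zero e₂, map_zero ed, map_zero]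
      | tmul s z =>
        apply LinearMap.ext
        intro w
        induction w using TensorProduct.induction_on with
        | zero => rw [map_zero, map_zero]
        | tmul t v =>
          rw [show (t ⊗ₜ[P] v) = t • ((1 : P') ⊗ₜ[P] v) by rw [TensorProduct.smul_tmul', smul_eq_mul, mul_one],
            map_smul, map_smul]
          congr 1
          rw [show (s ⊗ₜ[P] z) = s • ((1 : P') ⊗ₜ[P] z) by rw [TensorProduct.smul_tmul', smul_eq_mul, mul_one],
            map_smul g]
          have hd : ed (s • ((1 : P') ⊗ₜ[P] z)) = s ⊗ₜ[P] dualE (P := F) (neg_add_cancel i) z := by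
            rw [TensorProduct.smul_tmul', smul_eq_mul, mul_one]
            rfl
          refine Eq.trans ?_ ((congrArg (fun u => dualBCEquiv P' (F.X (-i)) u ((1 : P') ⊗ₜ[P] v)) hd).trans
            (dualBCEquiv_tmul P' (F.X (-i)) s (dualE (P := F) (neg_add_cancel i) z) v)).symm
          show dualE (P := (extC P P').obj F) (neg_add_cancel i) (s • g ((1 : P') ⊗ₜ[P] z))
            ((1 : P') ⊗ₜ[P,algebraMap P P'] v) = _
          rw [map_smul]
          exact congrArg (s * ·) (dualE_extDual_one_tmul P' F i z v)
        | add a b ha hb => rw [map_add, map_add, ha, hb]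
      | add a b ha hb => rw [map_add g, map_add e₂, map_add ed, map_add, ha, hb]
    have h : Function.Bijective fun x => e₂ (((extDual P' F).f i).hom x) := by
      have h0 : Function.Bijective fun x => dualBCEquiv P' (F.X (-i)) (ed (eD x)) :=
        (dualBCEquiv P' (F.X (-i))).bijective.comp (ed.bijective.comp eD.bijective)
      have he : ∀ x, e₂ (((extDual P' F).f i).hom x) = dualBCEquiv P' (F.X (-i)) (ed (eD x)) := fun x => by
        rw [← key]
        show _ = e₂ (((extDual P' F).f i).hom (eD.symm (eD x)))
        rw [eD.symm_apply_apply]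
      exact (funext he : (fun x => e₂ (((extDual P' F).f i).hom x)) = _) ▸ h0
    exact (Function.Bijective.of_comp_iff' e₂.bijective _).1 h
  exact HomologicalComplex.Hom.isIso_of_components _

end Groth.Agent.ShriekAlgLib
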