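import Groth.Agent.ShriekAlgLib.RelDualizing
import Groth.Agent.ShriekAlgLib.HomBC
import Groth.Agent.DRingLib.FibreCriterion
import Groth.Agent.DualCxLib.LocBound
import Groth.Agent.S6942

/-!
# Invertible complexes and their fibres
-/

set_option autoImplicit false
set_option backward.isDefEq.respectTransparency false
set_option linter.style.haveILetI false
set_option maxRecDepth 4000

universe u

open CategoryTheory CategoryTheory.Limits
open scoped TensorProduct
attribute [local instance] HasDerivedCategory.standard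

noncomputable section

namespace Groth.Agent.ShriekAlgLib

open DRingLib DCohLib

variable {A : Type u} [CommRing A]

/-- Cohomology of a shift. -/
def hdShiftEquiv (X : Dual.D A) (n i : ℤ) : Dual.HD A (X⟦n⟧) i ≃ₗ[A] Dual.HD A X (n + i) :=
  (((DerivedCategory.homologyFunctor (ModuleCat.{u} A) 0).shiftIso n i (n + i) rfl).app X).toLinearEquiv

theorem subsingleton_HD_inD (N : ModuleCat.{u} A) {i : ℤ} (hi : i ≠ 0) :
    Subsingleton (Dual.HD A (Dual.inD A N) i) := by
  refine ModuleCat.subsingleton_of_isZero ?_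
  rcases lt_or_gt_of_ne hi with hlt | hgt
  · exact DerivedCategory.isZero_of_isGE ((DerivedCategory.singleFunctor (ModuleCat.{u} A) 0).obj _) 0 i hlt
  · exact DerivedCategory.isZero_of_isLE ((DerivedCategory.singleFunctor (ModuleCat.{u} A) 0).obj _) 0 i hgt

theorem subsingleton_HD_inD_shift (N : ModuleCat.{u} A) (m : ℤ) {i : ℤ} (hi : i ≠ -m) :
    Subsingleton (Dual.HD A ((Dual.inD A N)⟦m⟧) i) := by
  haveI := subsingleton_HD_inD N (i := m + i) (by omega)
  exact (hdShiftEquiv (Dual.inD A N) m i).injective.subsingleton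

theorem nonempty_HD_inD_shift (N : ModuleCat.{u} A) (m d : ℤ) (hd : m + d = 0) :
    Nonempty (Dual.HD A ((Dual.inD A N)⟦m⟧) d ≃ₗ[A] N) := by
  obtain ⟨e⟩ := DRingLib.nonempty_HD_inD N
  exact ⟨(hdShiftEquiv (Dual.inD A N) m d).trans
    (((DerivedCategory.homologyFunctor (ModuleCat.{u} A) (m + d)).obj (Dual.inD A N) |> fun _ =>
      (eqToIso (congrArg (fun k => (DerivedCategory.homologyFunctor (ModuleCat.{u} A) k).obj (Dual.inD A N)) hd)).toLinearEquiv).trans e)⟩

theorem nonempty_iso_inD {N : Type u} [AddCommGroup N] [Module A N] {X : Dual.D A}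
    (h0 : ∀ i : ℤ, i ≠ 0 → Subsingleton (Dual.HD A X i)) (e : Dual.HD A X 0 ≃ₗ[A] N) :
    Nonempty (X ≅ Dual.inD A N) := by
  haveI : X.IsGE 0 := (DerivedCategory.isGE_iff _ _).2 fun i hi =>
    @ModuleCat.isZero_of_subsingleton _ _ _ (h0 i hi.ne)
  haveI : X.IsLE 0 := (DerivedCategory.isLE_iff _ _).2 fun i hi =>
    @ModuleCat.isZero_of_subsingleton _ _ _ (h0 i hi.ne')
  obtain ⟨Y, ⟨eY⟩⟩ := DerivedCategory.exists_iso_singleFunctor_obj_of_isGE_of_isLE X 0
  let eN : Y ≅ ModuleCat.of A N :=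
    ((DerivedCategory.singleFunctorCompHomologyFunctorIso (ModuleCat.{u} A) 0).app Y).symm ≪≫
      (DerivedCategory.homologyFunctor (ModuleCat.{u} A) 0).mapIso eY.symm ≪≫ e.toModuleIso
  exact ⟨eY ≪≫ (DerivedCategory.singleFunctor (ModuleCat.{u} A) 0).mapIso eN⟩

theorem nonempty_iso_inD_shift {N : Type u} [AddCommGroup N] [Module A N] {X : Dual.D A} (m d : ℤ) (hd : m + d = 0)
    (h0 : ∀ i : ℤ, i ≠ d → Subsingleton (Dual.HD A X i)) (e : Dual.HD A X d ≃ₗ[A] N) :
    Nonempty (X ≅ (Dual.inD A N)⟦m⟧) := by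
  obtain ⟨f⟩ := nonempty_iso_inD (N := N) (X := X⟦-m⟧)
    (fun i hi => by
      haveI := h0 (-m + i) (by omega)
      exact (hdShiftEquiv X (-m) i).injective.subsingleton)
    ((hdShiftEquiv X (-m) 0).trans
      ((eqToIso (congrArg (fun k => (DerivedCategory.homologyFunctor (ModuleCat.{u} A) k).obj X)
        (show -m + 0 = d by omega))).toLinearEquiv.trans e))
  exact ⟨((shiftFunctorCompIsoId (Dual.D A) (-m) m (neg_add_cancel m)).app X).symm ≪≫
    (shiftFunctor (Dual.D A) m).mapIso f⟩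

theorem nonempty_lbc_inD_shift (B : Type u) [CommRing B] [Algebra A B] [Module.Flat A B]
    [DRing.HasLBaseChange (algebraMap A B)] (m : ℤ) :
    Nonempty ((DRing.LBaseChange (algebraMap A B)).obj ((Dual.inD A A)⟦m⟧) ≅ (Dual.inD B B)⟦m⟧) := by
  obtain ⟨e⟩ := nonempty_lbc_unit A B
  exact ⟨DualCxLib.bcShiftIso A B (Dual.inD A A) m ≪≫ (shiftFunctor (Dual.D B) m).mapIso e⟩

theorem nonempty_lbc_unit_any {B : Type u} [CommRing B] (φ : A →+* B) [DRing.HasLBaseChange φ] :
    Nonempty ((DRing.LBaseChange φ).obj (Dual.inD A A) ≅ Dual.inD B B) := by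
  letI := φ.toAlgebra
  haveI : DRing.HasLBaseChange (algebraMap A B) := ‹DRing.HasLBaseChange φ›
  have hk : DRing.IsKFlat A (oneCx A) := isKFlat_of_projective (b := 0)
    (fun i hi => isZero_sng 0 _ (by omega)) fun i => by
      by_cases hi : i = 0
      · subst hi
        exact Module.Projective.of_equiv
          (HomologicalComplex.singleObjXSelf (ComplexShape.up ℤ) 0 (ModuleCat.of A A)).toLinearEquiv.symm
      · haveI : Subsingleton ((oneCx A).X i) := ModuleCat.subsingleton_of_isZero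
          (HomologicalComplex.isZero_single_obj_X (ComplexShape.up ℤ) 0 (ModuleCat.of A A) i hi)
        exact Module.Projective.of_free
  exact ⟨(DRing.LBaseChange (algebraMap A B)).mapIso (singleQZeroIso (ModuleCat.of A A)).symm ≪≫
    lbcIso (algebraMap A B) (oneCx A) hk ≪≫ DerivedCategory.Q.mapIso (extOneIso A B) ≪≫
    singleQZeroIso (ModuleCat.of B B)⟩

theorem nonempty_lbc_shift_unit {B : Type u} [CommRing B] (φ : A →+* B) [DRing.HasLBaseChange φ] (m : ℤ) :
    Nonempty ((DRing.LBaseChange φ).obj ((Dual.inD A A)⟦m⟧) ≅ (Dual.inD B B)⟦m⟧) := by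
  letI := φ.toAlgebra
  haveI : DRing.HasLBaseChange (algebraMap A B) := ‹DRing.HasLBaseChange φ›
  obtain ⟨e⟩ := nonempty_lbc_unit_any (algebraMap A B)
  exact ⟨DualCxLib.bcShiftIso A B (Dual.inD A A) m ≪≫ (shiftFunctor (Dual.D B) m).mapIso e⟩

theorem finite_HD_of_iso {X Y : Dual.D A} (e : X ≅ Y) (i : ℤ) (h : Module.Finite A (Dual.HD A X i)) :
    Module.Finite A (Dual.HD A Y i) :=
  haveI := h
  Module.Finite.equiv ((DerivedCategory.homologyFunctor (ModuleCat.{u} A) i).mapIso e).toLinearEquiv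

/-- Over a local ring, a pseudo-coherent complex with invertible fibre is invertible. -/
theorem nonempty_iso_of_fibre [IsNoetherianRing A] [IsLocalRing A] {K : Dual.D A}
    (hb : ∃ b : ℤ, ∀ i : ℤ, b < i → Subsingleton (Dual.HD A K i))
    (hfin : ∀ i : ℤ, Module.Finite A (Dual.HD A K i)) {L : Type u} [Field L] (φ : A →+* L)
    (hφ : Function.Surjective φ) [DRing.HasLBaseChange φ] (m : ℤ)
    (e : (DRing.LBaseChange φ).obj K ≅ (Dual.inD L L)⟦m⟧) : Nonempty (K ≅ (Dual.inD A A)⟦m⟧) := by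
  letI := φ.toAlgebra
  haveI : DRing.HasLBaseChange (algebraMap A L) := ‹DRing.HasLBaseChange φ›
  let K' := K⟦-m⟧
  let e' : (DRing.LBaseChange (algebraMap A L)).obj K' ≅ Dual.inD L L :=
    DualCxLib.bcShiftIso A L K (-m) ≪≫ (shiftFunctor (Dual.D L) (-m)).mapIso e ≪≫
      (shiftFunctorCompIsoId (Dual.D L) m (-m) (add_neg_cancel m)).app (Dual.inD L L)
  obtain ⟨b, hb⟩ := hb
  have hb' : ∀ i : ℤ, b + m < i → Subsingleton (Dual.HD A K' i) := fun i hi => by
    haveI := hb (-m + i) (by omega)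
    exact (hdShiftEquiv K (-m) i).injective.subsingleton
  have hfin' : ∀ i : ℤ, Module.Finite A (Dual.HD A K' i) := fun i => by
    haveI := hfin (-m + i)
    exact Module.Finite.equiv (hdShiftEquiv K (-m) i).symm
  have hpc : DRing.IsPseudoCoherent' A K' := (isPseudoCoherent'_iff _).2 fun k =>
    (isPseudoCoherent_iff k _).1 ((Groth.Agent.S6942.result A k K' A).1.2 ⟨⟨b + m, hb'⟩, fun i _ => hfin' i⟩)
  have hmax : (RingHom.ker φ).IsMaximal := RingHom.ker_isMaximal_of_surjective φ hφ
  haveI : ∀ q : Ideal A, DRing.HasLBaseChange (Ideal.Quotient.mk q) := fun q => DRingLib.hasLBaseChange _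
  obtain ⟨hperf, hamp⟩ := perfect_of_fibres hpc 0 0 fun q hq i hi => by
    have hker : RingHom.ker φ = q := (IsLocalRing.eq_maximalIdeal hmax).trans (IsLocalRing.eq_maximalIdeal hq).symm
    let g : L →+* A ⧸ q := RingHom.liftOfSurjective φ hφ
      ⟨Ideal.Quotient.mk q, by rw [Ideal.mk_ker, hker]⟩
    have hg : g.comp φ = Ideal.Quotient.mk q := RingHom.liftOfSurjective_comp φ hφ _
    letI := g.toAlgebra
    haveI : DRing.HasLBaseChange (algebraMap L (A ⧸ q)) := DRingLib.hasLBaseChange _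
    obtain ⟨c⟩ := nonempty_lbc_comp' (algebraMap A L) (algebraMap L (A ⧸ q)) (Ideal.Quotient.mk q) hg K'
    obtain ⟨u⟩ := nonempty_lbc_unit_any (algebraMap L (A ⧸ q))
    let E := c.symm ≪≫ (DRing.LBaseChange (algebraMap L (A ⧸ q))).mapIso e' ≪≫ u
    haveI := subsingleton_HD_inD (ModuleCat.of (A ⧸ q) (A ⧸ q)) (i := i) (by omega)
    exact ((DerivedCategory.homologyFunctor (ModuleCat.{u} (A ⧸ q)) i).mapIso E).toLinearEquiv.injective.subsingleton
  obtain ⟨F, hFb, hF, ⟨eF⟩⟩ := exists_fProj_of_amplitude (m := 0) (n := 0) (by omega)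
    ((isPseudoCoherent'_iff _).1 hpc _) hamp
  haveI := (hF 0).1
  haveI := (hF 0).2
  haveI : Module.Free A (F.X 0) := Module.free_of_flat_of_isLocalRing
  let F₁ := sng 0 (ModuleCat.of A (F.X 0))
  haveI hFge : F.IsStrictlyGE 0 := (CochainComplex.isStrictlyGE_iff _ _).2 fun i hi => hFb i (Or.inl hi)
  haveI hFle : F.IsStrictlyLE 0 := (CochainComplex.isStrictlyLE_iff _ _).2 fun i hi => hFb i (Or.inr hi)
  obtain ⟨N, ⟨eN⟩⟩ := CochainComplex.exists_iso_single F 0
  let eX : F.X 0 ≅ N := (HomologicalComplex.eval (ModuleCat.{u} A) (ComplexShape.up ℤ) 0).mapIso eN ≪≫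
    HomologicalComplex.singleObjXSelf (ComplexShape.up ℤ) 0 N
  have hk : DRing.IsKFlat A F := isKFlat_of_projective (b := 0) (fun i hi => hFb i (Or.inr hi)) fun i => (hF i).2
  let EL : DRing.toD ((DTen.extCx (algebraMap A L)).obj F) ≅ Dual.inD L L :=
    (lbcIso (algebraMap A L) F hk).symm ≪≫ (DRing.LBaseChange (algebraMap A L)).mapIso eF ≪≫ e'
  let EL' : DRing.toD ((DTen.extCx (algebraMap A L)).obj F) ≅ Dual.inD L ((extF A L).obj N) :=
    DerivedCategory.Q.mapIso ((DTen.extCx (algebraMap A L)).mapIso eN ≪≫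
      (HomologicalComplex.singleMapHomologicalComplex (extF A L) (ComplexShape.up ℤ) 0).app N) ≪≫
      singleQZeroIso ((extF A L).obj N)
  let eL : L ⊗[A] (F.X 0) ≃ₗ[L] L :=
    ((TensorProduct.AlgebraTensorModule.congr (LinearEquiv.refl L L) eX.toLinearEquiv).trans
      (extendScalarsTensorEquiv A L N).symm).trans
      ((DerivedCategory.singleFunctor (ModuleCat.{u} L) 0).preimageIso (EL'.symm ≪≫ EL)).toLinearEquiv
  have hr : Module.finrank A (F.X 0) = 1 := by
    rw [← Module.finrank_baseChange (R := L) (S := A) (M' := F.X 0), eL.finrank_eq, Module.finrank_self]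
  obtain ⟨eA⟩ : Nonempty (F.X 0 ≃ₗ[A] A) :=
    FiniteDimensional.nonempty_linearEquiv_of_finrank_eq (by rw [hr, Module.finrank_self])
  exact ⟨((shiftFunctorCompIsoId (Dual.D A) (-m) m (neg_add_cancel m)).app K).symm ≪≫
    (shiftFunctor (Dual.D A) m).mapIso (eF.symm ≪≫ DerivedCategory.Q.mapIso eN ≪≫ singleQZeroIso N ≪≫
      (DerivedCategory.singleFunctor (ModuleCat.{u} A) 0).mapIso
        (eX.symm.toLinearEquiv.trans eA).toModuleIso)⟩

theorem exists_smul_eq_zero_of_finite (q : Ideal A) [q.IsPrime] {N : Type u} [AddCommGroup N] [Module A N]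
    [Module.Finite A N] (h : ∀ y : N, ∃ s ∉ q, s • y = 0) : ∃ s ∉ q, ∀ y : N, s • y = 0 := by
  classical
  obtain ⟨S, hS⟩ := Module.Finite.fg_top (R := A) (M := N)
  choose s hs hsy using h
  refine ⟨∏ y ∈ S, s y, fun hmem => ?_, fun y => ?_⟩
  · obtain ⟨y, -, hy⟩ := (‹q.IsPrime›.prod_mem_iff).1 hmem
    exact hs y hy
  · have hy : y ∈ Submodule.span A (S : Set N) := by rw [hS]; trivial
    induction hy using Submodule.span_induction with
    | mem x hx =>
      rw [← Finset.mul_prod_erase S s hx, mul_comm, mul_smul, hsy x, smul_zero]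
    | zero => exact smul_zero _
    | add a b _ _ ha hb => rw [smul_add, ha, hb, add_zero]
    | smul a x _ hx => rw [smul_comm, hx, smul_zero]

/-- A complex invertible at a prime is invertible near it. -/
theorem exists_away_of_localization [IsNoetherianRing A] {K : Dual.D A} (a b : ℤ)
    (hab : ∀ i : ℤ, (i < a ∨ b < i) → Subsingleton (Dual.HD A K i))
    (hfin : ∀ i : ℤ, Module.Finite A (Dual.HD A K i)) (q : Ideal A) [q.IsPrime]
    [DRing.HasLBaseChange (algebraMap A (Localization.AtPrime q))] (m : ℤ)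
    (e : (DRing.LBaseChange (algebraMap A (Localization.AtPrime q))).obj K ≅
      (Dual.inD (Localization.AtPrime q) (Localization.AtPrime q))⟦m⟧) :
    ∃ (f : A) (_ : f ∉ q), ∀ [DRing.HasLBaseChange (algebraMap A (Localization.Away f))],
      Nonempty ((DRing.LBaseChange (algebraMap A (Localization.Away f))).obj K ≅
        (Dual.inD (Localization.Away f) (Localization.Away f))⟦m⟧) := by
  let B := Localization.AtPrime q
  let M := q.primeCompl
  let N := Dual.HD A K (-m)
  haveI := hfin (-m)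
  have hne : ∀ j, j ≠ -m → ∃ s ∉ q, ∀ y : Dual.HD A K j, s • y = 0 := fun j hj => by
    haveI := hfin j
    refine exists_smul_eq_zero_of_finite q fun y => DualCxLib.exists_smul_eq_zero_of_subsingleton_HD_lbc M B ?_ y
    haveI := subsingleton_HD_inD_shift (ModuleCat.of B B) m hj
    exact ((DerivedCategory.homologyFunctor (ModuleCat.{u} B) j).mapIso e).toLinearEquiv.injective.subsingleton
  choose s hs hsy using hne
  obtain ⟨e1⟩ := DualCxLib.nonempty_HD_lbc M B K (-m)
  obtain ⟨e2⟩ := nonempty_HD_inD_shift (ModuleCat.of B B) m (-m) (add_neg_cancel m)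
  let E : B ⊗[A] N ≃ₗ[B] B :=
    e1.symm.trans (((DerivedCategory.homologyFunctor (ModuleCat.{u} B) (-m)).mapIso e).toLinearEquiv.trans e2)
  let ι := TensorProduct.mk A B N 1
  obtain ⟨⟨x, t⟩, hx⟩ := IsLocalizedModule.surj M ι (E.symm 1)
  have hxs : E (ι x) = algebraMap A B (t : A) := by
    rw [← hx, Submonoid.smul_def, ← algebraMap_smul B, map_smul, E.apply_symm_apply, smul_eq_mul, mul_one]
  have hu : IsUnit (algebraMap A B (t : A)) := IsLocalization.map_units B t
  let g := LinearMap.toSpanSingleton A N x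
  obtain ⟨k, hk, hky⟩ : ∃ k ∉ q, ∀ r : LinearMap.ker g, k • r = 0 := by
    refine exists_smul_eq_zero_of_finite q fun ⟨r, hr⟩ => ?_
    have hr' : r • x = 0 := hr
    have h1 : algebraMap A B r * algebraMap A B (t : A) = 0 := by
      rw [← hxs, ← smul_eq_mul, ← map_smul E, algebraMap_smul, ← map_smul ι, hr', map_zero, map_zero]
    obtain ⟨⟨w, hw⟩, hwr⟩ := (IsLocalization.map_eq_zero_iff M B r).1 (hu.mul_left_eq_zero.1 h1)
    exact ⟨w, hw, Subtype.ext hwr⟩
  obtain ⟨c, hc, hcy⟩ : ∃ c ∉ q, ∀ y : N ⧸ LinearMap.range g, c • y = 0 := by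
    refine exists_smul_eq_zero_of_finite q fun y => ?_
    obtain ⟨y, rfl⟩ := Submodule.Quotient.mk_surjective _ y
    obtain ⟨⟨r, w⟩, hrw⟩ := IsLocalization.surj M (E (ι y))
    have h2 : algebraMap A B ((w : A) * (t : A)) • ι y = algebraMap A B r • ι x := E.injective (by
      rw [map_smul, map_smul, hxs, smul_eq_mul, smul_eq_mul, map_mul, ← hrw]
      ring)
    rw [algebraMap_smul, algebraMap_smul, ← map_smul, ← map_smul] at h2
    obtain ⟨⟨v, hv⟩, hvy⟩ := (IsLocalizedModule.eq_iff_exists M ι).1 h2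
    refine ⟨v * ((w : A) * (t : A)), M.mul_mem hv (M.mul_mem w.2 t.2), ?_⟩
    refine (Submodule.Quotient.mk_eq_zero _).2 ⟨v * r, ?_⟩
    show (v * r) • x = (v * ((w : A) * (t : A))) • y
    rw [mul_smul, mul_smul]
    exact hvy.symm
  classical
  let f := (∏ j ∈ (Finset.Icc a b).erase (-m), if h : j ≠ -m then s j h else 1) * (k * c)
  have hf : f ∉ q := by
    refine M.mul_mem (M.prod_mem fun j hj => ?_) (M.mul_mem hk hc)
    rw [dif_pos (Finset.ne_of_mem_erase hj)]
    exact hs j _
  refine ⟨f, hf, ?_⟩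
  intro _
  let Af := Localization.Away f
  let P := Submonoid.powers f
  have hzero : ∀ j, j ≠ -m → Subsingleton (Dual.HD Af ((DRing.LBaseChange (algebraMap A Af)).obj K) j) := fun j hj => by
    obtain ⟨ej⟩ := DualCxLib.nonempty_HD_lbc P Af K j
    suffices Subsingleton (Af ⊗[A] Dual.HD A K j) from ej.injective.subsingleton
    by_cases hj' : j ∈ Finset.Icc a b
    · refine subsingleton_of_forall_eq 0 fun z => ?_
      have hfz : f • z = 0 := by
        induction z using TensorProduct.induction_on with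
        | zero => exact smul_zero _
        | tmul r y =>
          rw [← TensorProduct.tmul_smul]
          simp only [f, ← Finset.mul_prod_erase _ _ (Finset.mem_erase.2 ⟨hj, hj'⟩), dif_pos hj]
          rw [mul_assoc, mul_smul, hsy, TensorProduct.tmul_zero]
        | add z w hz hw => rw [smul_add, hz, hw, add_zero]
      rw [← algebraMap_smul Af] at hfz
      exact (IsLocalization.Away.algebraMap_isUnit (S := Af) f).smul_eq_zero.1 hfz
    · haveI := hab j (by simp only [Finset.mem_Icc, not_and_or, not_le] at hj'; exact hj')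
      infer_instance
  let ιf := TensorProduct.mk A Af N 1
  have hbij : Function.Bijective (g.baseChange Af) := by
    have hnat : ∀ r : A, g.baseChange Af ((1 : Af) ⊗ₜ r) = ιf (r • x) := fun r => by
      rw [LinearMap.baseChange_tmul]; rfl
    have hu' : IsUnit (algebraMap A Af f) := IsLocalization.Away.algebraMap_isUnit (S := Af) f
    let ιA := TensorProduct.mk A Af A 1
    refine ⟨(injective_iff_map_eq_zero _).2 fun z hz => ?_, fun z => ?_⟩
    · obtain ⟨⟨r, w⟩, hrw⟩ := IsLocalizedModule.surj P ιA z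
      have h3 : ιf (r • x) = 0 := by
        rw [← hnat, show (1 : Af) ⊗ₜ[A] r = ιA r from rfl, ← hrw, Submonoid.smul_def, ← algebraMap_smul Af,
          map_smul, hz, smul_zero]
      obtain ⟨⟨v, hv⟩, hvr⟩ := (IsLocalizedModule.eq_zero_iff P ιf).1 h3
      have h4 : f * (v * r) = 0 := by
        have := congrArg Subtype.val (hky ⟨v * r, show (v * r) • x = 0 by rw [mul_smul]; exact hvr⟩)
        simp only [SetLike.val_smul, smul_eq_mul, ZeroMemClass.coe_zero] at this
        calc f * (v * r) = (∏ j ∈ (Finset.Icc a b).erase (-m), if h : j ≠ -m then s j h else 1) * c * (k * (v * r)) := by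
              simp only [f]; ring
          _ = 0 := by rw [this, mul_zero]
      have h5 : ιA r = 0 := by
        refine (IsLocalizedModule.eq_zero_iff P ιA).2 ⟨⟨f, Submonoid.mem_powers f⟩ * ⟨v, hv⟩, ?_⟩
        rw [Submonoid.smul_def, smul_eq_mul]
        simpa [mul_assoc] using h4
      rw [h5, Submonoid.smul_def, ← algebraMap_smul Af] at hrw
      exact (IsLocalization.map_units Af w).smul_eq_zero.1 hrw
    · obtain ⟨⟨y, w⟩, hyw⟩ := IsLocalizedModule.surj P ιf z
      obtain ⟨r, hr⟩ : f • y ∈ LinearMap.range g := by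
        refine (Submodule.Quotient.mk_eq_zero _).1 ?_
        rw [Submodule.Quotient.mk_smul]
        simp only [f, mul_smul, hcy, smul_zero]
      obtain ⟨u, hu2⟩ := (IsLocalization.map_units Af (⟨f, Submonoid.mem_powers f⟩ * w : P)).exists_left_inv
      refine ⟨u • ((1 : Af) ⊗ₜ[A] r), ?_⟩
      rw [map_smul, hnat, show r • x = f • y from hr, map_smul, ← hyw, Submonoid.smul_def, ← mul_smul,
        ← algebraMap_smul Af (f * (w : A)), smul_smul]
      rw [show ((⟨f, Submonoid.mem_powers f⟩ * w : P) : A) = f * (w : A) from rfl] at hu2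
      rw [hu2, one_smul]
  obtain ⟨e3⟩ := DualCxLib.nonempty_HD_lbc P Af K (-m)
  exact nonempty_iso_inD_shift m (-m) (add_neg_cancel m) hzero
    (e3.trans ((LinearEquiv.ofBijective _ hbij).symm.trans (TensorProduct.AlgebraTensorModule.rid A Af Af)))

end Groth.Agent.ShriekAlgLib
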