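import Groth.Agent.ShriekAlgLib.TorAmp
import Groth.Agent.DRingLib.WeaklyEtaleAmp
import Groth.Agent.DRingLib.RestrictAmp

/-!
# The degrees of the relative dualizing complex
-/

set_option autoImplicit false
set_option backward.isDefEq.respectTransparency false
set_option linter.style.haveILetI false

universe u

open CategoryTheory CategoryTheory.Limits AlgebraicGeometry
attribute [local instance] HasDerivedCategory.standard

noncomputable section

namespace Groth.Agent.ShriekAlgLib

open DRingLib DCohLib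

/-- The restriction of `ω` to the polynomial ring is the dual of a resolution of length `n`. -/
theorem exists_dual_model (R A : Type u) [CommRing R] [CommRing A] [IsNoetherianRing R]
    [Algebra R A] [Module.Flat R A] (n : ℕ) (ψ : MvPolynomial (Fin n) R →ₐ[R] A) (hψ : Function.Surjective ψ)
    [DRing.HasLBaseChange (algebraMap R (MvPolynomial (Fin n) R))]
    (Rψ : Dual.D (MvPolynomial (Fin n) R) ⥤ Dual.D A) (adj : DRing.restrictD ψ.toRingHom ⊣ Rψ) :
    ∃ F : DRing.Cx (MvPolynomial (Fin n) R), DRing.VanishesOutside F (-(n : ℤ)) 0 ∧ (∀ i, FProj (F.X i)) ∧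
      Nonempty (DRing.toD F ≅ (DRing.restrictD ψ.toRingHom).obj (Dual.inD A A)) ∧
      Nonempty ((DRing.restrictD ψ.toRingHom).obj (Rψ.obj
        ((DRing.LBaseChange (algebraMap R (MvPolynomial (Fin n) R))).obj (Dual.inD R R))) ≅ DRing.toD (dualCx F)) := by
  let P := MvPolynomial (Fin n) R
  letI := ψ.toRingHom.toAlgebra
  haveI : IsScalarTower R P A := .of_algebraMap_eq fun r => (ψ.commutes r).symm
  haveI : Module.Finite P A := Module.Finite.of_surjective (Algebra.linearMap P A) hψ
  let L := (DRing.LBaseChange (algebraMap R P)).obj (Dual.inD R R)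
  obtain ⟨eL⟩ := nonempty_lbc_unit R P
  haveI : (Dual.inD R R).IsGE 0 :=
    inferInstanceAs (((DerivedCategory.singleFunctor (ModuleCat.{u} R) 0).obj _).IsGE 0)
  haveI : L.IsGE 0 := DualCxLib.isGE_bcD R P (Dual.inD R R) 0
  obtain ⟨r⟩ := nonempty_restrictD_inD (algebraMap P A) (ModuleCat.of A A)
  obtain ⟨hp, hamp⟩ := perfect_amp_presentation R A n
  obtain ⟨F, hFb, hF, ⟨eF⟩⟩ := exists_fProj_of_amplitude (m := -(n : ℤ)) (n := 0) (by omega)
    ((isPseudoCoherent'_iff _).1 ((perf_iff _).1 ((isPerfect_iff _).1 hp)).1 _)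
    (hasTorAmplitudeIn_mono (by omega) le_rfl hamp)
  let eF' := eF ≪≫ r.symm
  obtain ⟨e⟩ := nonempty_res_coind A 0 (isCoind_of_adj adj L) eL.symm
    (F := F) ⟨⟨-(n : ℤ), 0, hFb⟩, hF⟩ eF'
  exact ⟨F, hFb, hF, ⟨eF'⟩, ⟨e⟩⟩

theorem shriekVia_range (R A : Type u) [CommRing R] [CommRing A] [IsNoetherianRing R]
    [Algebra R A] [Module.Flat R A] (n : ℕ) (ψ : MvPolynomial (Fin n) R →ₐ[R] A) (hψ : Function.Surjective ψ)
    [DRing.HasLBaseChange (algebraMap R (MvPolynomial (Fin n) R))]
    (Rψ : Dual.D (MvPolynomial (Fin n) R) ⥤ Dual.D A) (adj : DRing.restrictD ψ.toRingHom ⊣ Rψ) :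
    (∀ i : ℤ, 0 < i → Subsingleton (Dual.HD A (Dual2.shriekVia n Rψ (Dual.inD R R)) i)) ∧
      ∀ d : ℕ, (∀ q : PrimeSpectrum A,
          FlatMor.fibreDimAt (Spec.map (CommRingCat.ofHom (algebraMap R A))) q ≤ (d : WithBot ℕ∞)) →
        DRing.HasTorAmplitudeIn R (-(d : ℤ)) 0
          ((DRing.restrictD (algebraMap R A)).obj (Dual2.shriekVia n Rψ (Dual.inD R R))) := by
  let P := MvPolynomial (Fin n) R
  letI := ψ.toRingHom.toAlgebra
  obtain ⟨F, hFb, hF, ⟨eF⟩, ⟨e⟩⟩ := exists_dual_model R A n ψ hψ Rψ adj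
  let V := Rψ.obj ((DRing.LBaseChange (algebraMap R P)).obj (Dual.inD R R))
  refine ⟨fun i hi => ?_, fun d hd => ?_⟩
  · have hz : IsZero ((dualCx F).X (n + i)) := by
      haveI : Subsingleton (F.X (-((n : ℤ) + i))) := ModuleCat.subsingleton_of_isZero (hFb _ (by omega))
      haveI : Subsingleton (Module.Dual P (F.X (-((n : ℤ) + i)))) :=
        ⟨fun f g => LinearMap.ext fun x => by rw [Subsingleton.elim x 0, map_zero, map_zero]⟩
      haveI : Subsingleton (CochainComplex.HomComplex.Cochain F (oneCx P) (n + i)) :=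
        (dualE (neg_add_cancel _)).toEquiv.subsingleton
      exact ModuleCat.isZero_of_subsingleton (ModuleCat.of P (CochainComplex.HomComplex.Cochain F (oneCx P) (n + i)))
    have h1 : ((DTen.resCx ψ.toRingHom).obj (DerivedCategory.Q.objPreimage V)).ExactAt (n + i) :=
      exactAt_of_toD_iso (e.symm ≪≫ (DRing.restrictD ψ.toRingHom).mapIso
        (DerivedCategory.Q.objObjPreimageIso V).symm ≪≫ (DTen.resFactors ψ.toRingHom).app _) _
        (HomologicalComplex.ExactAt.of_isZero hz)
    rw [exactAt_resCx_iff, exactAt_iff_isZero_homologyFunctor] at h1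
    refine ModuleCat.subsingleton_of_isZero ((h1.of_iso ?_).of_iso (hdShiftIso A V n i))
    exact (DerivedCategory.homologyFunctor (ModuleCat.{u} A) (n + i)).mapIso
      (DerivedCategory.Q.objObjPreimageIso V).symm
  · let e0 := resDComp (algebraMap R P) ψ.toRingHom (algebraMap R A) ψ.comp_algebraMap.symm
    have h := amp_shift (amp_of_iso ((DRing.restrictD (algebraMap R P)).mapIso e.symm ≪≫ e0.app V)
      (exists_dual_amp R A n ψ hψ d hd F hF hFb eF)) n
    exact hasTorAmplitudeIn_mono (by omega) (by omega)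
      (amp_of_iso (((DRing.restrictD (algebraMap R A)).commShiftIso (n : ℤ)).app V).symm h)

end Groth.Agent.ShriekAlgLib
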