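import Groth.Agent.ShriekAlgLib.ShriekTensor
import Groth.Agent.ShriekAlgLib.Self
import Mathlib.Algebra.Category.ModuleCat.Monoidal.Adjunction

/-!
# Base change of the upper shriek of a flat algebra
-/

set_option autoImplicit false
set_option backward.isDefEq.respectTransparency false
set_option linter.style.haveILetI false

universe u

open CategoryTheory CategoryTheory.Limits MonoidalCategory
open scoped TensorProduct
attribute [local instance] HasDerivedCategory.standard MvPolynomial.algebraMvPolynomial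
  Algebra.TensorProduct.rightAlgebra

noncomputable section

namespace Groth.Agent.ShriekAlgLib

open DRingLib DCohLib

section Monoidal

variable (A B : Type u) [CommRing A] [CommRing B] [Algebra A B]

/-- `(M, N) ↦ (B ⊗ M) ⊗ (B ⊗ N)`. -/
abbrev extTen : ModuleCat.{u} A ⥤ ModuleCat.{u} A ⥤ ModuleCat.{u} B :=
  extF A B ⋙ curriedTensor (ModuleCat.{u} B) ⋙ (Functor.whiskeringLeft _ _ _).obj (extF A B)

instance additive_extTen : (extTen A B).Additive := inferInstance

instance additive_extTen_obj (M : ModuleCat.{u} A) : ((extTen A B).obj M).Additive :=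
  inferInstanceAs (extF A B ⋙ (curriedTensor (ModuleCat.{u} B)).obj ((extF A B).obj M)).Additive

/-- Extension of scalars is monoidal, as bifunctors. -/
def extTenIso : curriedTensor (ModuleCat.{u} A) ⋙ (Functor.whiskeringRight _ _ _).obj (extF A B) ≅ extTen A B :=
  NatIso.ofComponents
    (fun M => NatIso.ofComponents (fun N => (Functor.Monoidal.μIso (extF A B) M N).symm)
      fun {N N'} f => by
        dsimp
        exact (Functor.OplaxMonoidal.δ_natural_right (F := extF A B) M f).symm)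
    fun {M M'} f => by
      ext N : 2
      dsimp
      exact (Functor.OplaxMonoidal.δ_natural_left (F := extF A B) f N).symm

/-- Extension of scalars of a tensor product of complexes. -/
def extTenCxIso (X E : DRing.Cx A) :
    (extC A B).obj (X ⊗ E : DRing.Cx A) ≅ ((extC A B).obj X ⊗ (extC A B).obj E : DRing.Cx B) :=
  KFlat.mapTotIso (extTenIso A B) X E

end Monoidal

theorem nonempty_toD_tensor_congr {A : Type u} [CommRing A] {X X' E : DRing.Cx A} (hE : DRing.IsKFlat A E)
    (e : DRing.toD X ≅ DRing.toD X') : Nonempty (DRing.toD (X ⊗ E : DRing.Cx A) ≅ DRing.toD (X' ⊗ E : DRing.Cx A)) := by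
  haveI := DRingLib.hasLTen A
  haveI := DTenLib.isIso_ε_right X E hE
  haveI := DTenLib.isIso_ε_right X' E hE
  exact ⟨(asIso ((DTen.ε A).app (X, E))).symm ≪≫ (DTen.LTen₂ A).mapIso (Iso.prod e (Iso.refl _)) ≪≫
    asIso ((DTen.ε A).app (X', E))⟩

theorem shriekVia_baseChange_flat (R R' A : Type u) [CommRing R] [CommRing R'] [CommRing A] [IsNoetherianRing R]
    [IsNoetherianRing R'] [IsNoetherianRing A]
    [Algebra R R'] [Algebra R A] [Module.Flat R A] (n : ℕ) (ψ : MvPolynomial (Fin n) R →ₐ[R] A)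
    (hψ : Function.Surjective ψ) [DRing.HasLBaseChange (algebraMap R (MvPolynomial (Fin n) R))]
    (Rψ : Dual.D (MvPolynomial (Fin n) R) ⥤ Dual.D A) (adj : DRing.restrictD ψ.toRingHom ⊣ Rψ) (m : ℕ)
    (ψ' : MvPolynomial (Fin m) R' →ₐ[R'] (R' ⊗[R] A)) (hψ' : Function.Surjective ψ')
    [DRing.HasLBaseChange (algebraMap R' (MvPolynomial (Fin m) R'))]
    (Rψ' : Dual.D (MvPolynomial (Fin m) R') ⥤ Dual.D (R' ⊗[R] A)) (adj' : DRing.restrictD ψ'.toRingHom ⊣ Rψ')
    [DRing.HasLBaseChange (algebraMap A (R' ⊗[R] A))] [DRing.HasLBaseChange (algebraMap R R')] (K : Dual.D R) :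
    Nonempty ((DRing.LBaseChange (algebraMap A (R' ⊗[R] A))).obj (Dual2.shriekVia n Rψ K) ≅
      Dual2.shriekVia m Rψ' ((DRing.LBaseChange (algebraMap R R')).obj K)) := by
  let P := MvPolynomial (Fin n) R
  let P' := MvPolynomial (Fin n) R'
  let A' := R' ⊗[R] A
  letI : Algebra P A := ψ.toRingHom.toAlgebra
  haveI : IsScalarTower R P A := .of_algebraMap_eq fun r => (ψ.commutes r).symm
  let ψ'' : P' →ₐ[R'] A' := MvPolynomial.aeval fun i => algebraMap A A' (ψ (MvPolynomial.X i))
  letI : Algebra P' A' := ψ''.toRingHom.toAlgebra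
  letI : Algebra P A' := ((algebraMap A A').comp (algebraMap P A)).toAlgebra
  haveI : IsScalarTower P A A' := .of_algebraMap_eq fun _ => rfl
  haveI : IsScalarTower R' P' A' := .of_algebraMap_eq fun r => (ψ''.commutes r).symm
  haveI : IsScalarTower R P A' := .of_algebraMap_eq fun r => by
    rw [IsScalarTower.algebraMap_apply R A A', IsScalarTower.algebraMap_apply R P A]
    rfl
  haveI : IsScalarTower P P' A' := .of_algebraMap_eq fun p => by
    refine RingHom.congr_fun (f := algebraMap P A') (g := ψ''.toRingHom.comp (algebraMap P P')) ?_ p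
    refine MvPolynomial.ringHom_ext (fun r => ?_) fun i => ?_
    · show algebraMap P A' (algebraMap R P r) = ψ'' (MvPolynomial.map (algebraMap R R') (MvPolynomial.C r))
      rw [← IsScalarTower.algebraMap_apply R P A', MvPolynomial.map_C, IsScalarTower.algebraMap_apply R R' A']
      exact (ψ''.commutes _).symm
    · show algebraMap A A' (ψ (MvPolynomial.X i)) = ψ'' (MvPolynomial.map (algebraMap R R') (MvPolynomial.X i))
      rw [MvPolynomial.map_X, MvPolynomial.aeval_X]
  haveI : IsScalarTower R P' A' := .of_algebraMap_eq fun r => by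
    rw [IsScalarTower.algebraMap_apply R R' A', IsScalarTower.algebraMap_apply R R' P',
      ← IsScalarTower.algebraMap_apply R' P' A']
  haveI hPA : Algebra.IsPushout P A P' A' :=
    (Algebra.IsPushout.comp_iff R P R' (S' := P') (T := A) (T' := A')).1 inferInstance
  haveI : Algebra.IsPushout P P' A A' := hPA.symm
  haveI : Module.Flat R' P' := inferInstance
  have hs : Function.Surjective ψ'' := by
    intro x
    induction x using TensorProduct.induction_on with
    | zero => exact ⟨0, map_zero ψ''⟩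
    | tmul r a =>
      obtain ⟨p, rfl⟩ := hψ a
      refine ⟨algebraMap R' P' r * algebraMap P P' p, ?_⟩
      rw [map_mul, show ψ'' (algebraMap P P' p) = algebraMap P A' p from
        (IsScalarTower.algebraMap_apply P P' A' p).symm, ψ''.commutes]
      show (r ⊗ₜ[R] (1 : A)) * ((1 : R') ⊗ₜ[R] ψ p) = r ⊗ₜ[R] ψ p
      rw [Algebra.TensorProduct.tmul_mul_tmul, mul_one, one_mul]
    | add x y hx hy =>
      obtain ⟨p, rfl⟩ := hx
      obtain ⟨q, rfl⟩ := hy
      exact ⟨p + q, map_add ψ'' p q⟩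
  haveI : DRing.HasLBaseChange (algebraMap P A) := DRingLib.hasLBaseChange _
  haveI : DRing.HasLBaseChange (algebraMap P A') := DRingLib.hasLBaseChange _
  haveI : DRing.HasLBaseChange (algebraMap P P') := DRingLib.hasLBaseChange _
  haveI : DRing.HasLBaseChange (algebraMap P' A') := DRingLib.hasLBaseChange _
  haveI : DRing.HasLBaseChange (algebraMap R' P') := DRingLib.hasLBaseChange _
  haveI : DRing.HasLBaseChange (algebraMap R P') := DRingLib.hasLBaseChange _
  obtain ⟨F, hFb, hFp, ⟨eF⟩, -⟩ := exists_dual_model R A n ψ hψ Rψ adj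
  have hF : Bdd FProj F := ⟨⟨-(n : ℤ), 0, hFb⟩, hFp⟩
  haveI := hF.isKProjective projClass_fProj
  obtain ⟨r⟩ := nonempty_restrictD_inD (algebraMap P A) (ModuleCat.of A A)
  obtain ⟨π, hπQ⟩ := Q_map_surjective F (sng 0 (resMod (P := P) A))
    (eF ≪≫ r ≪≫ (singleQZeroIso (resMod (P := P) A)).symm).hom
  haveI : IsIso (DerivedCategory.Q.map π) := hπQ ▸ inferInstance
  have hπ : QuasiIso π := (DerivedCategory.isIso_Q_map_iff_quasiIso (φ := π)).1 inferInstance
  obtain ⟨eL⟩ := nonempty_lbc_unit R P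
  let V := Rψ.obj ((DRing.LBaseChange (algebraMap R P)).obj (Dual.inD R R))
  obtain ⟨⟨a, b, hab⟩, -⟩ := shriekVia_self_bounded R A n ψ hψ Rψ adj
  have hV : AboveZero ((b + n) + 1) V := fun i hi => by
    haveI := hab (i - n) (Or.inr (by omega))
    have h : IsZero ((DerivedCategory.homologyFunctor (ModuleCat.{u} A) ((n : ℤ) + (i - n))).obj V) :=
      (ModuleCat.isZero_of_subsingleton _).of_iso (hdShiftIso A V n (i - n)).symm
    simpa using h
  obtain ⟨E, hEb, hEp, ⟨eE⟩⟩ := exists_proj_representative hV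
  have hV0 : IsCoind (algebraMap P A) (Dual.inD P P) V := (isCoind_of_adj adj _).of_iso eL (Iso.refl V)
  have hE : DRing.IsKFlat A E := isKFlat_of_projective hEb hEp
  let G₀ := DTenLib.repr₀ K
  have hG₀ : DRing.IsKFlat R G₀ := DTenLib.isKFlat_repr₀ K
  let G := (extC R P).obj G₀
  have hG : DRing.IsKFlat P G := DTenLib.isKFlat_extCx _ hG₀
  let eG : DRing.toD G ≅ (DRing.LBaseChange (algebraMap R P)).obj K :=
    (lbcIso (algebraMap R P) G₀ hG₀).symm ≪≫ (DRing.LBaseChange (algebraMap R P)).mapIso (DTenLib.reprIso₀ K)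
  let X := (extC P A).obj G
  have hX : DRing.IsKFlat A X := DTenLib.isKFlat_extCx _ hG
  obtain ⟨e₁⟩ := ((isCoind_tensor π hF hπ hG (hV0.of_iso (Iso.refl _) eE.symm)).of_iso eG (Iso.refl _)).iso_adj adj
  obtain ⟨Rψ'', ⟨adj''⟩⟩ := exists_rightAdjoint ψ''.toRingHom
  obtain ⟨F', hFb', hFp', ⟨eF'⟩, -⟩ := exists_dual_model R' A' n ψ'' hs Rψ'' adj''
  have hF' : Bdd FProj F' := ⟨⟨-(n : ℤ), 0, hFb'⟩, hFp'⟩
  haveI := hF'.isKProjective projClass_fProj
  obtain ⟨r'⟩ := nonempty_restrictD_inD (algebraMap P' A') (ModuleCat.of A' A')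
  obtain ⟨π', hπQ'⟩ := Q_map_surjective F' (sng 0 (resMod (P := P') A'))
    (eF' ≪≫ r' ≪≫ (singleQZeroIso (resMod (P := P') A')).symm).hom
  haveI : IsIso (DerivedCategory.Q.map π') := hπQ' ▸ inferInstance
  have hπ' : QuasiIso π' := (DerivedCategory.isIso_Q_map_iff_quasiIso (φ := π')).1 inferInstance
  haveI : Module.Flat R P := inferInstance
  have hc := isCoind_baseChange P P' A A' R R' hF eF hEb hEp eE hV0
  let E' := (extC A A').obj E
  have hE' : DRing.IsKFlat A' E' := DTenLib.isKFlat_extCx _ hE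
  let eE' : DRing.toD E' ≅ (DRing.LBaseChange (algebraMap A A')).obj V :=
    (lbcIso (algebraMap A A') E hE).symm ≪≫ (DRing.LBaseChange (algebraMap A A')).mapIso eE
  let G' := (extC P P').obj G
  have hG' : DRing.IsKFlat P' G' := DTenLib.isKFlat_extCx _ hG
  obtain ⟨e₂⟩ := nonempty_lbc_comp' (algebraMap R P) (algebraMap P P') (algebraMap R P')
    (IsScalarTower.algebraMap_eq R P P').symm K
  obtain ⟨e₃⟩ := nonempty_lbc_comp' (algebraMap R R') (algebraMap R' P') (algebraMap R P')
    (IsScalarTower.algebraMap_eq R R' P').symm K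
  let eG' : DRing.toD G' ≅ (DRing.LBaseChange (algebraMap R' P')).obj ((DRing.LBaseChange (algebraMap R R')).obj K) :=
    (lbcIso (algebraMap P P') G hG).symm ≪≫ (DRing.LBaseChange (algebraMap P P')).mapIso eG ≪≫ e₂ ≪≫ e₃.symm
  have h4 := (isCoind_tensor π' hF' hπ' hG' (hc.of_iso (Iso.refl _) eE'.symm)).of_iso eG' (Iso.refl _)
  obtain ⟨e₄⟩ := shriekVia_iso_of_isCoind m ψ' hψ' Rψ' adj' n ψ'' hs _ _ h4
  obtain ⟨e₅⟩ := nonempty_lbc_comp' (algebraMap P A) (algebraMap A A') (algebraMap P A') rfl (DRing.toD G)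
  obtain ⟨e₆⟩ := nonempty_lbc_comp' (algebraMap P P') (algebraMap P' A') (algebraMap P A')
    (IsScalarTower.algebraMap_eq P P' A').symm (DRing.toD G)
  obtain ⟨e₇⟩ := nonempty_toD_tensor_congr hE' (X := (extC A A').obj X) (X' := (extC P' A').obj G')
    ((lbcIso (algebraMap A A') X hX).symm ≪≫
      (DRing.LBaseChange (algebraMap A A')).mapIso (lbcIso (algebraMap P A) G hG).symm ≪≫ e₅ ≪≫ e₆.symm ≪≫
      (DRing.LBaseChange (algebraMap P' A')).mapIso (lbcIso (algebraMap P P') G hG) ≪≫
      lbcIso (algebraMap P' A') G' hG')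
  exact ⟨DualCxLib.bcShiftIso A A' _ n ≪≫ (shiftFunctor (Dual.D A') (n : ℤ)).mapIso
    ((DRing.LBaseChange (algebraMap A A')).mapIso e₁ ≪≫
      lbcIso (algebraMap A A') _ (DTenLib.isKFlat_tensor hX hE) ≪≫
      DerivedCategory.Q.mapIso (extTenCxIso A A' X E) ≪≫ e₇) ≪≫ e₄.symm⟩

end Groth.Agent.ShriekAlgLib
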