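import Groth.Agent.ShriekAlgLib.Range
import Groth.Agent.DualCxLib.LocMain

/-!
# Endomorphisms of a coinduced complex with perfect source
-/

set_option autoImplicit false
set_option backward.isDefEq.respectTransparency false
set_option linter.style.haveILetI false

universe u

open CategoryTheory CategoryTheory.Limits CochainComplex.HomComplex
attribute [local instance] HasDerivedCategory.standard

noncomputable section

namespace Groth.Agent.ShriekAlgLib

open DRingLib DCohLib

variable {P : Type u} [CommRing P] {F : DRing.Cx P}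

theorem Q_quotient_bijective {D Y : DRing.Cx P} [D.IsKProjective] :
    Function.Bijective fun g : (HomotopyCategory.quotient (ModuleCat.{u} P) (ComplexShape.up ℤ)).obj D ⟶
      (HomotopyCategory.quotient (ModuleCat.{u} P) (ComplexShape.up ℤ)).obj Y => DerivedCategory.Qh.map g :=
  CochainComplex.IsKProjective.Qh_map_bijective D _

theorem subsingleton_hom_dual_of_exact (hF : Bdd FProj F) (i : ℤ) (h : F.ExactAt i) :
    Subsingleton (DRing.toD (dualCx F) ⟶ (Dual.inD P P)⟦i⟧) := by
  haveI := (dualCx_bdd hF).isKProjective projClass_fProj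
  have hsub : Subsingleton (CohomologyClass (dualCx F) (oneCx P) i) := subsingleton_of_forall_eq 0 fun c => by
    obtain ⟨z, rfl⟩ := c.mk_surjective
    rw [CohomologyClass.mk_eq_zero_iff]
    let B := biDualIso (P := F) hF.2
    have hB : ∀ (j : ℤ), Function.Injective (B.hom.f j).hom := fun j =>
      (HomologicalComplex.Hom.isoApp B j).toLinearEquiv.injective
    let x : F.X i := (B.inv.f i).hom (z : Cochain (dualCx F) (oneCx P) i)
    have hx : (B.hom.f i).hom x = (z : Cochain (dualCx F) (oneCx P) i) :=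
      (HomologicalComplex.Hom.isoApp B i).toLinearEquiv.apply_symm_apply _
    have hdx : (F.d i (i + 1)).hom x = 0 := by
      apply hB (i + 1)
      refine Eq.trans ?_ (map_zero _).symm
      refine (congr($(B.hom.comm i (i + 1)).hom x)).symm.trans ?_
      show δ i (i + 1) ((B.hom.f i).hom x) = 0
      rw [hx]
      exact z.δ_eq_zero (i + 1)
    obtain ⟨y, hy⟩ := (ShortComplex.moduleCat_exact_iff _).1
      ((HomologicalComplex.exactAt_iff' F (i - 1) i (i + 1) (by simp) (by simp)).1 h) x hdx
    refine ⟨i - 1, by omega, (B.hom.f (i - 1)).hom y, ?_⟩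
    rw [← hx, ← show (F.d (i - 1) i).hom y = x from hy]
    exact congr($(B.hom.comm (i - 1) i).hom y)
  have h2 : Subsingleton (DRing.toD (dualCx F) ⟶ DRing.toD ((oneCx P)⟦i⟧)) := by
    haveI := (CohomologyClass.toHom_bijective (dualCx F) (oneCx P) i).2.subsingleton
    exact (Q_quotient_bijective (D := dualCx F) (Y := (oneCx P)⟦i⟧)).2.subsingleton
  exact (Iso.homCongr (Iso.refl _) ((DerivedCategory.Q.commShiftIso i).app (oneCx P) ≪≫
    (shiftFunctor (Dual.D P) i).mapIso (singleQZeroIso (ModuleCat.of P P)))).subsingleton_congr.1 h2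

/-- Degree zero elements as maps out of the dual complex. -/
theorem exists_quotient_equiv_hom_dual (hF : Bdd FProj F) (hF1 : IsZero (F.X 1)) :
    Nonempty ((F.X 0 ⧸ LinearMap.range (F.d (-1) 0).hom) ≃ₗ[P] (DRing.toD (dualCx F) ⟶ Dual.inD P P)) := by
  haveI := (dualCx_bdd hF).isKProjective projClass_fProj
  let B := biDualIso (P := F) hF.2
  have hcyc : ∀ x : F.X 0, δ 0 1 ((B.hom.f 0).hom x : Cochain (dualCx F) (oneCx P) 0) = 0 := fun x => by
    refine (congr($(B.hom.comm 0 1).hom x)).trans ?_
    haveI := ModuleCat.subsingleton_of_isZero hF1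
    show (B.hom.f 1).hom ((F.d 0 1).hom x) = 0
    rw [Subsingleton.elim ((F.d 0 1).hom x) 0, map_zero]
  let z : F.X 0 → Cocycle (dualCx F) (oneCx P) 0 := fun x => Cocycle.mk ((B.hom.f 0).hom x) 1 rfl (hcyc x)
  let T₀ : F.X 0 →ₗ[P] (dualCx F ⟶ oneCx P) :=
    { toFun := fun x => Cocycle.homOf (z x)
      map_add' := fun x y => HomologicalComplex.hom_ext _ _ fun p => by
        show (((B.hom.f 0).hom (x + y) : Cochain (dualCx F) (oneCx P) 0)).v p p _ = _
        rw [map_add]
        exact Cochain.add_v _ _ _ _ _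
      map_smul' := fun r x => HomologicalComplex.hom_ext _ _ fun p => by
        show (((B.hom.f 0).hom (r • x) : Cochain (dualCx F) (oneCx P) 0)).v p p _ = _
        rw [map_smul]
        exact Cochain.smul_v _ _ _ _ _ }
  let T : F.X 0 →ₗ[P] (DRing.toD (dualCx F) ⟶ Dual.inD P P) :=
    (Linear.rightComp P (DRing.toD (dualCx F)) (singleQZeroIso (ModuleCat.of P P)).hom).comp
      ((Functor.mapLinearMap P DerivedCategory.Q).comp T₀)
  have hT : ∀ x, T x = DerivedCategory.Q.map (Cocycle.homOf (z x)) ≫ (singleQZeroIso (ModuleCat.of P P)).hom :=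
    fun _ => rfl
  have hsurj : Function.Surjective T := fun g => by
    obtain ⟨f, hf⟩ := Q_map_surjective (dualCx F) (oneCx P) (g ≫ (singleQZeroIso (ModuleCat.of P P)).inv)
    let x : F.X 0 := (B.inv.f 0).hom (Cochain.ofHom f)
    have hx : ((B.hom.f 0).hom x : Cochain (dualCx F) (oneCx P) 0) = Cochain.ofHom f :=
      (HomologicalComplex.Hom.isoApp B 0).toLinearEquiv.apply_symm_apply _
    refine ⟨x, (hT x).trans ?_⟩
    have hz : Cocycle.homOf (z x) = f := HomologicalComplex.hom_ext _ _ fun p => by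
      show (((B.hom.f 0).hom x : Cochain (dualCx F) (oneCx P) 0)).v p p _ = _
      rw [hx, Cochain.ofHom_v]
    rw [hz, hf, Category.assoc, Iso.inv_hom_id, Category.comp_id]
  have hker : LinearMap.ker T = LinearMap.range (F.d (-1) 0).hom := by
    refine Submodule.ext fun x => ?_
    rw [LinearMap.mem_ker, hT, Preadditive.IsIso.comp_right_eq_zero]
    constructor
    · intro hx
      have h0 : (HomotopyCategory.quotient (ModuleCat.{u} P) (ComplexShape.up ℤ)).map (Cocycle.homOf (z x)) = 0 :=
        (Q_quotient_bijective (D := dualCx F) (Y := oneCx P)).1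
          (hx.trans (Functor.map_zero _ _ _).symm)
      obtain ⟨β, hβ⟩ := Cochain.equivHomotopy _ _
        (HomotopyCategory.homotopyOfEq _ _ (h0.trans (Functor.map_zero _ _ _).symm))
      let y : F.X (-1) := (B.inv.f (-1)).hom β
      have hy : ((B.hom.f (-1)).hom y : Cochain (dualCx F) (oneCx P) (-1)) = β :=
        (HomologicalComplex.Hom.isoApp B (-1)).toLinearEquiv.apply_symm_apply _
      refine ⟨y, (HomologicalComplex.Hom.isoApp B 0).toLinearEquiv.injective ?_⟩
      show (B.hom.f 0).hom ((F.d (-1) 0).hom y) = (B.hom.f 0).hom x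
      refine (congr($(B.hom.comm (-1) 0).hom y)).symm.trans ?_
      show δ (-1) 0 ((B.hom.f (-1)).hom y) = ((B.hom.f 0).hom x : Cochain (dualCx F) (oneCx P) 0)
      rw [hy]
      rw [Cochain.ofHom_zero, add_zero, Cocycle.cochain_ofHom_homOf_eq_coe] at hβ
      exact hβ.symm
    · rintro ⟨y, rfl⟩
      have hd : ((z ((F.d (-1) 0).hom y) : Cochain (dualCx F) (oneCx P) 0)) =
          δ (-1) 0 ((B.hom.f (-1)).hom y : Cochain (dualCx F) (oneCx P) (-1)) :=
        (congr($(B.hom.comm (-1) 0).hom y)).symm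
      exact (DerivedCategory.Q_map_eq_of_homotopy (C := ModuleCat.{u} P)
        ((Cochain.equivHomotopy _ 0).symm ⟨(B.hom.f (-1)).hom y, by
          rw [Cochain.ofHom_zero, add_zero, Cocycle.cochain_ofHom_homOf_eq_coe, hd]⟩)).trans (Functor.map_zero _ _ _)
  exact ⟨(Submodule.quotEquivOfEq _ _ hker.symm).trans (T.quotKerEquivOfSurjective hsurj)⟩

/-- Endomorphisms of the coinduced complex of the unit. -/
theorem end_coind {A : Type u} [CommRing A] [Algebra P A] (hA : Function.Surjective (algebraMap P A))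
    {W : Dual.D A} (hW : IsCoind (algebraMap P A) (Dual.inD P P) W) (hF : Bdd FProj F)
    (hF1 : ∀ i, 0 < i → IsZero (F.X i))
    (eF : DRing.toD F ≅ (DRing.restrictD (algebraMap P A)).obj (Dual.inD A A))
    (eW : (DRing.restrictD (algebraMap P A)).obj W ≅ DRing.toD (dualCx F)) :
    Function.Bijective (fun a : A => a • 𝟙 W) ∧ ∀ i : ℤ, i ≠ 0 → Subsingleton (W ⟶ W⟦i⟧) := by
  have hex : ∀ i : ℤ, i ≠ 0 → F.ExactAt i := fun i hi => by
    obtain ⟨r⟩ := nonempty_restrictD_inD (algebraMap P A) (ModuleCat.of A A)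
    exact exactAt_of_toD_iso (N := sng 0 (resMod (P := P) A)) (N' := F) (singleQZeroIso _ ≪≫ r.symm ≪≫ eF.symm) i
      (HomologicalComplex.ExactAt.of_isZero (isZero_sng 0 _ hi))
  refine ⟨?_, fun i hi => ?_⟩
  · obtain ⟨q⟩ := exists_quotient_equiv_hom_dual hF (hF1 1 one_pos)
    obtain ⟨r⟩ := nonempty_restrictD_inD (algebraMap P A) (ModuleCat.of A A)
    obtain ⟨π, hπQ⟩ := by
      haveI := hF.isKProjective projClass_fProj
      exact Q_map_surjective F (sng 0 (resMod (P := P) A))
        (eF ≪≫ r ≪≫ (singleQZeroIso (resMod (P := P) A)).symm).hom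
    haveI : IsIso (DerivedCategory.Q.map π) := hπQ ▸ inferInstance
    have hπ : QuasiIso π := (DerivedCategory.isIso_Q_map_iff_quasiIso (φ := π)).1 inferInstance
    obtain ⟨eA⟩ : Nonempty (A ≃ₗ[P] (F.X 0 ⧸ LinearMap.range (F.d (-1) 0).hom)) := by
      obtain ⟨eOp⟩ := opcycles_equiv F 0
      haveI : IsIso (F.homologyι 0) :=
        F.isIso_homologyι 0 1 (by simp) ((hF1 1 one_pos).eq_of_tgt _ _)
      let e₁ : (F.homology 0) ≅ resMod (P := P) A :=
        (asIso (HomologicalComplex.homologyMap π 0)) ≪≫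
          HomologicalComplex.singleObjHomologySelfIso (ComplexShape.up ℤ) 0 (resMod (P := P) A)
      have h01 : (0 : ℤ) - 1 = -1 := by norm_num
      revert eOp
      rw [h01]
      intro eOp
      exact ⟨((resModEquiv (P := P) A).symm.trans (e₁.symm ≪≫ asIso (F.homologyι 0)).toLinearEquiv).trans
        eOp.symm⟩
    let Res := DRing.restrictD (algebraMap P A)
    let Ψ : A ≃ₗ[P] (Res.obj W ⟶ Dual.inD P P) :=
      eA.trans (q.trans (Linear.homCongr P eW.symm (Iso.refl (Dual.inD P P))))
    obtain ⟨ε, hε⟩ := hW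
    obtain ⟨g, hg⟩ := (hε W).2 (Ψ 1)
    refine DualCxLib.bijective_smul_id g ?_
    have hcomp : ∀ a : A, Res.map (a • g) ≫ ε = Ψ a := fun a => by
      obtain ⟨p, rfl⟩ := hA a
      rw [DualCxLib.restrictD_map_smul, Linear.smul_comp, show Res.map g ≫ ε = Ψ 1 from hg, ← map_smul,
        Algebra.smul_def, mul_one]
    have h3 : Function.Bijective ((fun v : W ⟶ W => Res.map v ≫ ε) ∘ fun a : A => a • g) := by
      convert Ψ.bijective using 1
      funext a
      exact hcomp a
    exact ((hε W).of_comp_iff' _).1 h3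
  · obtain ⟨η, hη⟩ := hW.shift i
    haveI := subsingleton_hom_dual_of_exact hF i (hex i hi)
    haveI : Subsingleton ((DRing.restrictD (algebraMap P A)).obj W ⟶ (Dual.inD P P)⟦i⟧) :=
      eW.homFromEquiv.subsingleton_congr.2 inferInstance
    exact (hη W).1.subsingleton

end Groth.Agent.ShriekAlgLib
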