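import Groth.Agent.ShriekAlgLib.IsCoind
import Groth.Agent.ShriekAlgLib.Dualizing
import Groth.Agent.DualCxLib.Depth
import Groth.Agent.DualCxLib.Local
import Groth.Agent.DualCxLib.LocDual
import Groth.Agent.RegLocLib.AffineDim

/-!
# The upper shriek of a normalized dualizing complex
-/

set_option autoImplicit false
set_option backward.isDefEq.respectTransparency false
set_option linter.style.haveILetI false

universe u

open CategoryTheory Limits
attribute [local instance] HasDerivedCategory.standard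

noncomputable section

namespace Groth.Agent.ShriekAlgLib

open DRingLib DCohLib DTenLib DualCxLib

theorem dfn_eq_height {P : Type u} [CommRing P] [IsNoetherianRing P] {L : Dual.D P} (hL : Dual.IsDualizing P L)
    {B : Type u} [CommRing B] (π : P →+* B) (hπ : Function.Surjective π) (p₀ q : PrimeSpectrum P)
    (hp₀ : RingHom.ker π = p₀.asIdeal) (hq : p₀ ≤ q) (n : ℕ) [(q.asIdeal.map π).IsPrime]
    (hn : (q.asIdeal.map π).height = n) : dfn hL q = dfn hL p₀ + n := by
  let q' : PrimeSpectrum B := ⟨q.asIdeal.map π, inferInstance⟩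
  have hh : Order.height q' = n := by rw [← PrimeSpectrum.height_eq_orderHeight]; exact hn
  have hq' : PrimeSpectrum.comap π q' = q := PrimeSpectrum.ext (by
    show (q.asIdeal.map π).comap π = q.asIdeal
    rw [Ideal.comap_map_of_surjective' π hπ, sup_eq_left, hp₀]
    exact hq)
  have hge : (n : ℤ) ≤ dfn hL q - dfn hL p₀ := by
    obtain ⟨l, hl, hlen⟩ := Order.exists_series_of_height_eq_coe q' hh
    let l' := l.map (PrimeSpectrum.comap π) (fun a b h => by
      refine lt_of_le_of_ne (Ideal.comap_mono h.le) fun he => h.ne ?_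
      exact PrimeSpectrum.comap_injective_of_surjective π hπ he)
    have h1 := dfn_ltSeries hL l'
    have h2 : dfn hL p₀ ≤ dfn hL l'.head := dfn_le hL (by
      show p₀.asIdeal ≤ _
      rw [LTSeries.head_map, ← hp₀]
      exact Ideal.ker_le_comap π)
    have h3 : l'.last = q := by rw [LTSeries.last_map, hl, hq']
    rw [h3] at h1
    have h4 : l'.length = n := by rw [LTSeries.map_length, hlen]
    omega
  have hle : (dfn hL q - dfn hL p₀).toNat ≤ n := by
    have h1 := le_height_Ici hL p₀ q hq
    let F : Set.Ici p₀ → PrimeSpectrum B := fun Q => ⟨Q.1.asIdeal.map π,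
      Ideal.map_isPrime_of_surjective hπ (hp₀.trans_le Q.2)⟩
    have hF : StrictMono F := fun a b hab => by
      refine lt_of_le_of_ne (Ideal.map_mono hab.le) fun he => hab.ne (Subtype.ext (PrimeSpectrum.ext ?_))
      have h2 : (a.1.asIdeal.map π).comap π = (b.1.asIdeal.map π).comap π :=
        congrArg (fun Q : PrimeSpectrum B => Q.asIdeal.comap π) he
      rwa [Ideal.comap_map_of_surjective' π hπ, Ideal.comap_map_of_surjective' π hπ,
        sup_eq_left.2 (hp₀.trans_le a.2), sup_eq_left.2 (hp₀.trans_le b.2)] at h2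
    have h3 := h1.trans (Order.height_le_height_apply_of_strictMono F hF ⟨q, hq⟩)
    change _ ≤ Order.height q' at h3
    rw [hh] at h3
    exact_mod_cast h3
  have := dfn_le hL hq
  omega

theorem subsingleton_HK_maximal {P : Type u} [CommRing P] [IsNoetherianRing P] {L : Dual.D P}
    (hL : Dual.IsDualizing P L) (q : PrimeSpectrum P) [hq : q.asIdeal.IsMaximal] (j : ℤ) (hj : j ≠ dfn hL q) :
    Subsingleton (HK L j (P ⧸ q.asIdeal)) := by
  refine subsingleton_of_forall_eq 0 fun y => ?_
  obtain ⟨s, hs, hsy⟩ := zeroAt_of_ne_dfn hL hj y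
  obtain ⟨t, i, hi, hit⟩ := hq.exists_inv hs
  have h0 : i • y = 0 := smul_eq_zero_of_smul L j (fun x => by
    obtain ⟨x, rfl⟩ := Ideal.Quotient.mk_surjective x
    exact Ideal.Quotient.eq_zero_iff_mem.2 (q.asIdeal.mul_mem_right x hi)) y
  rw [← one_smul P y, ← hit, add_smul, mul_smul, hsy, smul_zero, zero_add, h0]

theorem dfn_map_closedPoint (R : Type u) [CommRing R] [IsNoetherianRing R] [IsLocalRing R] {ω : Dual.D R}
    (hω : Dual.IsDualizing R ω) (hn : Dual.IsNormalized R ω) (P : Type u) [CommRing P] [IsNoetherianRing P]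
    [Algebra R P] [Module.Flat R P] [DRing.HasLBaseChange (algebraMap R P)] (hL : Dual.IsDualizing P ((bcD R P).obj ω))
    (p₀ : PrimeSpectrum P) (hp₀ : p₀.asIdeal = (IsLocalRing.maximalIdeal R).map (algebraMap R P)) :
    dfn hL p₀ = 0 := by
  obtain ⟨-, ⟨e⟩⟩ := HK_bcD_quotient hω P (IsLocalRing.closedPoint R) (fun s hs =>
    ((IsLocalRing.notMem_maximalIdeal).1 hs).map _)
  rw [dfn_closedPoint hω hn] at e
  refine (eq_dfn hL p₀ 0 fun hz => ?_).symm
  let e' : HK ((bcD R P).obj ω) 0 (P ⧸ p₀.asIdeal) ≃ₗ[P] P ⧸ p₀.asIdeal :=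
    (preEquiv _ 0 (Submodule.quotEquivOfEq _ _ hp₀.symm)).trans (e.trans (Submodule.quotEquivOfEq _ _ hp₀.symm))
  obtain ⟨s, hs, hs'⟩ := hz (e'.symm 1)
  rw [← map_smul, LinearEquiv.map_eq_zero_iff] at hs'
  refine hs (Ideal.Quotient.eq_zero_iff_mem.1 ?_)
  rw [← hs']
  exact ((Algebra.smul_def s (1 : P ⧸ p₀.asIdeal)).trans (mul_one _)).symm

theorem isNormalized_shriekVia_localization (R A : Type u) [CommRing R] [CommRing A] [IsNoetherianRing R]
    [IsNoetherianRing A] [Algebra R A] (n : ℕ) (ψ : MvPolynomial (Fin n) R →ₐ[R] A) (hψ : Function.Surjective ψ)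
    [DRing.HasLBaseChange (algebraMap R (MvPolynomial (Fin n) R))]
    (Rψ : Dual.D (MvPolynomial (Fin n) R) ⥤ Dual.D A) (adj : DRing.restrictD ψ.toRingHom ⊣ Rψ) [IsLocalRing R]
    (m : Ideal A) [m.IsMaximal] (hm : m.comap (algebraMap R A) = IsLocalRing.maximalIdeal R) (ω : Dual.D R)
    (hω : Dual.IsDualizing R ω) (hn : Dual.IsNormalized R ω)
    [DRing.HasLBaseChange (algebraMap A (Localization.AtPrime m))] :
    Dual.IsDualizing (Localization.AtPrime m)
        ((DRing.LBaseChange (algebraMap A (Localization.AtPrime m))).obj (Dual2.shriekVia n Rψ ω)) ∧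
      Dual.IsNormalized (Localization.AtPrime m)
        ((DRing.LBaseChange (algebraMap A (Localization.AtPrime m))).obj (Dual2.shriekVia n Rψ ω)) := by
  let Am := Localization.AtPrime m
  have hS := isDualizing_shriekVia R A n ψ hψ Rψ adj ω hω
  haveI : IsNoetherianRing Am := IsLocalization.isNoetherianRing m.primeCompl Am ‹_›
  haveI : Module.Flat A Am := IsLocalization.flat Am m.primeCompl
  refine ⟨isDualizing_lbc m.primeCompl Am hS, fun i hi => ?_⟩
  let P := MvPolynomial (Fin n) R
  let k := IsLocalRing.ResidueField R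
  let π : P →+* MvPolynomial (Fin n) k := MvPolynomial.map (IsLocalRing.residue R)
  have hπ : Function.Surjective π := MvPolynomial.map_surjective _ IsLocalRing.residue_surjective
  have hker : RingHom.ker π = (IsLocalRing.maximalIdeal R).map (algebraMap R P) := by
    rw [MvPolynomial.ker_map, IsLocalRing.ker_residue]
    rfl
  let p₀ : PrimeSpectrum P := ⟨RingHom.ker π, RingHom.ker_isPrime π⟩
  haveI : (m.comap ψ.toRingHom).IsMaximal := Ideal.comap_isMaximal_of_surjective ψ.toRingHom hψ
  let q : PrimeSpectrum P := ⟨m.comap ψ.toRingHom, inferInstance⟩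
  haveI : q.asIdeal.IsMaximal := ‹(m.comap ψ.toRingHom).IsMaximal›
  have hle : p₀ ≤ q := by
    show RingHom.ker π ≤ m.comap ψ.toRingHom
    rw [hker, Ideal.map_le_iff_le_comap]
    intro r hr
    rw [← hm] at hr
    show ψ (algebraMap R P r) ∈ m
    rw [ψ.commutes]
    exact hr
  haveI hqmax : (q.asIdeal.map π).IsMaximal :=
    (Ideal.map_eq_top_or_isMaximal_of_surjective π hπ ‹_›).resolve_left fun h => by
      have h2 := congrArg (Ideal.comap π) h
      rw [Ideal.comap_map_of_surjective' π hπ, Ideal.comap_top, sup_eq_left.2 hle] at h2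
      exact q.isPrime.ne_top h2
  let L := (DRing.LBaseChange (algebraMap R P)).obj ω
  have hL : Dual.IsDualizing P L := isDualizing_lbc_mvPolynomial R n hω
  have hq : dfn hL q = n := by
    rw [dfn_eq_height hL π hπ p₀ q rfl hle n
      (RegLocLib.height_eq_of_isMaximal_mvPolynomial k n _ hqmax),
      dfn_map_closedPoint R hω hn P hL p₀ hker, zero_add]
  have key : ∀ j : ℤ, j ≠ 0 → Subsingleton (HK (Dual2.shriekVia n Rψ ω) j (A ⧸ m)) := fun j hj => by
    obtain ⟨ε, hε⟩ := ((isCoind_of_adj adj L).shift (n : ℤ)).shift j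
    let M : ModuleCat.{u} P := (ModuleCat.restrictScalars.{u} ψ.toRingHom).obj (ModuleCat.of A (A ⧸ m))
    let g : P →ₗ[P] M :=
      { toFun := fun p => Ideal.Quotient.mk m (ψ p)
        map_add' := fun p p' => by rw [map_add, map_add]
        map_smul' := fun r p => by rw [smul_eq_mul, map_mul, map_mul]; rfl }
    have hg : LinearMap.ker g = q.asIdeal := Submodule.ext fun x => Ideal.Quotient.eq_zero_iff_mem
    let e : (P ⧸ q.asIdeal) ≃ₗ[P] M := (Submodule.quotEquivOfEq _ _ hg.symm).trans
      (g.quotKerEquivOfSurjective fun x => by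
        obtain ⟨a, rfl⟩ := Ideal.Quotient.mk_surjective (I := m) x
        obtain ⟨p, rfl⟩ := hψ a
        exact ⟨p, rfl⟩)
    let E : (DRing.restrictD ψ.toRingHom).obj (Dual.inD A (A ⧸ m)) ≅ Dual.inD P (P ⧸ q.asIdeal) :=
      ((ModuleCat.restrictScalars.{u} ψ.toRingHom).mapDerivedCategorySingleFunctor 0).app (ModuleCat.of A (A ⧸ m)) ≪≫
        (DerivedCategory.singleFunctor (ModuleCat.{u} P) 0).mapIso e.symm.toModuleIso
    have hsub : Subsingleton (HK L ((n : ℤ) + j) (P ⧸ q.asIdeal)) :=
      subsingleton_HK_maximal hL q _ (by rw [hq]; omega)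
    exact (((Equiv.ofBijective _ (hε _)).trans
      ((E.homCongr (((shiftFunctorAdd' (Dual.D P) (n : ℤ) j _ rfl).app L).symm)))).subsingleton_congr).2 hsub
  let S0 := model hS
  haveI := S0.isGE
  obtain ⟨e⟩ := nonempty_HK_bcD A Am (Dual2.shriekVia n Rψ ω) S0.a (A ⧸ m) i
  let qe : TensorProduct A Am (A ⧸ m) ≃ₗ[Am] IsLocalRing.ResidueField Am :=
    (quotMapEquiv A Am m).trans (Submodule.quotEquivOfEq _ _ Localization.AtPrime.map_eq_maximalIdeal)
  haveI := key i hi
  haveI : Subsingleton (TensorProduct A Am (HK (Dual2.shriekVia n Rψ ω) i (A ⧸ m))) :=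
    subsingleton_of_forall_eq 0 fun x => by
      induction x using TensorProduct.induction_on with
      | zero => rfl
      | tmul b y => rw [Subsingleton.elim y 0, TensorProduct.tmul_zero]
      | add x y hx hy => rw [hx, hy, add_zero]
  exact (e.trans (preEquiv _ i qe).symm).symm.injective.subsingleton

end Groth.Agent.ShriekAlgLib
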