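import Groth.Agent.ShriekAlgLib.Projection
import Groth.Agent.ShriekAlgLib.Range
import Groth.Agent.DTenLib.Mix

/-!
# The upper shriek as a tensor product with the relative dualizing complex
-/

set_option autoImplicit false
set_option backward.isDefEq.respectTransparency false
set_option linter.style.haveILetI false

universe u

open CategoryTheory CategoryTheory.Limits MonoidalCategory
attribute [local instance] HasDerivedCategory.standard

noncomputable section

namespace Groth.Agent.ShriekAlgLib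

open DRingLib DCohLib

theorem shriekVia_tensor (R A : Type u) [CommRing R] [CommRing A] [IsNoetherianRing R]
    [Algebra R A] [Module.Flat R A] (n : ℕ) (ψ : MvPolynomial (Fin n) R →ₐ[R] A) (hψ : Function.Surjective ψ)
    [DRing.HasLBaseChange (algebraMap R (MvPolynomial (Fin n) R))]
    (Rψ : Dual.D (MvPolynomial (Fin n) R) ⥤ Dual.D A) (adj : DRing.restrictD ψ.toRingHom ⊣ Rψ) (W : DRing.Cx A)
    (hW : Nonempty (DRing.toD W ≅ Dual2.shriekVia n Rψ (Dual.inD R R))) [DRing.HasLBaseChange (algebraMap R A)]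
    [DRing.HasLTensorCx A W] (K : Dual.D R) :
    Nonempty (Dual2.shriekVia n Rψ K ≅ (DRing.LTensorCx A W).obj ((DRing.LBaseChange (algebraMap R A)).obj K)) := by
  let P := MvPolynomial (Fin n) R
  letI : Algebra P A := ψ.toRingHom.toAlgebra
  haveI : IsScalarTower R P A := .of_algebraMap_eq fun r => (ψ.commutes r).symm
  haveI : DRing.HasLBaseChange (algebraMap P A) := DRingLib.hasLBaseChange _
  obtain ⟨eW⟩ := hW
  obtain ⟨F, hFb, hFp, ⟨eF⟩, -⟩ := exists_dual_model R A n ψ hψ Rψ adj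
  have hF : Bdd FProj F := ⟨⟨-(n : ℤ), 0, hFb⟩, hFp⟩
  haveI := hF.isKProjective projClass_fProj
  obtain ⟨r⟩ := nonempty_restrictD_inD (algebraMap P A) (ModuleCat.of A A)
  obtain ⟨π, hπQ⟩ := Q_map_surjective F (sng 0 (resMod (P := P) A))
    (eF ≪≫ r ≪≫ (singleQZeroIso (resMod (P := P) A)).symm).hom
  haveI : IsIso (DerivedCategory.Q.map π) := hπQ ▸ inferInstance
  have hπ : QuasiIso π := (DerivedCategory.isIso_Q_map_iff_quasiIso (φ := π)).1 inferInstance
  obtain ⟨eL⟩ := nonempty_lbc_unit R P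
  let V := Rψ.obj ((DRing.LBaseChange (algebraMap R P)).obj (Dual.inD R R))
  let W₀ := DerivedCategory.Q.objPreimage V
  let e₀ : DRing.toD W₀ ≅ V := DerivedCategory.Q.objObjPreimageIso V
  let G₀ := DTenLib.repr₀ K
  let G := (extC R P).obj G₀
  have hG₀ : DRing.IsKFlat R G₀ := DTenLib.isKFlat_repr₀ K
  have hG : DRing.IsKFlat P G := DTenLib.isKFlat_extCx _ hG₀
  let eG : DRing.toD G ≅ (DRing.LBaseChange (algebraMap R P)).obj K :=
    (lbcIso (algebraMap R P) G₀ hG₀).symm ≪≫ (DRing.LBaseChange (algebraMap R P)).mapIso (DTenLib.reprIso₀ K)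
  let X := (extC P A).obj G
  obtain ⟨e₁⟩ := ((isCoind_tensor π hF hπ hG
    ((isCoind_of_adj adj _).of_iso eL e₀.symm)).of_iso eG (Iso.refl _)).iso_adj adj
  obtain ⟨e₂⟩ := nonempty_lbc_comp' (algebraMap R P) (algebraMap P A) (algebraMap R A)
    (IsScalarTower.algebraMap_eq R P A).symm K
  let eX : DRing.toD X ≅ (DRing.LBaseChange (algebraMap R A)).obj K :=
    (lbcIso (algebraMap P A) G hG).symm ≪≫ (DRing.LBaseChange (algebraMap P A)).mapIso eG ≪≫ e₂
  let eY : DRing.toD (W₀⟦(n : ℤ)⟧) ≅ DRing.toD W :=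
    (DerivedCategory.Q.commShiftIso (n : ℤ)).app W₀ ≪≫ (shiftFunctor (Dual.D A) (n : ℤ)).mapIso e₀ ≪≫ eW.symm
  obtain ⟨e₃⟩ := nonempty_LTensorCx_iso W (DTenLib.isKFlat_extCx _ hG) eX eY
  exact ⟨(shiftFunctor (Dual.D A) (n : ℤ)).mapIso e₁ ≪≫
    ((DerivedCategory.Q.commShiftIso (n : ℤ)).app ((X ⊗ W₀ : DRing.Cx A))).symm ≪≫
    DerivedCategory.Q.mapIso ((shiftFunctor (DRing.Cx A) (n : ℤ)).mapIso (DTen.braidCx X W₀) ≪≫
      (CochainComplex.mapBifunctorShift₁Iso W₀ X (curriedTensor (ModuleCat.{u} A)) (n : ℤ)).symm) ≪≫ e₃⟩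

end Groth.Agent.ShriekAlgLib
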