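import Groth.Agent.ShriekAlgLib.Away
import Groth.Agent.ShriekAlgLib.Poly
import Mathlib.AlgebraicGeometry.OpenImmersion
import Mathlib.AlgebraicGeometry.AffineScheme
import Mathlib.RingTheory.Localization.Away.Basic

/-!
# The upper shriek of an open immersion
-/

set_option autoImplicit false
set_option backward.isDefEq.respectTransparency false
set_option linter.style.haveILetI false

universe u

open CategoryTheory Limits AlgebraicGeometry
attribute [local instance] HasDerivedCategory.standard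

noncomputable section

namespace Groth.Agent.ShriekAlgLib

open DRingLib DCohLib DTenLib DualCxLib

theorem isPushout_away (P S : Type u) [CommRing P] [CommRing S] [Algebra P S] (G : P) [IsLocalization.Away G S] :
    Algebra.IsPushout P S S S := by
  haveI : IsLocalization (Algebra.algebraMapSubmonoid S (Submonoid.powers G)) S := by
    refine IsLocalization.of_le_isUnit ?_
    rintro _ ⟨y, hy, rfl⟩
    exact IsLocalization.map_units S ⟨y, hy⟩
  exact Algebra.isPushout_of_isLocalization (Submonoid.powers G) _ _ _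

variable (R R' : Type u) [CommRing R] [CommRing R'] [Algebra R R']
  [hopen : IsOpenImmersion (Spec.map (CommRingCat.ofHom (algebraMap R R')))]

include hopen in
theorem ext_of_openImmersion {S : Type u} [CommRing S] (j₁ j₂ : R' →+* S)
    (h : j₁.comp (algebraMap R R') = j₂.comp (algebraMap R R')) : j₁ = j₂ := by
  have h' : Spec.map (CommRingCat.ofHom j₁) ≫ Spec.map (CommRingCat.ofHom (algebraMap R R')) =
      Spec.map (CommRingCat.ofHom j₂) ≫ Spec.map (CommRingCat.ofHom (algebraMap R R')) := by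
    rw [← Spec.map_comp, ← Spec.map_comp, ← CommRingCat.ofHom_comp, ← CommRingCat.ofHom_comp, h]
  exact congrArg CommRingCat.Hom.hom (Spec.map_injective ((cancel_mono _).1 h'))

include hopen in
theorem exists_openImm_ideal : ∃ I : Ideal R, I.map (algebraMap R R') = ⊤ ∧
    ∀ (S : Type u) [CommRing S] (g : R →+* S), I.map g = ⊤ → ∃ j : R' →+* S, j.comp (algebraMap R R') = g := by
  let f := Spec.map (CommRingCat.ofHom (algebraMap R R'))
  have ho : IsOpen (Set.range (PrimeSpectrum.comap (algebraMap R R'))) := f.isOpenEmbedding.isOpen_range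
  obtain ⟨I, hI⟩ := (PrimeSpectrum.isClosed_iff_zeroLocus_ideal _).1 ho.isClosed_compl
  refine ⟨I, ?_, fun S _ g hg => ?_⟩
  · by_contra hne
    obtain ⟨q, hq, hIq⟩ := Ideal.exists_le_maximal _ hne
    have h1 : PrimeSpectrum.comap (algebraMap R R') ⟨q, hq.isPrime⟩ ∈
        (Set.range (PrimeSpectrum.comap (algebraMap R R')))ᶜ := by
      rw [hI]
      exact fun x hx => hIq (Ideal.mem_map_of_mem _ hx)
    exact h1 ⟨_, rfl⟩
  · let g' := Spec.map (CommRingCat.ofHom g)
    have hr : Set.range g' ⊆ Set.range f := by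
      rintro _ ⟨q, rfl⟩
      by_contra hn
      have h1 : PrimeSpectrum.comap g q ∈ (Set.range (PrimeSpectrum.comap (algebraMap R R')))ᶜ := hn
      rw [hI] at h1
      refine q.isPrime.ne_top (top_le_iff.1 (hg ▸ ?_))
      exact Ideal.map_le_iff_le_comap.2 fun x hx => h1 hx
    refine ⟨(Spec.preimage (IsOpenImmersion.lift f g' hr)).hom, ?_⟩
    have h2 : Spec.map (CommRingCat.ofHom (algebraMap R R') ≫ Spec.preimage (IsOpenImmersion.lift f g' hr)) = g' := by
      rw [Spec.map_comp, Spec.map_preimage]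
      exact IsOpenImmersion.lift_fac f g' hr
    exact congrArg CommRingCat.Hom.hom (Spec.map_injective h2)

include hopen in
theorem shriekVia_openImmersion (n : ℕ) (ψ : MvPolynomial (Fin n) R →ₐ[R] R') (hψ : Function.Surjective ψ)
    [DRing.HasLBaseChange (algebraMap R (MvPolynomial (Fin n) R))]
    (Rψ : Dual.D (MvPolynomial (Fin n) R) ⥤ Dual.D R') (adj : DRing.restrictD ψ.toRingHom ⊣ Rψ)
    [DRing.HasLBaseChange (algebraMap R R')] (K : Dual.D R) :
    Nonempty (Dual2.shriekVia n Rψ K ≅ (DRing.LBaseChange (algebraMap R R')).obj K) := by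
  obtain ⟨I, hIR', hI⟩ := exists_openImm_ideal R R'
  let P := MvPolynomial (Fin n) R
  let Q := MvPolynomial (Fin n) R'
  let μ : P →+* Q := MvPolynomial.map (algebraMap R R')
  let c : Fin n → R' := fun i => ψ (MvPolynomial.X i)
  have hψμ : (MvPolynomial.eval c).comp μ = ψ.toRingHom := by
    refine MvPolynomial.ringHom_ext (fun r => ?_) fun i => ?_
    · show MvPolynomial.eval c (MvPolynomial.map _ (MvPolynomial.C r)) = ψ (MvPolynomial.C r)
      rw [MvPolynomial.map_C, MvPolynomial.eval_C]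
      exact (ψ.commutes r).symm
    · show MvPolynomial.eval c (MvPolynomial.map _ (MvPolynomial.X i)) = ψ (MvPolynomial.X i)
      rw [MvPolynomial.map_X, MvPolynomial.eval_X]
  obtain ⟨G, hGI, hG⟩ : ∃ G ∈ I.map (algebraMap R P), ψ G = 1 := by
    refine (Ideal.mem_map_iff_of_surjective ψ.toRingHom hψ).1 ?_
    rw [Ideal.map_map, ψ.toRingHom_eq_coe, ψ.comp_algebraMap, hIR']
    trivial
  let GQ := μ G
  let PG := Localization.Away G
  let QG := Localization.Away GQ
  let ιP : R →+* PG := (algebraMap P PG).comp (algebraMap R P)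
  obtain ⟨j, hj⟩ := hI PG ιP (by
    rw [← Ideal.map_map]
    exact Ideal.eq_top_of_isUnit_mem _ (Ideal.mem_map_of_mem _ hGI) (IsLocalization.Away.algebraMap_isUnit G))
  let σ : PG →+* QG := IsLocalization.Away.map PG QG μ G
  let τ₀ : Q →+* PG := MvPolynomial.eval₂Hom j fun i => algebraMap P PG (MvPolynomial.X i)
  have hτμ : τ₀.comp μ = algebraMap P PG := by
    refine MvPolynomial.ringHom_ext (fun r => ?_) fun i => ?_
    · show MvPolynomial.eval₂Hom j _ (MvPolynomial.map _ (MvPolynomial.C r)) = algebraMap P PG (MvPolynomial.C r)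
      rw [MvPolynomial.map_C, MvPolynomial.eval₂Hom_C]
      exact RingHom.congr_fun hj r
    · show MvPolynomial.eval₂Hom j _ (MvPolynomial.map _ (MvPolynomial.X i)) = _
      rw [MvPolynomial.map_X, MvPolynomial.eval₂Hom_X']
  have hτG : IsUnit (τ₀ GQ) := by
    show IsUnit ((τ₀.comp μ) G)
    rw [hτμ]
    exact IsLocalization.Away.algebraMap_isUnit G
  let τ : QG →+* PG := IsLocalization.Away.lift GQ hτG
  have hσ : σ.comp (algebraMap P PG) = (algebraMap Q QG).comp μ := IsLocalization.map_comp _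
  have hτ : τ.comp (algebraMap Q QG) = τ₀ := IsLocalization.Away.lift_comp GQ hτG
  have hτσ : τ.comp σ = RingHom.id PG := IsLocalization.ringHom_ext (Submonoid.powers G) (by
    rw [RingHom.comp_assoc, hσ, ← RingHom.comp_assoc, hτ, hτμ, RingHom.id_comp])
  have hστ : σ.comp τ = RingHom.id QG := IsLocalization.ringHom_ext (Submonoid.powers GQ) (by
    rw [RingHom.comp_assoc, hτ, RingHom.id_comp]
    refine MvPolynomial.ringHom_ext (fun r => ?_) fun i => ?_
    · refine RingHom.congr_fun (ext_of_openImmersion R R' ((σ.comp τ₀).comp MvPolynomial.C)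
        ((algebraMap Q QG).comp MvPolynomial.C) (RingHom.ext fun s => ?_)) r
      show σ (MvPolynomial.eval₂Hom j _ (MvPolynomial.C (algebraMap R R' s))) =
        algebraMap Q QG (MvPolynomial.C (algebraMap R R' s))
      rw [MvPolynomial.eval₂Hom_C, show j (algebraMap R R' s) = ιP s from RingHom.congr_fun hj s]
      refine (RingHom.congr_fun hσ (MvPolynomial.C s)).trans ?_
      show algebraMap Q QG (MvPolynomial.map (algebraMap R R') (MvPolynomial.C s)) = _
      rw [MvPolynomial.map_C]
    · show σ (MvPolynomial.eval₂Hom j _ (MvPolynomial.X i)) = algebraMap Q QG (MvPolynomial.X i)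
      rw [MvPolynomial.eval₂Hom_X']
      refine (RingHom.congr_fun hσ (MvPolynomial.X i)).trans ?_
      show algebraMap Q QG (MvPolynomial.map (algebraMap R R') (MvPolynomial.X i)) = _
      rw [MvPolynomial.map_X])
  have hGc : MvPolynomial.eval c GQ = 1 := (RingHom.congr_fun hψμ G).trans hG
  let χQ : QG →+* R' := IsLocalization.Away.lift GQ (g := MvPolynomial.eval c) (by rw [hGc]; exact isUnit_one)
  have hχQ : χQ.comp (algebraMap Q QG) = MvPolynomial.eval c := IsLocalization.Away.lift_comp GQ _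
  haveI : DRing.HasLBaseChange (MvPolynomial.C : R' →+* Q) := DRingLib.hasLBaseChange _
  haveI : DRing.HasLBaseChange (algebraMap Q QG) := DRingLib.hasLBaseChange _
  haveI : DRing.HasLBaseChange (algebraMap P PG) := DRingLib.hasLBaseChange _
  haveI : DRing.HasLBaseChange τ := DRingLib.hasLBaseChange _
  haveI : Algebra.IsPushout P PG PG PG := isPushout_away P PG G
  haveI : Algebra.IsPushout Q QG QG QG := isPushout_away Q QG GQ
  haveI : Module.Flat P PG := IsLocalization.flat PG (Submonoid.powers G)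
  haveI : Module.Flat Q QG := IsLocalization.flat QG (Submonoid.powers GQ)
  let K' := (DRing.LBaseChange (algebraMap R R')).obj K
  let T := K'⟦(-n : ℤ)⟧
  let X := (bcD Q QG).obj ((DRing.LBaseChange (MvPolynomial.C : R' →+* Q)).obj K')
  obtain ⟨M, hM⟩ := exists_isCoind χQ X
  obtain ⟨eM⟩ := (isCoind_away Q QG GQ χQ (MvPolynomial.eval c) hχQ.symm hGc hM).unique (isCoind_aeval n c K')
  have hT : IsCoind χQ X T := hM.of_iso (Iso.refl _) eM
  let ιQ' : R →+* Q := (MvPolynomial.C : R' →+* Q).comp (algebraMap R R')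
  let ιQ : R →+* QG := (algebraMap Q QG).comp ιQ'
  haveI : DRing.HasLBaseChange ιP := DRingLib.hasLBaseChange _
  haveI : DRing.HasLBaseChange ιQ := DRingLib.hasLBaseChange _
  haveI : DRing.HasLBaseChange ιQ' := DRingLib.hasLBaseChange _
  obtain ⟨e₁⟩ := nonempty_lbc_comp' (algebraMap R R') (MvPolynomial.C : R' →+* Q) ιQ' rfl K
  obtain ⟨e₂⟩ := nonempty_lbc_comp' ιQ' (algebraMap Q QG) ιQ rfl K
  have hιτ : τ.comp ιQ = ιP := by
    show τ.comp ((algebraMap Q QG).comp ιQ') = ιP
    rw [← RingHom.comp_assoc, hτ]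
    refine RingHom.ext fun r => ?_
    show MvPolynomial.eval₂Hom j _ (MvPolynomial.C (algebraMap R R' r)) = ιP r
    rw [MvPolynomial.eval₂Hom_C]
    exact RingHom.congr_fun hj r
  obtain ⟨e₃⟩ := nonempty_lbc_comp' ιQ τ ιP hιτ K
  obtain ⟨e₄⟩ := nonempty_lbc_comp' (algebraMap R P) (algebraMap P PG) ιP rfl K
  let eX : (DRing.LBaseChange τ).obj X ≅ (bcD P PG).obj ((DRing.LBaseChange (algebraMap R P)).obj K) :=
    (DRing.LBaseChange τ).mapIso ((bcD Q QG).mapIso e₁ ≪≫ e₂) ≪≫ e₃ ≪≫ e₄.symm
  have h3 := ((isCoind_lbc_of_bijective (f := σ) τ hστ hτσ X).of_iso eX (Iso.refl _)).comp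
    (h := χQ.comp σ) rfl hT
  have hψ' : ψ.toRingHom = (χQ.comp σ).comp (algebraMap P PG) := by
    rw [RingHom.comp_assoc, hσ, ← RingHom.comp_assoc, hχQ, hψμ]
  obtain ⟨e⟩ := (isCoind_away P PG G (χQ.comp σ) ψ.toRingHom hψ' hG h3).iso_adj adj
  exact ⟨(shiftFunctor (Dual.D R') (n : ℤ)).mapIso e ≪≫ shiftAddIso K' (-n : ℤ) n 0 (by ring) ≪≫
    (shiftFunctorZero (Dual.D R') ℤ).app K'⟩

end Groth.Agent.ShriekAlgLib
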