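import Groth.Agent.ShriekAlgLib.DualExt
import Groth.Agent.ShriekAlgLib.Dualizing
import Groth.Agent.ShriekAlgLib.Poly
import Groth.Agent.DRingLib.HomCxInj
import Groth.Agent.DTenLib.Mix

/-!
# The upper shriek through duality
-/

set_option autoImplicit false
set_option backward.isDefEq.respectTransparency false
set_option linter.style.haveILetI false
set_option maxRecDepth 4000

universe u

open CategoryTheory CategoryTheory.Limits CochainComplex.HomComplex
attribute [local instance] HasDerivedCategory.standard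

noncomputable section

namespace Groth.Agent.ShriekAlgLib

open DRingLib DCohLib DualCxLib

theorem shriekVia_iso_dual (A B : Type u) [CommRing A] [CommRing B] [IsNoetherianRing A] [IsNoetherianRing B]
    [Algebra A B] (n : ℕ) (ψ : MvPolynomial (Fin n) A →ₐ[A] B) (hψ : Function.Surjective ψ)
    [DRing.HasLBaseChange (algebraMap A (MvPolynomial (Fin n) A))]
    (Rψ : Dual.D (MvPolynomial (Fin n) A) ⥤ Dual.D B) (adj : DRing.restrictD ψ.toRingHom ⊣ Rψ)
    [DRing.HasLBaseChange (algebraMap A B)] (ω : Dual.D A) (hω : Dual.IsDualizing A ω) (K : DRing.Cx A)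
    [DRing.HasRHomCx K] (hK : ∀ i : ℤ, Module.Finite A (Dual.HD A (DRing.toD K) i)) (E : DRing.Cx B)
    [DRing.HasRHomCx E]
    (hE : Nonempty (DRing.toD E ≅ (DRing.LBaseChange (algebraMap A B)).obj ((DRing.RHomCx K).obj ω))) :
    Nonempty (Dual2.shriekVia n Rψ (DRing.toD K) ≅ (DRing.RHomCx E).obj (Dual2.shriekVia n Rψ ω)) := by
  let P := MvPolynomial (Fin n) A
  letI : Algebra P B := ψ.toRingHom.toAlgebra
  haveI : IsScalarTower A P B := .of_algebraMap_eq fun r => (ψ.commutes r).symm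
  haveI : DRing.HasLBaseChange (algebraMap P B) := DRingLib.hasLBaseChange _
  obtain ⟨eE⟩ := hE
  let SA := DualCxLib.model hω
  haveI := SA.isKInjective
  have hK' := finite_homology_of_HD hK
  obtain ⟨eK⟩ := nonempty_RHomCx_model SA K
  let M := dualK SA K
  let F := DTenLib.repr₀ (DRing.toD M)
  have hF : DRing.IsKFlat A F := DTenLib.isKFlat_repr₀ _
  let eF : DRing.toD F ≅ DRing.toD M := DTenLib.reprIso₀ _
  have hFfin : ∀ i, Module.Finite A (F.homology i) := finite_homology_of_HD fun i => by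
    haveI := finite_dual SA hω K hK' i
    exact Module.Finite.equiv (((DerivedCategory.homologyFunctor (ModuleCat.{u} A) i).mapIso eF).toLinearEquiv.trans
      (hdToDEquiv M i)).symm
  haveI := isIso_Q_of_qis _ (refl_of_finite SA hω K hK')
  obtain ⟨c⟩ := nonempty_dualK_congr SA eF
  let eKF : DRing.toD K ≅ DRing.toD (dualK SA F) := asIso (DerivedCategory.Q.map (evK SA.E K)) ≪≫ c.symm
  -- over the polynomial ring
  let SP := DualCxLib.model (isDualizing_lbc_mvPolynomial A n hω)
  haveI := SP.isKInjective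
  let q := (DualCxLib.bcQIso A P).app SA.E
  obtain ⟨sq, hsq⟩ := (CochainComplex.IsKInjective.Qh_map_bijective
    ((HomotopyCategory.quotient (ModuleCat.{u} P) (ComplexShape.up ℤ)).obj ((extC A P).obj SA.E)) SP.E).2
    (q.inv ≫ (DRing.LBaseChange (algebraMap A P)).map SA.iso.hom ≫ SP.iso.inv)
  obtain ⟨s, rfl⟩ := (HomotopyCategory.quotient _ _).map_surjective sq
  haveI : IsIso (DerivedCategory.Q.map s) := by
    rw [show DerivedCategory.Q.map s = q.inv ≫ (DRing.LBaseChange (algebraMap A P)).map SA.iso.hom ≫ SP.iso.inv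
      from hsq]
    infer_instance
  have hs : QuasiIso s := (DerivedCategory.isIso_Q_map_iff_quasiIso (φ := s)).1 inferInstance
  let FP := (extC A P).obj F
  have hFP : DRing.IsKFlat P FP := DTenLib.isKFlat_extCx _ hF
  haveI := isIso_Q_of_qis _ (quasiIso_θCx s SA.vanishes SA.inj SP.vanishes SP.inj hs F hFfin)
  let T := DRing.homCx FP SP.E
  haveI := isKInjective_homCx FP SP.E hFP
  let eT : DRing.toD T ≅ (DRing.LBaseChange (algebraMap A P)).obj (DRing.toD K) :=
    (asIso (DerivedCategory.Q.map (θCx s F))).symm ≪≫ ((DualCxLib.bcQIso A P).app (dualK SA F)).symm ≪≫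
      (DRing.LBaseChange (algebraMap A P)).mapIso eKF.symm
  obtain ⟨eR⟩ := (isCoind_coCx_of_kInjective (algebraMap P B) T eT).iso_adj adj
  -- over the algebra
  let JB := (coCx (algebraMap P B)).obj SP.E
  haveI := isKInjective_coCx (algebraMap P B) SP.E
  obtain ⟨eRω⟩ := (isCoind_coCx_of_kInjective (algebraMap P B) SP.E SP.iso).iso_adj adj
  let FB := (extC P B).obj FP
  obtain ⟨e₂⟩ := nonempty_lbc_comp' (algebraMap A P) (algebraMap P B) (algebraMap A B)
    (IsScalarTower.algebraMap_eq A P B).symm (DRing.toD F)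
  let eX : DRing.toD E ≅ DRing.toD FB :=
    eE ≪≫ (DRing.LBaseChange (algebraMap A B)).mapIso (eK ≪≫ eF.symm) ≪≫ e₂.symm ≪≫
      (DRing.LBaseChange (algebraMap P B)).mapIso (lbcIso (algebraMap A P) F hF) ≪≫
        lbcIso (algebraMap P B) FP hFP
  let eJ : DRing.toD (JB⟦(n : ℤ)⟧) ≅ Dual2.shriekVia n Rψ ω :=
    (DerivedCategory.Q.commShiftIso (n : ℤ)).app JB ≪≫ (shiftFunctor (Dual.D B) (n : ℤ)).mapIso eRω.symm
  obtain ⟨e₃⟩ := nonempty_RHomCx_congr eX (JB⟦(n : ℤ)⟧) eJ
  exact ⟨(shiftFunctor (Dual.D B) (n : ℤ)).mapIso (eR ≪≫ DerivedCategory.Q.mapIso (homCoIso FP SP.E)) ≪≫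
    ((DerivedCategory.Q.commShiftIso (n : ℤ)).app (DRing.homCx FB JB)).symm ≪≫
      DerivedCategory.Q.mapIso (homCxShiftIso FB JB (n : ℤ)).symm ≪≫ e₃.symm⟩

end Groth.Agent.ShriekAlgLib
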