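import Groth.Agent.ShriekAlgLib.Finite
import Mathlib.RingTheory.Localization.BaseChange

/-!
# Coextension only sees a neighbourhood of the closed set
-/

set_option autoImplicit false
set_option backward.isDefEq.respectTransparency false
set_option linter.style.haveILetI false

universe u

open CategoryTheory Limits Pretriangulated
open scoped TensorProduct
attribute [local instance] HasDerivedCategory.standard

noncomputable section

namespace Groth.Agent.ShriekAlgLib

open DRingLib DCohLib DTenLib DualCxLib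

variable (P S : Type u) [CommRing P] [CommRing S] [Algebra P S] [Module.Flat P S] [Algebra.IsPushout P S S S]
  [DRing.HasLBaseChange (algebraMap P S)]

theorem isIso_lbcCounit : IsIso (DRingLib.lbcAdj (algebraMap P S)).counit := by
  haveI : DRing.HasLBaseChange (algebraMap S S) := DRingLib.hasLBaseChange _
  let j : DRing.restrictD (algebraMap P S) ⋙ bcD P S ≅ 𝟭 (Dual.D S) :=
    resBCIso P S S S ≪≫ Functor.isoWhiskerRight
      (((DRingLib.lbcAdj (algebraMap S S)).leftAdjointUniq
        (Adjunction.id.ofNatIsoRight (resDId (algebraMap S S) rfl).symm))) _ ≪≫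
      Functor.leftUnitor _ ≪≫ resDId (algebraMap S S) rfl
  exact (DRingLib.lbcAdj (algebraMap P S)).isIso_counit_of_iso j

theorem bijective_unit_comp (L : Dual.D P) (W : Dual.D S) :
    Function.Bijective fun f : (DRing.restrictD (algebraMap P S)).obj ((bcD P S).obj L) ⟶
      (DRing.restrictD (algebraMap P S)).obj W => (DRingLib.lbcAdj (algebraMap P S)).unit.app L ≫ f := by
  haveI := isIso_lbcCounit P S
  let adj := DRingLib.lbcAdj (algebraMap P S)
  refine (Function.Bijective.of_comp_iff _ (adj.fullyFaithfulROfIsIsoCounit.map_bijective ((bcD P S).obj L) W)).1 ?_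
  convert (adj.homEquiv L W).bijective using 1
  funext g
  exact (adj.homEquiv_unit L W g).symm

omit [Module.Flat P S] [Algebra.IsPushout P S S S] [DRing.HasLBaseChange (algebraMap P S)] in
theorem isIso_smul_of_torsion {C : Dual.D P} (a G : P) (haG : a + G = 1)
    (hC : ∀ (j : ℤ) (x : Dual.HD P C j), ∃ k : ℕ, G ^ k • x = 0) : IsIso (a • 𝟙 C) := by
  rw [DerivedCategory.isIso_iff]
  intro j
  rw [homologyD_map_smul, CategoryTheory.Functor.map_id]
  refine (ConcreteCategory.isIso_iff_bijective _).2 ⟨fun x y h => ?_, fun z => ?_⟩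
  · replace h : a • (x : Dual.HD P C j) = a • y := h
    obtain ⟨k, hk⟩ := hC j (x - y)
    rw [← sub_eq_zero]
    have h0 : a • (x - y : Dual.HD P C j) = 0 := by rw [smul_sub, h, sub_self]
    clear h
    induction k with
    | zero => simpa using hk
    | succ k ih =>
      refine ih ?_
      have h1 : (a + G) • G ^ k • (x - y : Dual.HD P C j) = 0 := by
        rw [add_smul, smul_comm a, h0, smul_zero, zero_add, smul_smul, ← pow_succ', hk]
      rwa [haG, one_smul] at h1
  · obtain ⟨k, hk⟩ := hC j z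
    obtain ⟨c, hc⟩ := sub_dvd_pow_sub_pow (1 : P) G k
    refine ⟨c • z, ?_⟩
    show a • c • (z : Dual.HD P C j) = z
    rw [smul_smul, show a = 1 - G from eq_sub_of_add_eq haG, ← hc, one_pow, sub_smul, one_smul, hk, sub_zero]

omit [Module.Flat P S] [Algebra.IsPushout P S S S] [DRing.HasLBaseChange (algebraMap P S)] in
theorem eq_zero_of_smul {B : Type u} [CommRing B] (ψ : P →+* B) (a : P) (ha : ψ a = 0) (X : Dual.D B)
    {C : Dual.D P} [IsIso (a • 𝟙 C)] (v : (DRing.restrictD ψ).obj X ⟶ C) : v = 0 := by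
  refine (cancel_mono (a • 𝟙 C)).1 ?_
  rw [zero_comp, Linear.comp_smul, Category.comp_id]
  conv_lhs => rw [← Category.id_comp v, ← Linear.smul_comp]
  rw [← restrictD_map_smul_id, ha, zero_smul, Functor.map_zero, zero_comp]

/-- Coextension along a map which sends `G` to `1` only depends on the localization at `G`. -/
theorem isCoind_away (G : P) [IsLocalization.Away G S] {B : Type u} [CommRing B] (χ : S →+* B) (ψ : P →+* B)
    (hψ : ψ = χ.comp (algebraMap P S)) (hG : ψ G = 1) {L : Dual.D P} {M : Dual.D B}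
    (h : IsCoind χ ((bcD P S).obj L) M) : IsCoind ψ L M := by
  obtain ⟨ε', hε'⟩ := h
  let res := DRing.restrictD (algebraMap P S)
  let adj := DRingLib.lbcAdj (algebraMap P S)
  let η : L ⟶ res.obj ((bcD P S).obj L) := adj.unit.app L
  obtain ⟨C, g, δ, hT⟩ := distinguished_cocone_triangle η
  have hC0 : ∀ (W : Dual.D S) (w : C ⟶ res.obj W), w = 0 := fun W w => by
    have h1 : g ≫ w = 0 := (bijective_unit_comp P S L W).1 (by
      show η ≫ g ≫ w = η ≫ 0
      have h0 : η ≫ g = 0 := comp_distTriang_mor_zero₁₂ _ hT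
      rw [reassoc_of% h0, zero_comp, comp_zero])
    obtain ⟨w', hw'⟩ := Triangle.yoneda_exact₃ _ hT w h1
    replace hw' : w = δ ≫ w' := hw'
    let sadj := (shiftEquiv (Dual.D P) (1 : ℤ)).toAdjunction
    let c := (res.commShiftIso (-1 : ℤ)).app W
    obtain ⟨f, hf⟩ := (bijective_unit_comp P S L (W⟦(-1 : ℤ)⟧)).2 (sadj.homEquiv _ _ w' ≫ c.inv)
    replace hf : η ≫ f = sadj.homEquiv _ _ w' ≫ c.inv := hf
    have h2 : sadj.homEquiv _ _ w' = η ≫ f ≫ c.hom := by
      refine (cancel_mono c.inv).1 (hf.symm.trans ?_)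
      show η ≫ f = (η ≫ f ≫ c.hom) ≫ c.inv
      rw [Category.assoc, Category.assoc, c.hom_inv_id]
      exact congrArg (η ≫ ·) (Category.comp_id f).symm
    have h3 : w' = η⟦(1 : ℤ)⟧' ≫ (sadj.homEquiv _ _).symm (f ≫ c.hom) := by
      rw [← Equiv.symm_apply_apply (sadj.homEquiv _ _) w', h2]
      exact sadj.homEquiv_naturality_left_symm η (f ≫ c.hom)
    have h4 : δ ≫ η⟦(1 : ℤ)⟧' = 0 := comp_distTriang_mor_zero₃₁ _ hT
    rw [hw', h3, reassoc_of% h4, zero_comp]
  have htor : ∀ (j : ℤ) (x : Dual.HD P C j), ∃ k : ℕ, G ^ k • x = 0 := by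
    intro j x
    have hz : IsZero ((bcD P S).obj C) := by
      rw [IsZero.iff_id_eq_zero]
      refine (adj.homEquiv C _).injective ?_
      exact (hC0 _ _).trans (hC0 _ _).symm
    obtain ⟨e⟩ := nonempty_HD_bcD P S C j
    haveI : Subsingleton (Dual.HD S ((bcD P S).obj C) j) := ModuleCat.subsingleton_of_isZero
      ((DerivedCategory.homologyFunctor (ModuleCat.{u} S) j).map_isZero hz)
    haveI := e.symm.injective.subsingleton
    obtain ⟨⟨_, k, rfl⟩, hs⟩ := (IsLocalizedModule.eq_zero_iff (Submonoid.powers G) (TensorProduct.mk P S _ 1)).1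
      (Subsingleton.elim (TensorProduct.mk P S _ 1 x) 0)
    exact ⟨k, hs⟩
  haveI := isIso_smul_of_torsion P (C := C) (1 - G) G (sub_add_cancel 1 G) htor
  have hψa : ψ (1 - G) = 0 := by rw [map_sub, map_one, hG, sub_self]
  haveI : IsIso ((1 - G) • 𝟙 (C⟦(-1 : ℤ)⟧)) := by
    rw [show (1 - G) • 𝟙 (C⟦(-1 : ℤ)⟧) = ((1 - G) • 𝟙 C)⟦(-1 : ℤ)⟧' by
      rw [Functor.map_smul, CategoryTheory.Functor.map_id]]
    infer_instance
  have hη : ∀ X : Dual.D B,
      Function.Bijective fun v : (DRing.restrictD ψ).obj X ⟶ L => v ≫ η := fun X => by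
    refine ⟨fun v v' hv => ?_, fun w => ?_⟩
    · have h0 : (v - v') ≫ η = 0 := by rw [Preadditive.sub_comp]; exact sub_eq_zero.2 hv
      obtain ⟨u', hu⟩ := Triangle.coyoneda_exact₂ _ (inv_rot_of_distTriang _ hT) (v - v') h0
      rw [← sub_eq_zero]
      exact hu.trans ((congrArg (· ≫ _) (eq_zero_of_smul P ψ (1 - G) hψa X (C := C⟦(-1 : ℤ)⟧) u')).trans zero_comp)
    · obtain ⟨v, hv⟩ := Triangle.coyoneda_exact₂ _ hT w (eq_zero_of_smul P ψ (1 - G) hψa X (C := C) (w ≫ g))
      exact ⟨v, hv.symm⟩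
  let r := resDComp (algebraMap P S) χ ψ hψ
  obtain ⟨ε, hεdef⟩ := (hη M).2 (r.inv.app M ≫ res.map ε')
  replace hεdef : ε ≫ η = r.inv.app M ≫ res.map ε' := hεdef
  haveI := isIso_lbcCounit P S
  refine ⟨ε, fun X => (Function.Bijective.of_comp_iff' (hη X) _).1 ?_⟩
  convert ((r.app X).homFromEquiv (Z := res.obj ((bcD P S).obj L))).bijective.comp
    ((adj.fullyFaithfulROfIsIsoCounit.map_bijective _ _).comp (hε' X)) using 1
  funext φ
  show ((DRing.restrictD ψ).map φ ≫ ε) ≫ η = r.inv.app X ≫ res.map ((DRing.restrictD χ).map φ ≫ ε')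
  rw [Category.assoc, hεdef, Functor.map_comp]
  exact r.inv.naturality_assoc φ _

end Groth.Agent.ShriekAlgLib
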