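import Groth.Agent.ShriekAlgLib.ResCoind

/-!
# A chain level criterion for coinduced complexes
-/

set_option autoImplicit false
set_option backward.isDefEq.respectTransparency false
set_option linter.style.haveILetI false

universe u

open CategoryTheory CategoryTheory.Limits CochainComplex.HomComplex
attribute [local instance] HasDerivedCategory.standard

noncomputable section

namespace Groth.Agent.ShriekAlgLib

open DRingLib DCohLib DualCxLib

variable {P : Type u} [CommRing P] {A : Type u} [CommRing A] [Algebra P A]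

/-- The orbit map of an element. -/
def orbitMap (G : DRing.Cx A) (i : ℤ) (e : G.X i) :
    resMod (P := P) A ⟶ ((DTen.resCx (algebraMap P A)).obj G).X i :=
  (ModuleCat.restrictScalars.{u} (algebraMap P A)).map (ModuleCat.ofHom (LinearMap.toSpanSingleton A (G.X i) e))

theorem orbitMap_apply (G : DRing.Cx A) (i : ℤ) (e : G.X i) (a : A) :
    (orbitMap (P := P) G i e).hom a = a • e := rfl

/-- The action of the algebra as a map into the Hom complex. -/
def actHom (G : DRing.Cx A) :
    (DTen.resCx (algebraMap P A)).obj G ⟶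
      DRing.homCx (sng 0 (resMod (P := P) A)) ((DTen.resCx (algebraMap P A)).obj G) where
  f i := ModuleCat.ofHom (X := ((DTen.resCx (algebraMap P A)).obj G).X i)
    { toFun := fun (e : ((DTen.resCx (algebraMap P A)).obj G).X i) => Cochain.fromSingleMk (p := 0) (q := i) (orbitMap G i e) (zero_add i)
      map_add' := fun e e' => by
        rw [← Cochain.fromSingleMk_add]
        congr 1
        refine ModuleCat.hom_ext (LinearMap.ext fun (a : A) => ?_)
        exact smul_add (A := G.X i) a e e'
      map_smul' := fun r e => by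
        refine (Cochain.fromSingleEquiv (zero_add i)).injective ?_
        refine ((Cochain.fromSingleEquiv (zero_add i)).apply_symm_apply _).trans ?_
        show _ = _ ≫ (r • Cochain.fromSingleMk (p := 0) (q := i) (orbitMap G i e) (zero_add i)).v 0 i (zero_add i)
        rw [Cochain.smul_v, Linear.comp_smul, Cochain.fromSingleMk_v, Iso.inv_hom_id_assoc]
        refine ModuleCat.hom_ext (LinearMap.ext fun (a : A) => ?_)
        exact smul_comm a (algebraMap P A r) (show G.X i from e) }
  comm' i j hij := by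
    obtain rfl : i + 1 = j := hij
    refine ModuleCat.hom_ext (LinearMap.ext fun e => ?_)
    refine (Cochain.δ_fromSingleMk (orbitMap G i e) (zero_add i) (i + 1) (i + 1) (zero_add _)).trans ?_
    exact congrArg (fun h => Cochain.fromSingleMk h (zero_add (i + 1)))
      (ModuleCat.hom_ext (LinearMap.ext fun (a : A) => (G.d i (i + 1)).hom.map_smul a (show G.X i from e)))

theorem homCxMap_comp' (F : DRing.Cx P) {L L' L'' : DRing.Cx P} (f : L ⟶ L') (g : L' ⟶ L'') :
    DRing.homCxMap F (f ≫ g) = DRing.homCxMap F f ≫ DRing.homCxMap F g :=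
  (DRing.homCxFunctor F).map_comp f g

theorem homCxPre_homCxMap {F M L L' : DRing.Cx P} (π : F ⟶ M) (g : L ⟶ L') :
    homCxPre π L ≫ DRing.homCxMap F g = DRing.homCxMap M g ≫ homCxPre π L' := by
  refine HomologicalComplex.hom_ext _ _ fun i => ModuleCat.hom_ext (LinearMap.ext fun (z : Cochain M L i) => ?_)
  show ((Cochain.ofHom π).comp z (zero_add i)).comp (Cochain.ofHom g) (add_zero i) =
    (Cochain.ofHom π).comp (z.comp (Cochain.ofHom g) (add_zero i)) (zero_add i)
  exact Cochain.comp_assoc_of_third_is_zero_cochain _ _ _ _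

theorem Q_map_eq_of_quotient {L L' : DRing.Cx P} {f g : L ⟶ L'}
    (h : (HomotopyCategory.quotient (ModuleCat.{u} P) (ComplexShape.up ℤ)).map f =
      (HomotopyCategory.quotient (ModuleCat.{u} P) (ComplexShape.up ℤ)).map g) :
    DerivedCategory.Q.map f = DerivedCategory.Q.map g := congrArg DerivedCategory.Qh.map h

theorem quotient_map_eq_of_Q {L L' : DRing.Cx P} [L.IsKProjective] {f g : L ⟶ L'}
    (h : DerivedCategory.Q.map f = DerivedCategory.Q.map g) :
    (HomotopyCategory.quotient (ModuleCat.{u} P) (ComplexShape.up ℤ)).map f =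
      (HomotopyCategory.quotient (ModuleCat.{u} P) (ComplexShape.up ℤ)).map g :=
  (CochainComplex.IsKProjective.Qh_map_bijective L
    ((HomotopyCategory.quotient (ModuleCat.{u} P) (ComplexShape.up ℤ)).obj L')).1 h

theorem Q_homCxMap_eq (F : DRing.Cx P) {L L' : DRing.Cx P} {f g : L ⟶ L'}
    (h : (HomotopyCategory.quotient (ModuleCat.{u} P) (ComplexShape.up ℤ)).map f =
      (HomotopyCategory.quotient (ModuleCat.{u} P) (ComplexShape.up ℤ)).map g) :
    DerivedCategory.Q.map (DRing.homCxMap F f) = DerivedCategory.Q.map (DRing.homCxMap F g) :=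
  DerivedCategory.Q_map_eq_of_homotopy (C := ModuleCat.{u} P)
    (homCxHomotopy F (HomotopyCategory.homotopyOfEq _ _ h))

/-- The candidate evaluation map of chain level data. -/
def chainEval {E : DRing.Cx A} {F' : DRing.Cx P} (s : F' ⟶ (DTen.resCx (algebraMap P A)).obj E) (hs : QuasiIso s)
    (c : F' ⟶ oneCx P) : (DRing.restrictD (algebraMap P A)).obj (DRing.toD E) ⟶ Dual.inD P P :=
  haveI := isIso_Q_of_qis s hs
  (DTen.resFactors (algebraMap P A)).hom.app E ≫ inv (DerivedCategory.Q.map s) ≫
    DerivedCategory.Q.map c ≫ (singleQZeroIso (ModuleCat.of P P)).hom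

/-- The chain criterion. -/
theorem chain_criterion {E : DRing.Cx A} {F F' : DRing.Cx P} [F.IsKProjective] [F'.IsKProjective]
    (π : F ⟶ sng 0 (resMod (P := P) A)) (hπ : QuasiIso π)
    (s : F' ⟶ (DTen.resCx (algebraMap P A)).obj E) (hs : QuasiIso s) (c : F' ⟶ oneCx P)
    (β : F' ⟶ DRing.homCx F F')
    (hβ : (HomotopyCategory.quotient (ModuleCat.{u} P) (ComplexShape.up ℤ)).map (β ≫ DRing.homCxMap F s) =
      (HomotopyCategory.quotient (ModuleCat.{u} P) (ComplexShape.up ℤ)).map
        (s ≫ actHom E ≫ homCxPre π ((DTen.resCx (algebraMap P A)).obj E))) :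
    (∀ X, Function.Bijective fun g : X ⟶ DRing.toD E =>
        (DRing.restrictD (algebraMap P A)).map g ≫ chainEval s hs c) ↔
      QuasiIso (β ≫ DRing.homCxMap F c) := by
  haveI : (Dual.inD P P).IsGE 0 :=
    inferInstanceAs (((DerivedCategory.singleFunctor (ModuleCat.{u} P) 0).obj _).IsGE 0)
  obtain ⟨S⟩ := DualCxLib.exists_injRep (Dual.inD P P) 0
  haveI := S.isKInjective
  haveI := isIso_Q_of_qis s hs
  let Φ := DTen.resCx (algebraMap P A)
  let ev0 : DerivedCategory.Q.obj (oneCx P) ⟶ DRing.toD S.E :=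
    (singleQZeroIso (ModuleCat.of P P)).hom ≫ S.iso.inv
  haveI : IsIso ev0 := inferInstanceAs (IsIso (_ ≫ _))
  obtain ⟨g₁, hg₁⟩ := (CochainComplex.IsKInjective.Qh_map_bijective
      ((HomotopyCategory.quotient (ModuleCat.{u} P) (ComplexShape.up ℤ)).obj (oneCx P)) S.E).2 ev0
  obtain ⟨ι, rfl⟩ := (HomotopyCategory.quotient _ _).map_surjective g₁
  have hιQ : DerivedCategory.Q.map ι = ev0 := hg₁
  haveI : IsIso (DerivedCategory.Q.map ι) := by rw [hιQ]; infer_instance
  have hι : QuasiIso ι := (DerivedCategory.isIso_Q_map_iff_quasiIso (φ := ι)).1 inferInstance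
  obtain ⟨g₂, hg₂⟩ := (CochainComplex.IsKInjective.Qh_map_bijective
      ((HomotopyCategory.quotient (ModuleCat.{u} P) (ComplexShape.up ℤ)).obj (Φ.obj E)) S.E).2
      (inv (DerivedCategory.Q.map s) ≫ DerivedCategory.Q.map c ≫ ev0)
  obtain ⟨ct, rfl⟩ := (HomotopyCategory.quotient _ _).map_surjective g₂
  have hct : DerivedCategory.Q.map ct = inv (DerivedCategory.Q.map s) ≫ DerivedCategory.Q.map c ≫ ev0 := hg₂
  obtain ⟨γ₀, hγ₀⟩ := S.transpose_surjective A ct
  let γ := DerivedCategory.Q.map γ₀
  have hγ : (DRing.restrictD (algebraMap P A)).map γ ≫ S.εD A = chainEval s hs c := by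
    rw [S.εD_map A γ₀, hγ₀, hct, chainEval]
    simp only [ev0, Category.assoc, Iso.inv_hom_id, Category.comp_id]
  have h1 : (∀ X, Function.Bijective fun g : X ⟶ DRing.toD E =>
      (DRing.restrictD (algebraMap P A)).map g ≫ chainEval s hs c) ↔ IsIso γ := by
    have hcomp : ∀ (X) (g : X ⟶ DRing.toD E), (DRing.restrictD (algebraMap P A)).map g ≫ chainEval s hs c =
        (fun f => (DRing.restrictD (algebraMap P A)).map f ≫ S.εD A) (g ≫ γ) := fun X g => by
      rw [← hγ]
      show _ = (DRing.restrictD (algebraMap P A)).map (g ≫ γ) ≫ S.εD A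
      rw [Functor.map_comp, Category.assoc]
    refine ⟨fun h => ?_, fun h X => ?_⟩
    · have hb : ∀ X, Function.Bijective fun g : X ⟶ DRing.toD E => g ≫ γ := fun X =>
        ((S.transpose_bijective A X).of_comp_iff' _).1 (by
          convert h X using 1
          funext g
          exact (hcomp X g).symm)
      obtain ⟨δ, hδ⟩ := (hb _).2 (𝟙 _)
      refine ⟨δ, (hb _).1 ?_, hδ⟩
      show (γ ≫ δ) ≫ γ = 𝟙 _ ≫ γ
      rw [Category.assoc, show δ ≫ γ = 𝟙 _ from hδ, Category.comp_id, Category.id_comp]
    · convert (S.transpose_bijective A X).comp ((asIso γ).homToEquiv (Z := X)).bijective using 1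
      funext g
      exact hcomp X g
  let M := sng 0 (resMod (P := P) A)
  have h2 : Φ.map γ₀ ≫ (coextCxIso A S).hom = actHom E ≫ DRing.homCxMap M ct := by
    refine HomologicalComplex.hom_ext _ _ fun i => ModuleCat.hom_ext (LinearMap.ext fun (e : E.X i) => ?_)
    show Cochain.fromSingleMk (coextHom A S i ((γ₀.f i).hom e)) (zero_add i) =
      (Cochain.fromSingleMk (p := 0) (q := i) (orbitMap E i e) (zero_add i)).comp (Cochain.ofHom ct) (add_zero i)
    refine (Cochain.fromSingleEquiv (zero_add i)).injective ?_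
    refine (Cochain.fromSingleEquiv_fromSingleMk _ _).trans ?_
    show _ = _ ≫ ((Cochain.fromSingleMk (p := 0) (q := i) (orbitMap E i e) (zero_add i)).comp
      (Cochain.ofHom ct) (add_zero i)).v 0 i (zero_add i)
    rw [Cochain.comp_zero_cochain_v, Cochain.fromSingleMk_v, Cochain.ofHom_v, Category.assoc, Iso.inv_hom_id_assoc]
    refine ModuleCat.hom_ext (LinearMap.ext fun (a : A) => ?_)
    refine (coextHom_apply A S i _ a).trans ?_
    show S.coextEquiv A i ((γ₀.f i).hom e) a = (ct.f i).hom (a • e)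
    have h3 : (ct.f i).hom (a • e) = ((S.εC A).f i).hom ((γ₀.f i).hom (a • e)) := by
      conv_lhs => rw [← hγ₀]
      rfl
    rw [h3, S.εC_apply A i, map_smul, S.coextEquiv_smul A i, one_mul]
  rw [h1]
  haveI := isIso_Q_of_qis _ (quasiIso_homCxPre π S.E hπ)
  haveI := isIso_Q_of_qis _ (quasiIso_homCxMap F ι hι)
  haveI : IsIso (DerivedCategory.Q.map (coextCxIso A S).hom) := inferInstance
  let α := actHom E ≫ homCxPre π (Φ.obj E)
  have h4 : DerivedCategory.Q.map s ≫ DerivedCategory.Q.map (Φ.map γ₀) ≫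
      DerivedCategory.Q.map (coextCxIso A S).hom ≫ DerivedCategory.Q.map (homCxPre π S.E) =
      DerivedCategory.Q.map (β ≫ DRing.homCxMap F c) ≫ DerivedCategory.Q.map (DRing.homCxMap F ι) := by
    have hsct : (HomotopyCategory.quotient (ModuleCat.{u} P) (ComplexShape.up ℤ)).map (s ≫ ct) =
        (HomotopyCategory.quotient (ModuleCat.{u} P) (ComplexShape.up ℤ)).map (c ≫ ι) :=
      quotient_map_eq_of_Q (by rw [Functor.map_comp, Functor.map_comp, hct, hιQ, IsIso.hom_inv_id_assoc])
    rw [← Functor.map_comp, ← Functor.map_comp, ← Functor.map_comp, reassoc_of% h2, ← homCxPre_homCxMap,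
      show s ≫ actHom E ≫ homCxPre π (Φ.obj E) ≫ DRing.homCxMap F ct = (s ≫ α) ≫ DRing.homCxMap F ct by
        simp only [α, Category.assoc]]
    rw [Functor.map_comp, ← Q_map_eq_of_quotient hβ, ← Functor.map_comp, ← Functor.map_comp, Category.assoc,
      Category.assoc, Functor.map_comp, Functor.map_comp (f := β), ← homCxMap_comp', ← homCxMap_comp']
    exact congrArg (DerivedCategory.Q.map β ≫ ·) (Q_homCxMap_eq F hsct)
  have h5 : QuasiIso γ₀ ↔ QuasiIso (Φ.map γ₀) :=
    (HomologicalComplex.quasiIso_map_iff_of_preservesHomology γ₀ (ModuleCat.restrictScalars.{u} (algebraMap P A))).symm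
  rw [DerivedCategory.isIso_Q_map_iff_quasiIso, h5, ← DerivedCategory.isIso_Q_map_iff_quasiIso,
    ← DerivedCategory.isIso_Q_map_iff_quasiIso]
  constructor
  · intro h
    haveI := h
    haveI : IsIso (DerivedCategory.Q.map (β ≫ DRing.homCxMap F c) ≫ DerivedCategory.Q.map (DRing.homCxMap F ι)) := by
      rw [← h4]; infer_instance
    exact IsIso.of_isIso_comp_right _ (DerivedCategory.Q.map (DRing.homCxMap F ι))
  · intro h
    haveI := h
    haveI : IsIso (DerivedCategory.Q.map s ≫ DerivedCategory.Q.map (Φ.map γ₀) ≫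
        DerivedCategory.Q.map (coextCxIso A S).hom ≫ DerivedCategory.Q.map (homCxPre π S.E)) := by
      rw [h4]; infer_instance
    haveI : IsIso (DerivedCategory.Q.map (Φ.map γ₀) ≫
        DerivedCategory.Q.map (coextCxIso A S).hom ≫ DerivedCategory.Q.map (homCxPre π S.E)) :=
      IsIso.of_isIso_comp_left (DerivedCategory.Q.map s) _
    exact IsIso.of_isIso_comp_right (DerivedCategory.Q.map (Φ.map γ₀))
      (DerivedCategory.Q.map (coextCxIso A S).hom ≫ DerivedCategory.Q.map (homCxPre π S.E))

end Groth.Agent.ShriekAlgLib
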