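import Groth.Agent.ShriekAlgLib.DualBC
import Groth.Agent.DualCxLib.LocDual

/-!
# Flat base change of duals of complexes with finite cohomology
-/

set_option autoImplicit false
set_option backward.isDefEq.respectTransparency false
set_option linter.style.haveILetI false
set_option maxRecDepth 4000

universe u

open CategoryTheory CategoryTheory.Limits CochainComplex CochainComplex.HomComplex
open scoped ChangeOfRings TensorProduct
attribute [local instance] HasDerivedCategory.standard

noncomputable section

namespace Groth.Agent.ShriekAlgLib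

open DRingLib DCohLib DualCxLib

variable {A B : Type u} [CommRing A] [CommRing B] [Algebra A B]

theorem extHom_pre {F F' : DRing.Cx A} (f : F ⟶ F') (X : DRing.Cx A) :
    (extC A B).map (homCxPre f X) ≫ extHom B F X = extHom B F' X ≫ homCxPre ((extC A B).map f) ((extC A B).obj X) := by
  refine HomologicalComplex.hom_ext _ _ fun i => ?_
  apply ModuleCat.ExtendScalars.hom_ext
  intro (z : Cochain F' X i)
  show (extHomTerm B F X i).hom ((1 : B) ⊗ₜ[A,algebraMap A B] ((Cochain.ofHom f).comp z (zero_add i))) =
    (Cochain.ofHom ((extC A B).map f)).comp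
      ((extHomTerm B F' X i).hom ((1 : B) ⊗ₜ[A,algebraMap A B] z) : Cochain _ _ i) (zero_add i)
  rw [extHomTerm_one_tmul, extHomTerm_one_tmul, Cochain.map_comp, Cochain.map_ofHom]

variable {E : DRing.Cx A} {J : DRing.Cx B} (s : (extC A B).obj E ⟶ J)

/-- The base change map of duals. -/
def θCx (M : DRing.Cx A) : (extC A B).obj (DRing.homCx M E) ⟶ DRing.homCx ((extC A B).obj M) J :=
  extHom B M E ≫ DRing.homCxMap ((extC A B).obj M) s

theorem θCx_natural {M M' : DRing.Cx A} (f : M ⟶ M') :
    (extC A B).map (homCxPre f E) ≫ θCx s M = θCx s M' ≫ homCxPre ((extC A B).map f) J := by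
  rw [θCx, θCx, ← Category.assoc, extHom_pre, Category.assoc, Category.assoc]
  congr 1
  refine HomologicalComplex.hom_ext _ _ fun i => ModuleCat.hom_ext (LinearMap.ext fun (z : Cochain _ _ i) => ?_)
  show ((Cochain.ofHom ((extC A B).map f)).comp z (zero_add i)).comp (Cochain.ofHom s) (add_zero i) =
    (Cochain.ofHom ((extC A B).map f)).comp (z.comp (Cochain.ofHom s) (add_zero i)) (zero_add i)
  exact Cochain.comp_assoc_of_third_is_zero_cochain _ z _ _

theorem quasiIso_extC_map [Module.Flat A B] {K L : DRing.Cx A} (f : K ⟶ L) (hf : QuasiIso f) :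
    QuasiIso ((extC A B).map f) := by
  haveI := preservesHomology_extendScalars (A := A) B
  haveI := hf
  exact inferInstance

theorem shortExact_extC [Module.Flat A B] {S : ShortComplex (DRing.Cx A)} (hS : S.ShortExact) :
    (S.map (extC A B)).ShortExact := by
  haveI := preservesHomology_extendScalars (A := A) B
  refine HomologicalComplex.shortExact_of_degreewise_shortExact _ fun n => ?_
  have h : (((S.map (HomologicalComplex.eval (ModuleCat.{u} A) (ComplexShape.up ℤ) n))).map (extF A B)).ShortExact := by
    have hn := hS.map_of_exact (HomologicalComplex.eval (ModuleCat.{u} A) (ComplexShape.up ℤ) n)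
    haveI := hn.mono_f
    haveI := hn.epi_g
    haveI : PreservesFiniteLimits (extF A B) := Functor.preservesFiniteLimits_of_preservesHomology _
    exact hn.map_of_exact _
  exact h

/-- The base change map as a map of short complexes. -/
def θShort (S : ShortComplex (DRing.Cx A)) :
    (homShortComplex E S).map (extC A B) ⟶ homShortComplex J (S.map (extC A B)) where
  τ₁ := θCx s S.X₃
  τ₂ := θCx s S.X₂
  τ₃ := θCx s S.X₁
  comm₁₂ := (θCx_natural s S.g).symm
  comm₂₃ := (θCx_natural s S.f).symm

open HomologicalComplex CategoryTheory.ComposableArrows in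
theorem mono_epi_τ₁ {C : Type*} [Category C] [Abelian C] {S₁ S₂ : ShortComplex (CochainComplex C ℤ)}
    (φ : S₁ ⟶ S₂) (hS₁ : S₁.ShortExact) (hS₂ : S₂.ShortExact) (i : ℤ) (h₂' : Epi (homologyMap φ.τ₂ (i - 1)))
    (h₃' : Mono (homologyMap φ.τ₃ (i - 1))) (h₂ : IsIso (homologyMap φ.τ₂ i)) :
    Mono (homologyMap φ.τ₁ i) ∧
      (Epi (homologyMap φ.τ₃ (i - 1)) → Mono (homologyMap φ.τ₃ i) → IsIso (homologyMap φ.τ₁ i)) := by
  have r : (ComplexShape.up ℤ).Rel (i - 1) i := by simp
  refine ⟨?_, fun he hm => ?_⟩
  · apply Abelian.mono_of_epi_of_mono_of_mono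
      ((δ₀Functor ⋙ δlastFunctor).map (HomologySequence.mapComposableArrows₅ φ hS₁ hS₂ (i - 1) i r))
    · exact (HomologySequence.composableArrows₅_exact hS₁ (i - 1) i r).δ₀.δlast
    · exact (HomologySequence.composableArrows₅_exact hS₂ (i - 1) i r).δ₀.δlast
    · exact h₂'
    · exact h₃'
    · exact @IsIso.mono_of_iso _ _ _ _ _ h₂
  · exact Abelian.isIso_of_epi_of_isIso_of_isIso_of_mono (φ := δ₀Functor.map
        (HomologySequence.mapComposableArrows₅ φ hS₁ hS₂ (i - 1) i r))
      (HomologySequence.composableArrows₅_exact hS₁ (i - 1) i r).δ₀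
      (HomologySequence.composableArrows₅_exact hS₂ (i - 1) i r).δ₀
      h₂' (@isIso_of_mono_of_epi _ _ _ _ _ _ h₃' he) h₂ hm

theorem isIso_θCx_free (M : ModuleCat.{u} A) {ι : Type} [Fintype ι] (bM : Module.Basis ι A M) (a : ℤ)
    [J.IsKInjective] (hs : QuasiIso s) :
    QuasiIso (θCx s ((HomologicalComplex.single (ModuleCat.{u} A) (ComplexShape.up ℤ) a).obj M)) := by
  classical
  let K := (HomologicalComplex.single (ModuleCat.{u} A) (ComplexShape.up ℤ) a).obj M
  let σ := HomologicalComplex.singleObjXSelf (ComplexShape.up ℤ) a M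
  let g : ι → K.X a := fun i => σ.inv.hom (bM i)
  have hgen : ∀ m : K.X a, m ∈ Submodule.span A (Set.range g) := fun m => by
    rw [show g = σ.inv.hom ∘ bM from rfl, Set.range_comp, Submodule.span_image, bM.span_eq, Submodule.map_top,
      LinearMap.mem_range]
    exact ⟨σ.hom.hom m, congr($(σ.hom_inv_id).hom m)⟩
  have hinj : ∀ (n : ℤ) (w w' : Cochain ((extC A B).obj K) ((extC A B).obj E) n),
      (∀ i, (w.v a (a + n) rfl).hom ((1 : B) ⊗ₜ[A,algebraMap A B] g i) =
        (w'.v a (a + n) rfl).hom ((1 : B) ⊗ₜ[A,algebraMap A B] g i)) → w = w' := fun n w w' hw => by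
    refine Cochain.ext _ _ fun p q h => ?_
    by_cases hp : p = a
    · subst hp
      obtain rfl : q = p + n := h.symm
      refine ModuleCat.ExtendScalars.hom_ext fun m => ?_
      induction hgen m using Submodule.span_induction with
      | mem x hx =>
        obtain ⟨i, rfl⟩ := hx
        exact hw i
      | zero =>
        erw [TensorProduct.tmul_zero, map_zero, map_zero]
      | add x y _ _ hx hy =>
        erw [TensorProduct.tmul_add, map_add, map_add, hx, hy]
      | smul r x _ hx =>
        erw [TensorProduct.tmul_smul]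
        exact ((w.v p (p + n) rfl).hom.map_smul (algebraMap A B r) _).trans
          ((congrArg (algebraMap A B r • ·) hx).trans ((w'.v p (p + n) rfl).hom.map_smul (algebraMap A B r) _).symm)
    · exact ((extF A B).map_isZero (HomologicalComplex.isZero_single_obj_X _ _ _ _ hp)).eq_of_src _ _
  haveI : ∀ n, IsIso ((extHom B K E).f n) := fun n => by
    rw [ConcreteCategory.isIso_iff_bijective]
    let V := E.X (a + n)
    let ev : Cochain K E n →ₗ[A] (ι → V) :=
      LinearMap.pi fun i => DualCxLib.vApp a (a + n) rfl (g i)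
    let ev' : Cochain ((extC A B).obj K) ((extC A B).obj E) n → ι → (B ⊗[A] V) := fun w i =>
      extendScalarsTensorEquiv A B V ((w.v a (a + n) rfl).hom ((1 : B) ⊗ₜ[A,algebraMap A B] g i))
    have hev' : Function.Injective ev' := fun w w' h => hinj n w w' fun i =>
      (extendScalarsTensorEquiv A B V).injective (congrFun h i)
    have hev : Function.Bijective ev := by
      refine ⟨(injective_iff_map_eq_zero ev).2 fun z hz => ?_, fun v => ?_⟩
      · refine Cochain.ext _ _ fun p q h => ?_
        by_cases hp : p = a
        · subst hp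
          obtain rfl : q = p + n := h.symm
          refine ModuleCat.hom_ext (LinearMap.ext fun m => ?_)
          induction hgen m using Submodule.span_induction with
          | mem x hx =>
            obtain ⟨i, rfl⟩ := hx
            exact congrFun hz i
          | zero => exact (map_zero _).trans (map_zero _).symm
          | add x y _ _ hx hy => rw [map_add, map_add, hx, hy]
          | smul r x _ hx => rw [map_smul, map_smul, hx]
        · exact (HomologicalComplex.isZero_single_obj_X _ _ _ _ hp).eq_of_src _ _
      · refine ⟨Cochain.fromSingleMk (ModuleCat.ofHom (bM.constr A v)) rfl, funext fun i => ?_⟩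
        show ((Cochain.fromSingleMk (ModuleCat.ofHom (bM.constr A v)) rfl).v a (a + n) rfl).hom (σ.inv.hom (bM i)) = v i
        rw [Cochain.fromSingleMk_v]
        show bM.constr A v (σ.hom.hom (σ.inv.hom (bM i))) = v i
        rw [show σ.hom.hom (σ.inv.hom (bM i)) = bM i from congr($(σ.inv_hom_id).hom (bM i)), Module.Basis.constr_basis]
    let eC := (extendScalarsTensorEquiv A B ((DRing.homCx K E).X n))
    have key : ∀ y : B ⊗[A] ((DRing.homCx K E).X n),
        ev' (((extHom B K E).f n).hom (eC.symm y)) =
          TensorProduct.piRight A B B (fun _ : ι => V) (LinearMap.lTensor B ev y) := fun y => by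
      induction y using TensorProduct.induction_on with
      | zero =>
        funext i
        rw [map_zero, map_zero, map_zero, map_zero]
        show extendScalarsTensorEquiv A B V (((0 : Cochain ((extC A B).obj K) ((extC A B).obj E) n).v a (a + n) rfl).hom _) = _
        rw [Cochain.zero_v, ModuleCat.hom_zero, LinearMap.zero_apply, map_zero]
        rfl
      | tmul b z =>
        funext i
        rw [LinearMap.lTensor_tmul, TensorProduct.piRight_apply, TensorProduct.piRightHom_tmul]
        rw [show (b ⊗ₜ[A] z) = b • ((1 : B) ⊗ₜ[A] z) by rw [TensorProduct.smul_tmul', smul_eq_mul, mul_one],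
          map_smul, map_smul]
        show extendScalarsTensorEquiv A B V (((b • ((extHomTerm B K E n).hom ((1 : B) ⊗ₜ[A,algebraMap A B] z) :
          Cochain _ _ n)).v a (a + n) rfl).hom _) = _
        rw [Cochain.smul_v, ModuleCat.hom_smul, LinearMap.smul_apply, map_smul, extHomTerm_one_tmul, Cochain.map_v]
        show b • ((1 : B) ⊗ₜ[A] (z.v a (a + n) rfl).hom (g i)) = _
        rw [TensorProduct.smul_tmul', smul_eq_mul, mul_one]
        rfl
      | add x y hx hy =>
        rw [map_add, map_add, map_add, map_add, ← hx, ← hy]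
        funext i
        show extendScalarsTensorEquiv A B V (((((_ : Cochain ((extC A B).obj K) ((extC A B).obj E) n) + _)).v a (a + n) rfl).hom _) = _
        rw [Cochain.add_v, ModuleCat.hom_add, LinearMap.add_apply, map_add]
        rfl
    have hb : Function.Bijective fun x => ev' (((extHom B K E).f n).hom x) := by
      have h0 := ((TensorProduct.piRight A B B (fun _ : ι => V)).bijective.comp
        ((LinearEquiv.lTensor B (LinearEquiv.ofBijective ev hev)).bijective)).comp eC.bijective
      have he : (fun x => ev' (((extHom B K E).f n).hom x)) =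
          ((TensorProduct.piRight A B B (fun _ : ι => V)) ∘ (LinearEquiv.lTensor B (LinearEquiv.ofBijective ev hev))) ∘ eC :=
        funext fun x => by
          refine Eq.trans ?_ (key (eC x))
          rw [eC.symm_apply_apply]
      rw [he]
      exact h0
    refine ⟨fun x y h => hb.1 (congrArg ev' h), fun w => ?_⟩
    obtain ⟨x, hx⟩ := hb.2 (ev' w)
    exact ⟨x, hev' hx⟩
  haveI : IsIso (extHom B K E) := HomologicalComplex.Hom.isIso_of_components _
  haveI : Module.Free A M := Module.Free.of_basis bM
  haveI : Module.Projective A M := Module.Projective.of_free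
  haveI hKP : CochainComplex.IsKProjective ((extC A B).obj K) := by
    refine isKProjective_of_vanishesAbove (b := a) (fun i hi => (extF A B).map_isZero
      (HomologicalComplex.isZero_single_obj_X _ _ _ _ (by omega))) fun i => ?_
    by_cases hi : i = a
    · subst hi
      haveI : Module.Projective A (K.X i) := Module.Projective.of_equiv σ.symm.toLinearEquiv
      exact Module.Projective.of_equiv (extendScalarsTensorEquiv A B (K.X i)).symm
    · haveI : Subsingleton (((extC A B).obj K).X i) := ModuleCat.subsingleton_of_isZero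
        ((extF A B).map_isZero (HomologicalComplex.isZero_single_obj_X _ _ _ _ hi))
      infer_instance
  haveI := quasiIso_homCxMap ((extC A B).obj K) s hs
  show QuasiIso (extHom B K E ≫ DRing.homCxMap ((extC A B).obj K) s)
  infer_instance

section Finite

variable [Module.Flat A B] [IsNoetherianRing A] {a b c d : ℤ} (hE : DRing.VanishesOutside E a b)
  (hEi : ∀ i, Module.Injective A (E.X i)) (hJ : DRing.VanishesOutside J c d) (hJi : ∀ i, Module.Injective B (J.X i))
  [E.IsKInjective] [J.IsKInjective] (hs : QuasiIso s)

include hE hJ in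
omit [IsNoetherianRing A] [Module.Flat A B] [E.IsKInjective] [J.IsKInjective] in
theorem quasiIsoAt_θCx_iff {M M' : DRing.Cx A} (f : M ⟶ M') (n : ℤ)
    (hf : ∀ p, min a c - n - 1 ≤ p → p ≤ max b d - n + 1 → IsIso (f.f p)) :
    QuasiIsoAt (θCx s M) n ↔ QuasiIsoAt (θCx s M') n := by
  haveI : QuasiIsoAt ((extC A B).map (homCxPre f E)) n := quasiIsoAt_of_isIso_f _ n fun p h1 h2 => by
    haveI := isIso_homCxPre_f f hE p fun q h3 h4 => hf q (by omega) (by omega)
    exact inferInstanceAs (IsIso ((extF A B).map ((homCxPre f E).f p)))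
  haveI : QuasiIsoAt (homCxPre ((extC A B).map f) J) n := quasiIsoAt_of_isIso_f _ n fun p h1 h2 =>
    isIso_homCxPre_f _ hJ p fun q h3 h4 => by
      haveI := hf q (by omega) (by omega)
      exact inferInstanceAs (IsIso ((extF A B).map (f.f q)))
  rw [← quasiIsoAt_iff_comp_left ((extC A B).map (homCxPre f E)) (θCx s M) n, θCx_natural,
    quasiIsoAt_iff_comp_right (θCx s M') (homCxPre ((extC A B).map f) J) n]

omit [IsNoetherianRing A] in
theorem quasiIso_θCx_iff {M M' : DRing.Cx A} (f : M ⟶ M') (hf : QuasiIso f) :
    QuasiIso (θCx s M) ↔ QuasiIso (θCx s M') := by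
  haveI := quasiIso_extC_map (B := B) _ (quasiIso_homCxPre f E hf)
  haveI := quasiIso_homCxPre _ J (quasiIso_extC_map (B := B) f hf)
  rw [← quasiIso_iff_comp_left ((extC A B).map (homCxPre f E)) (θCx s M), θCx_natural, quasiIso_iff_comp_right]

include hE hEi hJ hJi hs

theorem isIso_θCx_single (M : ModuleCat.{u} A) [Module.Finite A M] (l n : ℤ) :
    IsIso (HomologicalComplex.homologyMap
      (θCx s ((HomologicalComplex.single (ModuleCat.{u} A) (ComplexShape.up ℤ) l).obj M)) n) := by
  suffices key : ∀ (k : ℕ) (n : ℤ), n < min a c - l + k → ∀ (M : ModuleCat.{u} A) [Module.Finite A M],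
      IsIso (HomologicalComplex.homologyMap
        (θCx s ((HomologicalComplex.single (ModuleCat.{u} A) (ComplexShape.up ℤ) l).obj M)) n) from
    key (n + 1 - (min a c - l)).toNat n (by omega) M
  intro k
  induction k with
  | zero =>
    intro n hn M _
    have hz : ∀ {R : Type u} [CommRing R] {N G : DRing.Cx R} {lo hi : ℤ}, DRing.VanishesOutside G lo hi →
        (∀ p, p ≠ l → IsZero (N.X p)) → n < lo - l → (DRing.homCx N G).ExactAt n := fun {R} _ {N G lo hi} hG hN h => by
      refine HomologicalComplex.ExactAt.of_isZero ?_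
      haveI : Subsingleton (Cochain N G n) := ⟨fun z z' => Cochain.ext _ _ fun p q hpq => by
        by_cases hp : p = l
        · exact (hG q (by omega)).eq_of_tgt _ _
        · exact (hN p hp).eq_of_src _ _⟩
      exact ModuleCat.isZero_of_subsingleton (ModuleCat.of R (Cochain N G n))
    have h1 : ((extC A B).obj (DRing.homCx
        ((HomologicalComplex.single (ModuleCat.{u} A) (ComplexShape.up ℤ) l).obj M) E)).ExactAt n := by
      refine HomologicalComplex.ExactAt.of_isZero ((extF A B).map_isZero ?_)
      haveI : Subsingleton (Cochain ((HomologicalComplex.single (ModuleCat.{u} A) (ComplexShape.up ℤ) l).obj M) E n) :=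
        ⟨fun z z' => Cochain.ext _ _ fun p q hpq => by
          by_cases hp : p = l
          · exact (hE q (by omega)).eq_of_tgt _ _
          · exact (HomologicalComplex.isZero_single_obj_X _ _ _ _ hp).eq_of_src _ _⟩
      exact ModuleCat.isZero_of_subsingleton (ModuleCat.of A (Cochain _ E n))
    have h2 := hz (N := (extC A B).obj ((HomologicalComplex.single (ModuleCat.{u} A) (ComplexShape.up ℤ) l).obj M)) hJ
      (fun p hp => (extF A B).map_isZero (HomologicalComplex.isZero_single_obj_X _ _ _ _ hp)) (by omega)
    exact (quasiIsoAt_iff_isIso_homologyMap _ _).1 ((quasiIsoAt_iff_exactAt _ _ h1).2 h2)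
  | succ k ih =>
    intro n hn
    have hmono : ∀ (M : ModuleCat.{u} A) [Module.Finite A M],
        ∃ (N : ModuleCat.{u} A) (_ : Module.Finite A N),
          Mono (HomologicalComplex.homologyMap
            (θCx s ((HomologicalComplex.single (ModuleCat.{u} A) (ComplexShape.up ℤ) l).obj M)) n) ∧
          (Mono (HomologicalComplex.homologyMap
            (θCx s ((HomologicalComplex.single (ModuleCat.{u} A) (ComplexShape.up ℤ) l).obj N)) n) →
          IsIso (HomologicalComplex.homologyMap
            (θCx s ((HomologicalComplex.single (ModuleCat.{u} A) (ComplexShape.up ℤ) l).obj M)) n)) := by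
      intro M _
      obtain ⟨r, π, hπ⟩ := Module.Finite.exists_fin' A M
      let T : ShortComplex (ModuleCat.{u} A) :=
        ShortComplex.mk (ModuleCat.ofHom (LinearMap.ker π).subtype) (ModuleCat.ofHom π)
          (ModuleCat.hom_ext (LinearMap.ext fun x => x.2))
      have hT : T.ShortExact := ShortComplex.ShortExact.mk'
        ((ShortComplex.ShortExact.moduleCat_exact_iff_function_exact T).2 (LinearMap.exact_subtype_ker_map π))
        ((ModuleCat.mono_iff_injective _).2 Subtype.val_injective) ((ModuleCat.epi_iff_surjective _).2 hπ)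
      have hS : (T.map (HomologicalComplex.single (ModuleCat.{u} A) (ComplexShape.up ℤ) l)).ShortExact :=
        hT.map_of_exact _
      have hfree := isIso_θCx_free s (ModuleCat.of A (Fin r → A)) (Pi.basisFun A (Fin r)) l hs
      have g₂ : ∀ i, IsIso (HomologicalComplex.homologyMap
          (θShort s (T.map (HomologicalComplex.single (ModuleCat.{u} A) (ComplexShape.up ℤ) l))).τ₂ i) :=
        fun i => (quasiIsoAt_iff_isIso_homologyMap _ i).1 (hfree.quasiIsoAt i)
      haveI : Module.Finite A (ModuleCat.of A (LinearMap.ker π)) := inferInstanceAs (Module.Finite A (LinearMap.ker π))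
      have hN := ih (n - 1) (by omega) (ModuleCat.of A (LinearMap.ker π))
      obtain ⟨h1, h2⟩ := mono_epi_τ₁ (θShort s (T.map (HomologicalComplex.single (ModuleCat.{u} A) (ComplexShape.up ℤ) l)))
        (shortExact_extC (homShortComplex_shortExact hEi hS)) (homShortComplex_shortExact hJi (shortExact_extC hS)) n
        (@IsIso.epi_of_iso _ _ _ _ _ (g₂ (n - 1))) (@IsIso.mono_of_iso _ _ _ _ _ hN) (g₂ n)
      exact ⟨ModuleCat.of A (LinearMap.ker π), inferInstance, h1, h2 (@IsIso.epi_of_iso _ _ _ _ _ hN)⟩
    intro M _
    obtain ⟨N, hN, -, h⟩ := hmono M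
    haveI := hN
    exact h (hmono N).choose_spec.choose_spec.1

theorem quasiIso_θCx (M : DRing.Cx A) (hM : ∀ i, Module.Finite A (M.homology i)) : QuasiIso (θCx s M) := by
  refine ⟨fun n => ?_⟩
  let lo : ℤ := min a c - n - 3
  let hi : ℤ := max b d - n + 3
  let M' := M.truncLE hi
  have h1 := quasiIsoAt_θCx_iff s hE hJ (M.ιTruncLE hi) n fun p _ h2 =>
    BoundedRoofLib.isIso_ιTruncLE_f M hi p (by omega)
  have h2 := quasiIsoAt_θCx_iff s hE hJ (M'.πTruncGE lo) n fun p h1 _ =>
    DRingLib.isIso_πTruncGE_f M' lo p (by omega)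
  refine h1.1 (h2.2 ((finiteCx_induction (fun L => QuasiIso (θCx s L))
    (fun f hf => quasiIso_θCx_iff s f hf) (fun {C} hC h1 h3 => ?_)
    (fun N _ l => ⟨fun m => (quasiIsoAt_iff_isIso_homologyMap _ m).2 (isIso_θCx_single s hE hEi hJ hJi hs N l m)⟩)
    (hi - lo).toNat lo (M'.truncGE lo) (fun i hi' => ?_) (finite_truncGE (finite_truncLE hM hi) lo)).quasiIsoAt n))
  · exact DCohLib.quasiIso_τ₂ (θShort s C) (shortExact_extC (homShortComplex_shortExact hEi hC))
      (homShortComplex_shortExact hJi (shortExact_extC hC)) h3 h1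
  · rcases le_or_gt lo i with h | h
    · haveI := M'.quasiIsoAt_πTruncGE lo i h
      refine (exactAt_iff_of_quasiIsoAt (M'.πTruncGE lo) i).1
        (HomologicalComplex.ExactAt.of_isZero (M'.isZero_of_isStrictlyLE hi i ?_))
      omega
    · exact HomologicalComplex.ExactAt.of_isZero ((M'.truncGE lo).isZero_of_isStrictlyGE lo i h)

end Finite

end Groth.Agent.ShriekAlgLib
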