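import Groth.Agent.ShriekAlgLib.TensorHom
import Groth.Agent.ShriekAlgLib.HomBC
import Groth.Agent.DTenLib.BaseFlat

/-!
# Coinduced complexes commute with tensor products
-/

set_option autoImplicit false
set_option backward.isDefEq.respectTransparency false
set_option linter.style.haveILetI false

universe u

open CategoryTheory CategoryTheory.Limits MonoidalCategory CochainComplex CochainComplex.HomComplex
  HomologicalComplex
open scoped TensorProduct ChangeOfRings
attribute [local instance] HasDerivedCategory.standard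

noncomputable section

namespace Groth.Agent.ShriekAlgLib

open DRingLib DCohLib

variable {P A : Type u} [CommRing P] [CommRing A] [Algebra P A]

/-- `(N, M) ↦ (A ⊗ N) ⊗ M`. -/
abbrev projExt : ModuleCat.{u} P ⥤ ModuleCat.{u} A ⥤ ModuleCat.{u} A :=
  extF P A ⋙ curriedTensor (ModuleCat.{u} A)

/-- `(N, M) ↦ N ⊗ M`. -/
abbrev projRes : ModuleCat.{u} P ⥤ ModuleCat.{u} A ⥤ ModuleCat.{u} P :=
  curriedTensor (ModuleCat.{u} P) ⋙
    (Functor.whiskeringLeft _ _ _).obj (ModuleCat.restrictScalars.{u} (algebraMap P A))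

instance additive_projExt : (projExt (P := P) (A := A)).Additive := inferInstance

instance additive_projExt_obj (N : ModuleCat.{u} P) : ((projExt (A := A)).obj N).Additive :=
  inferInstanceAs ((curriedTensor (ModuleCat.{u} A)).obj ((extF P A).obj N)).Additive

instance additive_projRes : (projRes (P := P) (A := A)).Additive := inferInstance

instance additive_projRes_obj (N : ModuleCat.{u} P) : ((projRes (A := A)).obj N).Additive :=
  inferInstanceAs (ModuleCat.restrictScalars.{u} (algebraMap P A) ⋙ (curriedTensor (ModuleCat.{u} P)).obj N).Additive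

/-- The module projection formula. -/
def projTerm (N : ModuleCat.{u} P) (M : ModuleCat.{u} A) :
    (ModuleCat.restrictScalars.{u} (algebraMap P A)).obj ((extF P A).obj N ⊗ M) ≅
      N ⊗ (ModuleCat.restrictScalars.{u} (algebraMap P A)).obj M :=
  (ModuleCat.restrictScalars.{u} (algebraMap P A)).mapIso (β_ _ _) ≪≫
    DTenLib.baseCancelIso (algebraMap P A) M N ≪≫ β_ _ _

/-- The module projection formula, as an isomorphism of bifunctors. -/
def projIso : projExt ⋙ (Functor.whiskeringRight _ _ _).obj (ModuleCat.restrictScalars.{u} (algebraMap P A)) ≅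
    projRes (P := P) (A := A) :=
  NatIso.ofComponents
    (fun N => NatIso.ofComponents (fun M => projTerm N M) fun {M M'} f => by
      refine ModuleCat.hom_ext (LinearMap.ext fun x => ?_)
      refine TensorProduct.induction_on x ?_ (fun y m => ?_) (fun a b ha hb => ?_)
      · exact (map_zero _).trans (map_zero _).symm
      · refine TensorProduct.induction_on y ?_ (fun a n => ?_) (fun a b ha hb => ?_)
        · erw [TensorProduct.zero_tmul, map_zero]
        · exact congrArg (fun z : (ModuleCat.restrictScalars.{u} (algebraMap P A)).obj M' => n ⊗ₜ[P] z)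
            (f.hom.map_smul a m).symm
        · erw [TensorProduct.add_tmul, map_add, map_add, ha, hb]
      · exact (map_add _ _ _).trans ((congrArg₂ (· + ·) ha hb).trans (map_add _ _ _).symm))
    fun {N N'} g => by
      ext M : 2
      refine ModuleCat.hom_ext (LinearMap.ext fun x => ?_)
      refine TensorProduct.induction_on x ?_ (fun y m => ?_) (fun a b ha hb => ?_)
      · exact (map_zero _).trans (map_zero _).symm
      · refine TensorProduct.induction_on y ?_ (fun a n => ?_) (fun a b ha hb => ?_)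
        · erw [TensorProduct.zero_tmul, map_zero]
        · rfl
        · erw [TensorProduct.add_tmul, map_add, map_add, ha, hb]
      · exact (map_add _ _ _).trans ((congrArg₂ (· + ·) ha hb).trans (map_add _ _ _).symm)

theorem projTerm_inv_tmul (N : ModuleCat.{u} P) (M : ModuleCat.{u} A) (n : N) (m : M) :
    (projTerm N M).inv.hom (n ⊗ₜ[P] (show (ModuleCat.restrictScalars.{u} (algebraMap P A)).obj M from m)) =
      (((1 : A) ⊗ₜ[P,algebraMap P A] n : (extF P A).obj N) ⊗ₜ[A] m : (_ ⊗ M : ModuleCat.{u} A)) := rfl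

/-- The projection formula on complexes. -/
def projCxIso (G : DRing.Cx P) (E : DRing.Cx A) :
    (DTen.resCx (algebraMap P A)).obj ((extC P A).obj G ⊗ E : DRing.Cx A) ≅
      (G ⊗ (DTen.resCx (algebraMap P A)).obj E : DRing.Cx P) :=
  KFlat.mapTotIso (projIso (P := P) (A := A)) G E

theorem projCxIso_inv_ιBil (G : DRing.Cx P) (E : DRing.Cx A) (p q n : ℤ) (h : p + q = n) (g : G.X p) (e : E.X q) :
    ((projCxIso G E).inv.f n).hom
        (ιBil G ((DTen.resCx (algebraMap P A)).obj E) p q n h g e) =
      ιBil ((extC P A).obj G) E p q n h ((1 : A) ⊗ₜ[P,algebraMap P A] g : (extF P A).obj (G.X p)) e := by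
  have h1 := KFlat.ι_mapTotX (projIso (P := P) (A := A)) G E p q n h
  exact congrArg (fun φ => φ.hom (g ⊗ₜ[P] (show (ModuleCat.restrictScalars.{u} (algebraMap P A)).obj (E.X q) from e))) h1

theorem actHom_naturality {E E' : DRing.Cx A} (f : E ⟶ E') :
    actHom (P := P) E ≫ DRing.homCxMap (sng 0 (resMod (P := P) A)) ((DTen.resCx (algebraMap P A)).map f) =
      (DTen.resCx (algebraMap P A)).map f ≫ actHom E' := by
  refine HomologicalComplex.hom_ext _ _ fun i => ModuleCat.hom_ext (LinearMap.ext fun (e : E.X i) => ?_)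
  show (Cochain.fromSingleMk (p := 0) (q := i) (orbitMap E i e) (zero_add i)).comp
      (Cochain.ofHom ((DTen.resCx (algebraMap P A)).map f)) (add_zero i) =
    Cochain.fromSingleMk (p := 0) (q := i) (orbitMap E' i ((f.f i).hom e)) (zero_add i)
  refine (Cochain.fromSingleEquiv (zero_add i)).injective ?_
  refine Eq.trans ?_ (Cochain.fromSingleEquiv_fromSingleMk _ _).symm
  show _ ≫ ((Cochain.fromSingleMk (p := 0) (q := i) (orbitMap E i e) (zero_add i)).comp
    (Cochain.ofHom ((DTen.resCx (algebraMap P A)).map f)) (add_zero i)).v 0 i (zero_add i) = _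
  rw [Cochain.comp_zero_cochain_v, Cochain.fromSingleMk_v, Cochain.ofHom_v, Category.assoc, Iso.inv_hom_id_assoc]
  exact ModuleCat.hom_ext (LinearMap.ext fun (a : A) => (f.f i).hom.map_smul a (show E.X i from e))

theorem isIso_actHom_coε (I : DRing.Cx P) :
    IsIso (actHom ((coCx (algebraMap P A)).obj I) ≫
      DRing.homCxMap (sng 0 (resMod (P := P) A)) (coε (algebraMap P A) I)) := by
  let C := (coCx (algebraMap P A)).obj I
  let Φ := actHom C ≫ DRing.homCxMap (sng 0 (resMod (P := P) A)) (coε (algebraMap P A) I)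
  haveI : ∀ i, IsIso (Φ.f i) := fun i => by
    rw [ConcreteCategory.isIso_iff_bijective]
    let adj := ModuleCat.restrictCoextendScalarsAdj (algebraMap P A)
    let b : C.X i ≃ (ModuleCat.of A A ⟶ C.X i) :=
      { toFun := fun e => ModuleCat.ofHom (LinearMap.toSpanSingleton A (C.X i) e)
        invFun := fun f => f.hom (1 : A)
        left_inv := fun e => one_smul A e
        right_inv := fun f => ModuleCat.hom_ext (LinearMap.ext_ring (one_smul A _)) }
    let d : C.X i ≃ Cochain (sng 0 (resMod (P := P) A)) I i :=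
      (b.trans (adj.homEquiv (ModuleCat.of A A) (I.X i)).symm).trans
        (Cochain.fromSingleEquiv (zero_add i)).symm.toEquiv
    suffices h : ⇑(ConcreteCategory.hom (Φ.f i)) = ⇑d from h ▸ d.bijective
    funext (e : C.X i)
    refine (Cochain.fromSingleEquiv (K := I) (zero_add i)).injective ?_
    refine Eq.trans ?_ ((Cochain.fromSingleEquiv (K := I) (zero_add i)).apply_symm_apply _).symm
    show _ ≫ ((Cochain.fromSingleMk (p := 0) (q := i) (orbitMap (P := P) C i e) (zero_add i)).comp
      (Cochain.ofHom (coε (algebraMap P A) I)) (add_zero i)).v 0 i (zero_add i) = _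
    rw [Cochain.comp_zero_cochain_v, Cochain.fromSingleMk_v, Cochain.ofHom_v, Category.assoc, Iso.inv_hom_id_assoc]
    exact (adj.homEquiv_counit (ModuleCat.of A A) (I.X i) (b e)).symm
  exact HomologicalComplex.Hom.isIso_of_components _

variable {F : DRing.Cx P} (π : F ⟶ sng 0 (resMod (P := P) A))

/-- The evaluation of a map out of a restriction, transposed into a Hom complex. -/
abbrev evalCx {E : DRing.Cx A} {I : DRing.Cx P} (ct : (DTen.resCx (algebraMap P A)).obj E ⟶ I) :
    (DTen.resCx (algebraMap P A)).obj E ⟶ DRing.homCx F I :=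
  actHom E ≫ homCxPre π ((DTen.resCx (algebraMap P A)).obj E) ≫ DRing.homCxMap F ct

theorem evalCx_coη {E : DRing.Cx A} {I : DRing.Cx P} (ct : (DTen.resCx (algebraMap P A)).obj E ⟶ I) :
    evalCx π ct = (DTen.resCx (algebraMap P A)).map (coη (algebraMap P A) E ≫ (coCx (algebraMap P A)).map ct) ≫
      (actHom ((coCx (algebraMap P A)).obj I) ≫
        DRing.homCxMap (sng 0 (resMod (P := P) A)) (coε (algebraMap P A) I)) ≫ homCxPre π I := by
  rw [Category.assoc, ← reassoc_of% actHom_naturality, ← Category.assoc (DRing.homCxMap _ _), ← homCxMap_comp',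
    coη_coε, ← homCxPre_homCxMap]

theorem quasiIso_evalCx_iff (hπ : QuasiIso π) {E : DRing.Cx A} {I : DRing.Cx P} [I.IsKInjective]
    (ct : (DTen.resCx (algebraMap P A)).obj E ⟶ I) :
    QuasiIso (evalCx π ct) ↔ QuasiIso (coη (algebraMap P A) E ≫ (coCx (algebraMap P A)).map ct) := by
  haveI := quasiIso_homCxPre π I hπ
  haveI := isIso_actHom_coε (A := A) I
  rw [evalCx_coη, quasiIso_iff_comp_right]
  exact HomologicalComplex.quasiIso_map_iff_of_preservesHomology _ (ModuleCat.restrictScalars.{u} (algebraMap P A))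

theorem isCoind_tensor (hF : Bdd FProj F) (hπ : QuasiIso π) {G : DRing.Cx P} (hG : DRing.IsKFlat P G)
    {W : DRing.Cx A} (hW : IsCoind (algebraMap P A) (Dual.inD P P) (DRing.toD W)) :
    IsCoind (algebraMap P A) (DRing.toD G) (DRing.toD ((extC P A).obj G ⊗ W : DRing.Cx A)) := by
  haveI := hF.isKProjective projClass_fProj
  obtain ⟨J⟩ := nonempty_kIRep (Dual.inD P P)
  haveI := J.kinj
  haveI := isKInjective_coCx (algebraMap P A) J.E
  obtain ⟨eW⟩ := hW.unique (isCoind_coCx (algebraMap P A) J)
  obtain ⟨φq, hφq⟩ := (CochainComplex.IsKInjective.Qh_map_bijective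
    ((HomotopyCategory.quotient (ModuleCat.{u} A) (ComplexShape.up ℤ)).obj W) ((coCx (algebraMap P A)).obj J.E)).2 eW.hom
  obtain ⟨φW, rfl⟩ := (HomotopyCategory.quotient _ _).map_surjective φq
  have hφWQ : DerivedCategory.Q.map φW = eW.hom := hφq
  have hφW : QuasiIso φW :=
    (DerivedCategory.isIso_Q_map_iff_quasiIso (φ := φW)).1 (hφWQ ▸ inferInstanceAs (IsIso eW.hom))
  let Φ := DTen.resCx (algebraMap P A)
  let ctW : Φ.obj W ⟶ J.E := Φ.map φW ≫ coε (algebraMap P A) J.E
  have hγW : QuasiIso (evalCx π ctW) := by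
    rw [quasiIso_evalCx_iff π hπ, show coη (algebraMap P A) W ≫ (coCx (algebraMap P A)).map ctW = φW from coε_coη _ _]
    exact hφW
  obtain ⟨ιq, hιq⟩ := (CochainComplex.IsKInjective.Qh_map_bijective
    ((HomotopyCategory.quotient (ModuleCat.{u} P) (ComplexShape.up ℤ)).obj (oneCx P)) J.E).2
    ((singleQZeroIso (ModuleCat.of P P)).hom ≫ J.iso.inv)
  obtain ⟨ι, rfl⟩ := (HomotopyCategory.quotient _ _).map_surjective ιq
  haveI : IsIso (DerivedCategory.Q.map ι) := by
    rw [show DerivedCategory.Q.map ι = (singleQZeroIso (ModuleCat.of P P)).hom ≫ J.iso.inv from hιq]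
    infer_instance
  have hι : QuasiIso ι := (DerivedCategory.isIso_Q_map_iff_quasiIso (φ := ι)).1 inferInstance
  obtain ⟨S⟩ := nonempty_kIRep (DRing.toD G)
  haveI := S.kinj
  haveI := isIso_Q_of_qis _ (quasiIso_whiskerLeft_of_isKFlat hG ι hι)
  obtain ⟨gq, hgq⟩ := (CochainComplex.IsKInjective.Qh_map_bijective
    ((HomotopyCategory.quotient (ModuleCat.{u} P) (ComplexShape.up ℤ)).obj (G ⊗ J.E : DRing.Cx P)) S.E).2
    (inv (DerivedCategory.Q.map (G ◁ ι)) ≫ inv (DerivedCategory.Q.map (toTensorOne G)) ≫ S.iso.inv)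
  obtain ⟨g, rfl⟩ := (HomotopyCategory.quotient _ _).map_surjective gq
  haveI : IsIso (DerivedCategory.Q.map g) := by
    rw [show DerivedCategory.Q.map g =
      inv (DerivedCategory.Q.map (G ◁ ι)) ≫ inv (DerivedCategory.Q.map (toTensorOne G)) ≫ S.iso.inv from hgq]
    infer_instance
  have hg : QuasiIso g := (DerivedCategory.isIso_Q_map_iff_quasiIso (φ := g)).1 inferInstance
  let Y : DRing.Cx A := (extC P A).obj G ⊗ W
  let κ := projCxIso (A := A) G W
  let ct : Φ.obj Y ⟶ S.E := κ.hom ≫ (G ◁ ctW) ≫ g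
  have key : κ.inv ≫ evalCx π ct = (G ◁ evalCx π ctW) ≫ tensorHomCx G F J.E ≫ DRing.homCxMap F g := by
    refine HomologicalComplex.hom_ext _ _ fun n => mapBifunctor.hom_ext fun p q h =>
      ModuleCat.hom_ext (TensorProduct.ext' fun (x : G.X p) (w : W.X q) => ?_)
    show ((evalCx π ct).f n).hom ((κ.inv.f n).hom (ιBil G (Φ.obj W) p q n h x w)) =
      ((DRing.homCxMap F g).f n).hom (((tensorHomCx G F J.E).f n).hom
        (((G ◁ evalCx π ctW).f n).hom (ιBil G (Φ.obj W) p q n h x w)))
    rw [projCxIso_inv_ιBil, whiskerLeft_ιBil]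
    refine Cochain.ext _ _ fun a b hab => ModuleCat.hom_ext (LinearMap.ext fun v => ?_)
    show ((((Cochain.ofHom π).comp (Cochain.fromSingleMk (p := 0) (q := n) (orbitMap Y n _) (zero_add n))
        (zero_add n)).comp (Cochain.ofHom ct) (add_zero n)).v a b hab).hom v =
      ((((((tensorHomCx G F J.E).f n).hom (ιBil G (DRing.homCx F J.E) p q n h x
        (((Cochain.ofHom π).comp (Cochain.fromSingleMk (p := 0) (q := q) (orbitMap W q w) (zero_add q))
        (zero_add q)).comp (Cochain.ofHom ctW) (add_zero q)))) : Cochain F (G ⊗ J.E : DRing.Cx P) n).comp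
          (Cochain.ofHom g) (add_zero n)).v a b hab).hom v
    rw [Cochain.comp_zero_cochain_v, Cochain.comp_zero_cochain_v]
    show (Cochain.ofHom ct).v b b (add_zero b) _ = (Cochain.ofHom g).v b b (add_zero b) _
    rw [Cochain.ofHom_v, Cochain.ofHom_v]
    by_cases ha : a = 0
    · subst ha
      obtain rfl : b = n := by omega
      erw [tensorHomCx_apply G F J.E p q b h x _ 0 b q hab (zero_add q) v]
      rw [Cochain.comp_zero_cochain_v, Cochain.zero_cochain_comp_v, Cochain.zero_cochain_comp_v, Cochain.ofHom_v,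
        Cochain.fromSingleMk_v, Cochain.fromSingleMk_v, Cochain.ofHom_v]
      let t : A := ((HomologicalComplex.singleObjXSelf (ComplexShape.up ℤ) 0 (resMod (P := P) A)).hom).hom
        ((π.f 0).hom v)
      show (ct.f b).hom ((t • (show Y.X b from
          ιBil ((extC P A).obj G) W p q b h ((1 : A) ⊗ₜ[P,algebraMap P A] x : (extF P A).obj (G.X p)) w) : Y.X b)) =
        (g.f b).hom (ιBil G J.E p q b h x ((ctW.f q).hom (t • (show W.X q from w))))
      rw [← map_smul, ← projCxIso_inv_ιBil G W p q b h x (t • (show W.X q from w))]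
      show (g.f b).hom (((G ◁ ctW).f b).hom ((κ.hom.f b).hom ((κ.inv.f b).hom _))) = _
      rw [show ∀ z, (κ.hom.f b).hom ((κ.inv.f b).hom z) = z from fun z =>
          congrArg (fun φ => (φ.f b).hom z) κ.inv_hom_id,
        whiskerLeft_ιBil]
    · erw [tensorHomCx_apply G F J.E p q n h x _ a b (a + q) hab rfl v]
      rw [Cochain.comp_zero_cochain_v, Cochain.zero_cochain_comp_v, Cochain.zero_cochain_comp_v, Cochain.ofHom_v,
        Cochain.fromSingleMk_v_eq_zero _ _ _ _ _ ha, Cochain.fromSingleMk_v_eq_zero _ _ _ _ _ ha]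
      simp
      exact map_zero (ct.f b).hom
  have hτ : QuasiIso (tensorHomCx G F J.E) := quasiIso_tensorHomCx hG hF ι hι
  have hev : QuasiIso (evalCx π ct) := by
    haveI := quasiIso_whiskerLeft_of_isKFlat hG _ hγW
    haveI := quasiIso_homCxMap F g hg
    rw [← quasiIso_iff_comp_left κ.inv (evalCx π ct), key]
    infer_instance
  haveI := isIso_Q_of_qis _ ((quasiIso_evalCx_iff π hπ ct).1 hev)
  exact (isCoind_coCx (algebraMap P A) S).of_iso (Iso.refl _)
    (asIso (DerivedCategory.Q.map (coη (algebraMap P A) Y ≫ (coCx (algebraMap P A)).map ct))).symm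

end Groth.Agent.ShriekAlgLib
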