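import Groth.Agent.ShriekAlgLib.Coext
import Groth.Agent.DRingLib.FlatBC
import Mathlib.Algebra.Homology.DerivedCategory.ShortExact
import Mathlib.RingTheory.Flat.Equalizer

/-!
# `RHom(B, -)` for a quotient by a regular element, and sections
-/

set_option autoImplicit false
set_option backward.isDefEq.respectTransparency false
set_option linter.style.haveILetI false

universe u

open CategoryTheory Limits Pretriangulated
open scoped TensorProduct
attribute [local instance] HasDerivedCategory.standard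

noncomputable section

namespace Groth.Agent.ShriekAlgLib

variable {A B : Type u} [CommRing A] [CommRing B] (f : A →+* B)

theorem coε_f_apply (E : DRing.Cx A) (i : ℤ) (g : ((coCx f).obj E).X i) :
    ((coε f E).f i).hom g = ModuleCat.CoextendScalars.equiv f (E.X i) g (1 : B) := rfl

/-- Coextension along a quotient by a regular element is the kernel of multiplication. -/
theorem coε_shortExact (hf : Function.Surjective f) {a : A} (ha : IsSMulRegular A a)
    (hker : RingHom.ker f = Ideal.span {a}) (E : DRing.Cx A) (hE : ∀ n, Injective (E.X n)) :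
    ∃ hw : coε f E ≫ (a • 𝟙 E) = 0, (ShortComplex.mk (coε f E) (a • 𝟙 E) hw).ShortExact := by
  let T : ∀ i, ((coCx f).obj E).X i ≃ₗ[B] ((ModuleCat.restrictScalars f).obj (ModuleCat.of B B) →ₗ[A] E.X i) :=
    fun i => ModuleCat.CoextendScalars.equiv f (E.X i)
  let π : A →ₗ[A] (ModuleCat.restrictScalars f).obj (ModuleCat.of B B) :=
    { toFun := fun r => f r
      map_add' := map_add f
      map_smul' := fun r s => map_mul f r s }
  have hfa : f a = 0 := by
    rw [← RingHom.mem_ker, hker]; exact Ideal.mem_span_singleton_self a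
  have h1 : ∀ i (g : ((coCx f).obj E).X i) (r : A), T i g (π r) = r • T i g (π 1) := fun i g r => by
    rw [← map_smul, ← map_smul, smul_eq_mul, mul_one]
  have he : ∀ i (g : ((coCx f).obj E).X i), ((coε f E).f i).hom g = T i g (π 1) := fun i g => by
    refine (coε_f_apply f E i g).trans (congrArg _ ?_)
    exact (map_one f).symm
  have hw : coε f E ≫ (a • 𝟙 E) = 0 := HomologicalComplex.hom_ext _ _ fun i =>
    ModuleCat.hom_ext (LinearMap.ext fun g => by
      show a • ((coε f E).f i).hom g = 0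
      rw [he, ← h1]
      have : π a = 0 := hfa
      rw [this, map_zero])
  refine ⟨hw, HomologicalComplex.shortExact_of_degreewise_shortExact _ fun i => ?_⟩
  refine ShortComplex.ShortExact.mk' ?_ ?_ ?_
  · rw [ShortComplex.moduleCat_exact_iff]
    intro x hx
    replace hx : a • (x : E.X i) = 0 := hx
    have hπ : Function.Surjective π := hf
    have hle : LinearMap.ker π ≤ LinearMap.ker (LinearMap.toSpanSingleton A (E.X i) x) := fun r hr => by
      have : r ∈ RingHom.ker f := hr
      rw [hker, Ideal.mem_span_singleton] at this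
      obtain ⟨c, rfl⟩ := this
      rw [LinearMap.mem_ker, LinearMap.toSpanSingleton_apply, mul_comm, mul_smul, hx, smul_zero]
    let g : (ModuleCat.restrictScalars f).obj (ModuleCat.of B B) →ₗ[A] E.X i :=
      ((LinearMap.ker π).liftQ _ hle) ∘ₗ (π.quotKerEquivOfSurjective hπ).symm.toLinearMap
    refine ⟨(T i).symm g, ?_⟩
    refine (he i _).trans ?_
    rw [(T i).apply_symm_apply]
    have h2 : (π.quotKerEquivOfSurjective hπ).symm (π 1) = Submodule.Quotient.mk 1 := by
      rw [LinearEquiv.symm_apply_eq]; rfl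
    show (LinearMap.ker π).liftQ _ hle ((π.quotKerEquivOfSurjective hπ).symm (π 1)) = x
    rw [h2, Submodule.liftQ_apply, LinearMap.toSpanSingleton_apply, one_smul]
  · refine (ModuleCat.mono_iff_injective _).2 fun g g' h => ?_
    replace h : ((coε f E).f i).hom g = ((coε f E).f i).hom g' := h
    rw [he, he] at h
    refine (T i).injective (LinearMap.ext fun b => ?_)
    obtain ⟨r, rfl⟩ := hf b
    exact (h1 i g r).trans ((congrArg (r • ·) h).trans (h1 i g' r).symm)
  · refine (ModuleCat.epi_iff_surjective _).2 fun (x : E.X i) => ?_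
    haveI : Module.Injective A (E.X i) := (Module.injective_iff_injective_object A (E.X i)).2 (hE i)
    obtain ⟨h, hh⟩ := Module.Injective.out (LinearMap.mulLeft A a) (fun r s hrs => ha hrs)
      (LinearMap.toSpanSingleton A (E.X i) x)
    refine ⟨h 1, ?_⟩
    show a • h 1 = x
    rw [← map_smul]
    have := hh 1
    simpa using this

/-- The triangle computing `RHom(B, -)` for a quotient by a regular element. -/
theorem exists_coind_triangle (hf : Function.Surjective f) {a : A} (ha : IsSMulRegular A a)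
    (hker : RingHom.ker f = Ideal.span {a}) (K : Dual.D A) :
    ∃ (L : Dual.D B) (K' : Dual.D A) (_ : K' ≅ K) (α : (DRing.restrictD f).obj L ⟶ K')
      (δ : K' ⟶ ((DRing.restrictD f).obj L)⟦(1 : ℤ)⟧),
      IsCoind f K L ∧ Triangle.mk α (a • 𝟙 K') δ ∈ distTriang (Dual.D A) := by
  obtain ⟨S⟩ := nonempty_kIRep K
  obtain ⟨hw, hS⟩ := coε_shortExact f hf ha hker S.E S.inj
  let L := DRing.toD ((coCx f).obj S.E)
  let r : (DRing.restrictD f).obj L ≅ DRing.toD ((DTen.resCx f).obj ((coCx f).obj S.E)) :=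
    (DTen.resFactors f).app ((coCx f).obj S.E)
  let T := DerivedCategory.triangleOfSES hS
  refine ⟨L, DRing.toD S.E, S.iso, r.hom ≫ DerivedCategory.Q.map (coε f S.E),
    DerivedCategory.triangleOfSESδ hS ≫ r.inv⟦(1 : ℤ)⟧', isCoind_coCx f S,
    isomorphic_distinguished _ (DerivedCategory.triangleOfSES_distinguished hS) _
      (Triangle.isoMk _ _ r (Iso.refl _) (Iso.refl _) ?_ ?_ ?_)⟩
  · show (r.hom ≫ DerivedCategory.Q.map (coε f S.E)) ≫ 𝟙 _ = r.hom ≫ DerivedCategory.Q.map (coε f S.E)
    rw [Category.comp_id]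
  · show (a • 𝟙 (DRing.toD S.E)) ≫ 𝟙 _ = 𝟙 _ ≫ DerivedCategory.Q.map (a • 𝟙 S.E)
    rw [Category.comp_id, Category.id_comp, Functor.map_smul, CategoryTheory.Functor.map_id]
  · show (DerivedCategory.triangleOfSESδ hS ≫ r.inv⟦(1 : ℤ)⟧') ≫ r.hom⟦(1 : ℤ)⟧' =
      𝟙 _ ≫ DerivedCategory.triangleOfSESδ hS
    rw [Category.id_comp, Category.assoc, ← Functor.map_comp, Iso.inv_hom_id]
    erw [CategoryTheory.Functor.map_id, Category.comp_id]

section Section

variable {P : Type u} [CommRing P] (ι : P →+* A) (g : A →+* P) (hgι : g.comp ι = RingHom.id P)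

/-- Evaluation at a section, on modules. -/
def evSect : ModuleCat.extendScalars.{u, u, u} ι ⟶ ModuleCat.restrictScalars.{u} g :=
  (Functor.leftUnitor _).inv ≫
    Functor.whiskerRight ((ModuleCat.restrictScalarsId'.{u} (RingHom.id P) rfl).inv ≫
      (ModuleCat.restrictScalarsComp'.{u} ι g (RingHom.id P) hgι.symm).hom) _ ≫
    (Functor.associator _ _ _).hom ≫
    Functor.whiskerLeft _ (ModuleCat.extendRestrictScalarsAdj.{u, u, u} ι).counit ≫
    (Functor.rightUnitor _).hom

theorem evSect_tmul (M : ModuleCat.{u} P) (q : A) (m : M) :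
    letI := ι.toAlgebra
    ((evSect ι g hgι).app M).hom ((q ⊗ₜ[P] m : TensorProduct P A M) : (ModuleCat.extendScalars.{u, u, u} ι).obj M) =
      (g q • m : M) := rfl

variable {ι g} {a : A}
include hgι

theorem evSect_shortExact (hfl : Module.Flat P (Groth.Agent.DTenLib.baseMod ι)) (ha : IsSMulRegular A a)
    (hker : RingHom.ker g = Ideal.span {a}) (K : DRing.Cx P) :
    ∃ (p : (DTen.extCx ι).obj K ⟶ (DTen.resCx g).obj K) (hw : (a • 𝟙 ((DTen.extCx ι).obj K)) ≫ p = 0),
      (ShortComplex.mk (a • 𝟙 ((DTen.extCx ι).obj K)) p hw).ShortExact := by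
  letI := ι.toAlgebra
  let p : (DTen.extCx ι).obj K ⟶ (DTen.resCx g).obj K :=
    (NatTrans.mapHomologicalComplex (evSect ι g hgι) (ComplexShape.up ℤ)).app K
  have hgι' : ∀ x, g (algebraMap P A x) = x := fun x => RingHom.congr_fun hgι x
  let g' : A →ₗ[P] P :=
    { toFun := g
      map_add' := map_add g
      map_smul' := fun x q => by rw [Algebra.smul_def, map_mul, hgι']; rfl }
  have hgs : Function.Surjective g' := fun x => ⟨algebraMap P A x, hgι' x⟩
  have hga : g a = 0 := by rw [← RingHom.mem_ker, hker]; exact Ideal.mem_span_singleton_self a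
  let μ : A →ₗ[P] A := LinearMap.mulLeft P a
  have hex : Function.Exact μ g' := fun q => by
    show g q = 0 ↔ q ∈ Set.range fun r => a * r
    rw [← RingHom.mem_ker, hker, Ideal.mem_span_singleton]
    exact ⟨fun ⟨c, hc⟩ => ⟨c, hc.symm⟩, fun ⟨c, hc⟩ => ⟨c, hc.symm⟩⟩
  have hμ : Function.Injective μ := fun r s h => ha h
  have hinj : ∀ M : ModuleCat.{u} P, Function.Injective (μ.rTensor M) := fun M =>
    (LinearMap.lTensor_inj_iff_rTensor_inj _ _).1
      (LinearMap.lTensor_injective_of_exact_of_flat g' hgs μ hμ hex M)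
  have hsm : ∀ (M : ModuleCat.{u} P) (x : TensorProduct P A M),
      a • (x : (ModuleCat.extendScalars.{u, u, u} ι).obj M) = μ.rTensor M x := fun M x => by
    induction x using TensorProduct.induction_on with
    | zero => exact (smul_zero a).trans (map_zero (μ.rTensor M)).symm
    | tmul q m => rfl
    | add x y hx hy => exact (smul_add a _ _).trans ((congrArg₂ (· + ·) hx hy).trans (map_add (μ.rTensor M) x y).symm)
  have hp : ∀ i (x : TensorProduct P A (K.X i)),
      (p.f i).hom (x : (ModuleCat.extendScalars.{u, u, u} ι).obj (K.X i)) =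
        TensorProduct.lid P (K.X i) (g'.rTensor (K.X i) x) := fun i x => by
    induction x using TensorProduct.induction_on with
    | zero =>
      exact (map_zero (p.f i).hom).trans
        ((congrArg (TensorProduct.lid P (K.X i)) (map_zero (g'.rTensor (K.X i)))).trans (map_zero _)).symm
    | tmul q m =>
      refine (evSect_tmul ι g hgι (K.X i) q m).trans ?_
      rw [LinearMap.rTensor_tmul, TensorProduct.lid_tmul]; rfl
    | add x y hx hy =>
      exact (map_add (p.f i).hom _ _).trans ((congrArg₂ (· + ·) hx hy).trans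
        ((congrArg (TensorProduct.lid P (K.X i)) (map_add (g'.rTensor (K.X i)) x y)).trans (map_add _ _ _)).symm)
  have hw : (a • 𝟙 ((DTen.extCx ι).obj K)) ≫ p = 0 := HomologicalComplex.hom_ext _ _ fun i =>
    ModuleCat.hom_ext (LinearMap.ext fun (x : (ModuleCat.extendScalars.{u, u, u} ι).obj (K.X i)) => by
      show (p.f i).hom (a • x) = 0
      rw [map_smul]
      show g a • (show K.X i from (p.f i).hom x) = (show K.X i from 0)
      rw [hga, zero_smul])
  refine ⟨p, hw, HomologicalComplex.shortExact_of_degreewise_shortExact _ fun i => ?_⟩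
  refine ShortComplex.ShortExact.mk' ?_ ?_ ?_
  · rw [ShortComplex.moduleCat_exact_iff]
    intro (x : TensorProduct P A (K.X i)) hx
    have h2 : g'.rTensor (K.X i) x = 0 := (TensorProduct.lid P (K.X i)).map_eq_zero_iff.1 ((hp i x).symm.trans hx)
    obtain ⟨y, hy⟩ := (rTensor_exact (K.X i) hex hgs x).1 h2
    exact ⟨y, (hsm _ y).trans hy⟩
  · refine (ModuleCat.mono_iff_injective _).2 fun (x y : TensorProduct P A (K.X i)) h => hinj (K.X i) ?_
    exact (hsm _ x).symm.trans (Eq.trans h (hsm _ y))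
  · refine (ModuleCat.epi_iff_surjective _).2 fun (m : K.X i) => ⟨((1 : A) ⊗ₜ[P] m : TensorProduct P A (K.X i)), ?_⟩
    refine (evSect_tmul ι g hgι (K.X i) 1 m).trans ?_
    rw [map_one, one_smul]

end Section

/-- `RHom_A(P, K ⊗_P A)[1] = K` for a section cut out by one regular element. -/
theorem isCoind_section {P : Type u} [CommRing P] (ι : P →+* A) (g : A →+* P) (hgι : g.comp ι = RingHom.id P)
    (hfl : Module.Flat P (Groth.Agent.DTenLib.baseMod ι)) {a : A} (ha : IsSMulRegular A a)
    (hker : RingHom.ker g = Ideal.span {a}) [DRing.HasLBaseChange ι] (K : Dual.D P) :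
    IsCoind g ((DRing.LBaseChange ι).obj K) (K⟦(-1 : ℤ)⟧) := by
  have hgs : Function.Surjective g := fun x => ⟨ι x, RingHom.congr_fun hgι x⟩
  let K₀ := DerivedCategory.Q.objPreimage K
  let eK : DRing.toD K₀ ≅ K := DerivedCategory.Q.objObjPreimageIso K
  let X := DRing.toD ((DTen.extCx ι).obj K₀)
  let eX : (DRing.LBaseChange ι).obj K ≅ X :=
    (DRing.LBaseChange ι).mapIso eK.symm ≪≫ DRingLib.lbcIsoOfFlat ι hfl K₀
  obtain ⟨L, X', eX', α, δ, hL, hT⟩ := exists_coind_triangle g hgs ha hker X
  obtain ⟨p, hw, hS⟩ := evSect_shortExact hgι hfl ha hker K₀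
  have hcomm : (Triangle.mk α (a • 𝟙 X') δ).rotate.mor₁ ≫ eX'.hom =
      eX'.hom ≫ (DerivedCategory.triangleOfSES hS).mor₁ := by
    show (a • 𝟙 X') ≫ eX'.hom = eX'.hom ≫ DerivedCategory.Q.map (a • 𝟙 ((DTen.extCx ι).obj K₀))
    rw [Functor.map_smul, CategoryTheory.Functor.map_id]
    rw [Linear.smul_comp, Linear.comp_smul, Category.id_comp, Category.comp_id]
  let E := isoTriangleOfIso₁₂ _ _ (rot_of_distTriang _ hT) (DerivedCategory.triangleOfSES_distinguished hS)
    eX' eX' hcomm
  let e₃ : ((DRing.restrictD g).obj L)⟦(1 : ℤ)⟧ ≅ DRing.toD ((DTen.resCx g).obj K₀) :=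
    Triangle.π₃.mapIso E
  let e₁ : (DRing.restrictD g).obj (L⟦(1 : ℤ)⟧) ≅ (DRing.restrictD g).obj K :=
    ((DRing.restrictD g).commShiftIso (1 : ℤ)).app L ≪≫ e₃ ≪≫ ((DTen.resFactors g).app K₀).symm ≪≫
      (DRing.restrictD g).mapIso eK
  let back : DRing.restrictD g ⋙ DRing.restrictD ι ≅ 𝟭 (Dual.D P) :=
    resDComp ι g (RingHom.id P) hgι.symm ≪≫ resDId _ rfl
  let e₂ : L⟦(1 : ℤ)⟧ ≅ K := (back.app _).symm ≪≫ (DRing.restrictD ι).mapIso e₁ ≪≫ back.app K
  let e : L ≅ K⟦(-1 : ℤ)⟧ := ((shiftFunctorCompIsoId (Dual.D P) (1 : ℤ) (-1) (add_neg_cancel 1)).app L).symm ≪≫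
    (shiftFunctor (Dual.D P) (-1 : ℤ)).mapIso e₂
  exact hL.of_iso eX.symm e

end Groth.Agent.ShriekAlgLib
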