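import Groth.Agent.ShriekAlgLib.CoindData
import Groth.Agent.DRingLib.ExactPair
import Groth.Agent.DRingLib.TensorPerfect

/-!
# Tensoring Hom complexes out of bounded complexes of finite projective modules
-/

set_option autoImplicit false
set_option backward.isDefEq.respectTransparency false
set_option linter.style.haveILetI false

universe u

open CategoryTheory CategoryTheory.Limits MonoidalCategory CochainComplex CochainComplex.HomComplex
  HomologicalComplex
attribute [local instance] HasDerivedCategory.standard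

noncomputable section

namespace Groth.Agent.ShriekAlgLib

open DRingLib DCohLib

variable {A : Type u} [CommRing A]

/-- A cochain followed by the inclusion of a summand. -/
def tHomFun (G F L : DRing.Cx A) (p i n : ℤ) (h : p + i = n) (g : G.X p) (f : Cochain F L i) :
    Cochain F (G ⊗ L : DRing.Cx A) n :=
  Cochain.mk fun a b hab => f.v a (a + i) rfl ≫ ModuleCat.ofHom (ιBil G L p (a + i) b (by omega) g)

theorem tHomFun_apply (G F L : DRing.Cx A) (p i n : ℤ) (h : p + i = n) (g : G.X p) (f : Cochain F L i)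
    (a b c : ℤ) (hab : a + n = b) (hc : a + i = c) (x : F.X a) :
    ((tHomFun G F L p i n h g f).v a b hab).hom x = ιBil G L p c b (by omega) g ((f.v a c hc).hom x) := by
  subst hc
  simp [tHomFun]

/-- `tHomFun` as a bilinear map. -/
def tHomBil (G F L : DRing.Cx A) (p i n : ℤ) (h : p + i = n) :
    G.X p →ₗ[A] Cochain F L i →ₗ[A] Cochain F (G ⊗ L : DRing.Cx A) n :=
  LinearMap.mk₂ A (tHomFun G F L p i n h)
    (fun g g' f => Cochain.ext _ _ fun a b hab => ModuleCat.hom_ext (LinearMap.ext fun x => by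
      rw [Cochain.add_v, ModuleCat.hom_add, LinearMap.add_apply,
        tHomFun_apply G F L p i n h _ f a b _ hab rfl, tHomFun_apply G F L p i n h _ f a b _ hab rfl,
        tHomFun_apply G F L p i n h _ f a b _ hab rfl, map_add]
      rfl))
    (fun r g f => Cochain.ext _ _ fun a b hab => ModuleCat.hom_ext (LinearMap.ext fun x => by
      rw [Cochain.smul_v, ModuleCat.hom_smul, LinearMap.smul_apply,
        tHomFun_apply G F L p i n h _ f a b _ hab rfl, tHomFun_apply G F L p i n h _ f a b _ hab rfl, map_smul]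
      rfl))
    (fun g f f' => Cochain.ext _ _ fun a b hab => ModuleCat.hom_ext (LinearMap.ext fun x => by
      rw [Cochain.add_v, ModuleCat.hom_add, LinearMap.add_apply,
        tHomFun_apply G F L p i n h g _ a b _ hab rfl, tHomFun_apply G F L p i n h g _ a b _ hab rfl,
        tHomFun_apply G F L p i n h g _ a b _ hab rfl, Cochain.add_v, ModuleCat.hom_add, LinearMap.add_apply,
        map_add]))
    (fun r g f => Cochain.ext _ _ fun a b hab => ModuleCat.hom_ext (LinearMap.ext fun x => by
      rw [Cochain.smul_v, ModuleCat.hom_smul, LinearMap.smul_apply,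
        tHomFun_apply G F L p i n h g _ a b _ hab rfl, tHomFun_apply G F L p i n h g _ a b _ hab rfl,
        Cochain.smul_v, ModuleCat.hom_smul, LinearMap.smul_apply, map_smul]))

/-- The components. -/
def tHomTerm (G F L : DRing.Cx A) (n : ℤ) :
    (G ⊗ DRing.homCx F L : DRing.Cx A).X n ⟶ (DRing.homCx F (G ⊗ L : DRing.Cx A)).X n :=
  mapBifunctorDesc fun p i h => ModuleCat.ofHom (TensorProduct.lift (tHomBil G F L p i n h))

theorem tHomTerm_ιBil (G F L : DRing.Cx A) (p i n : ℤ) (h : p + i = n) (g : G.X p) (f : Cochain F L i) :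
    (tHomTerm G F L n).hom (ιBil G (DRing.homCx F L) p i n h g f) = tHomFun G F L p i n h g f := by
  have h1 : ιTensorObj G (DRing.homCx F L) p i n h ≫ tHomTerm G F L n =
      ModuleCat.ofHom (TensorProduct.lift (tHomBil G F L p i n h)) := by
    unfold tHomTerm
    exact HomologicalComplex.ι_mapBifunctorDesc (K₁ := G) (K₂ := DRing.homCx F L)
      (F := curriedTensor (ModuleCat.{u} A)) _ p i h
  exact congrArg (fun φ => φ.hom (g ⊗ₜ[A] f)) h1

/-- `G ⊗ Hom(F, L) ⟶ Hom(F, G ⊗ L)`. -/
def tensorHomCx (G F L : DRing.Cx A) :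
    (G ⊗ DRing.homCx F L : DRing.Cx A) ⟶ DRing.homCx F (G ⊗ L : DRing.Cx A) where
  f n := tHomTerm G F L n
  comm' n n' hn := by
    obtain rfl : n + 1 = n' := hn
    refine mapBifunctor.hom_ext fun p i h => ModuleCat.hom_ext (TensorProduct.ext' fun (g : G.X p) (f : Cochain F L i) => ?_)
    have h' : p + i = n := h
    show δ n (n + 1) ((tHomTerm G F L n).hom (ιBil G (DRing.homCx F L) p i n h' g f)) =
      (tHomTerm G F L (n + 1)).hom (((G ⊗ DRing.homCx F L : DRing.Cx A).d n (n + 1)).hom
        (ιBil G (DRing.homCx F L) p i n h' g f))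
    rw [tensor_d_ιBil p i n h', map_add, map_zsmul, tHomTerm_ιBil G F L p i n h', tHomTerm_ιBil, tHomTerm_ιBil]
    refine Cochain.ext _ _ fun a b hab => ModuleCat.hom_ext (LinearMap.ext fun x => ?_)
    obtain ⟨b, rfl⟩ : ∃ b', b = b' + 1 := ⟨b - 1, by omega⟩
    rw [δ_v n (n + 1) rfl _ a (b + 1) hab b (a + 1) (by omega) rfl, Cochain.add_v, Cochain.smul_v]
    simp only [Units.smul_def, ModuleCat.hom_add, LinearMap.add_apply, ModuleCat.hom_comp, LinearMap.comp_apply,
      ModuleCat.hom_zsmul, LinearMap.smul_apply]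
    rw [tHomFun_apply G F L p i n h' g f a b (a + i) _ rfl,
      tHomFun_apply G F L p i n h' g f (a + 1) (b + 1) (a + i + 1) _ (by omega),
      tHomFun_apply G F L (p + 1) i (n + 1) _ _ f a (b + 1) (a + i) _ rfl,
      tHomFun_apply G F L p (i + 1) (n + 1) _ g _ a (b + 1) (a + i + 1) _ (by omega)]
    rw [tensor_d_ιBil]
    show _ = _ + ((p.negOnePow : ℤˣ) : ℤ) • ιBil G L p (a + i + 1) (b + 1) _ g (((δ i (i + 1) f).v a (a + i + 1) _).hom x)
    rw [δ_v i (i + 1) rfl f a (a + i + 1) (by omega) (a + i) (a + 1) (by omega) rfl]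
    simp only [Units.smul_def, ModuleCat.hom_add, LinearMap.add_apply, ModuleCat.hom_comp, LinearMap.comp_apply,
      ModuleCat.hom_zsmul, LinearMap.smul_apply, map_add, map_zsmul]
    have hn : (n + 1).negOnePow = p.negOnePow * (i + 1).negOnePow := by
      rw [← Int.negOnePow_add]
      congr 1
      omega
    rw [hn, Units.val_mul, smul_add, mul_smul]
    abel

theorem tensorHomCx_apply (G F L : DRing.Cx A) (p i n : ℤ) (h : p + i = n) (g : G.X p) (f : Cochain F L i)
    (a b c : ℤ) (hab : a + n = b) (hc : a + i = c) (x : F.X a) :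
    ((((tensorHomCx G F L).f n).hom (ιBil G (DRing.homCx F L) p i n h g f) : Cochain F (G ⊗ L : DRing.Cx A) n).v
      a b hab).hom x = ιBil G L p c b (by omega) g ((f.v a c hc).hom x) := by
  rw [show ((tensorHomCx G F L).f n).hom (ιBil G (DRing.homCx F L) p i n h g f) =
    tHomFun G F L p i n h g f from tHomTerm_ιBil G F L p i n h g f]
  exact tHomFun_apply G F L p i n h g f a b c hab hc x

theorem tensorHomCx_naturality (G F : DRing.Cx A) {L L' : DRing.Cx A} (φ : L ⟶ L') :
    (G ◁ DRing.homCxMap F φ) ≫ tensorHomCx G F L' = tensorHomCx G F L ≫ DRing.homCxMap F (G ◁ φ) := by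
  refine HomologicalComplex.hom_ext _ _ fun n => mapBifunctor.hom_ext fun p i h =>
    ModuleCat.hom_ext (TensorProduct.ext' fun (g : G.X p) (f : Cochain F L i) => ?_)
  show ((tensorHomCx G F L').f n).hom (((G ◁ DRing.homCxMap F φ).f n).hom (ιBil G (DRing.homCx F L) p i n h g f)) =
    ((DRing.homCxMap F (G ◁ φ)).f n).hom (((tensorHomCx G F L).f n).hom (ιBil G (DRing.homCx F L) p i n h g f))
  rw [whiskerLeft_ιBil]
  refine Cochain.ext _ _ fun a b hab => ModuleCat.hom_ext (LinearMap.ext fun x => ?_)
  show ((((tensorHomCx G F L').f n).hom (ιBil G (DRing.homCx F L') p i n h g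
      (f.comp (Cochain.ofHom φ) (add_zero i))) : Cochain F (G ⊗ L' : DRing.Cx A) n).v a b hab).hom x =
    (((((tensorHomCx G F L).f n).hom (ιBil G (DRing.homCx F L) p i n h g f) : Cochain F (G ⊗ L : DRing.Cx A) n).comp
      (Cochain.ofHom (G ◁ φ)) (add_zero n)).v a b hab).hom x
  rw [tensorHomCx_apply G F L' p i n h g _ a b (a + i) hab rfl, Cochain.comp_zero_cochain_v,
    Cochain.comp_zero_cochain_v, Cochain.ofHom_v, Cochain.ofHom_v]
  show _ = ((G ◁ φ).f b).hom (((((tensorHomCx G F L).f n).hom (ιBil G (DRing.homCx F L) p i n h g f) :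
    Cochain F (G ⊗ L : DRing.Cx A) n).v a b hab).hom x)
  rw [tensorHomCx_apply G F L p i n h g f a b (a + i) hab rfl, whiskerLeft_ιBil]
  rfl

/-- The generator of the unit complex. -/
def oneGen : (oneCx A).X 0 :=
  (HomologicalComplex.singleObjXSelf (ComplexShape.up ℤ) 0 (ModuleCat.of A A)).inv.hom (1 : A)

/-- The coordinate on the unit complex. -/
def oneCoord : (oneCx A).X 0 →ₗ[A] A :=
  (HomologicalComplex.singleObjXSelf (ComplexShape.up ℤ) 0 (ModuleCat.of A A)).hom.hom

theorem oneCoord_smul (u : (oneCx A).X 0) : oneCoord u • oneGen = u := by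
  show (HomologicalComplex.singleObjXSelf (ComplexShape.up ℤ) 0 (ModuleCat.of A A)).hom.hom u •
    (HomologicalComplex.singleObjXSelf (ComplexShape.up ℤ) 0 (ModuleCat.of A A)).inv.hom (1 : A) = u
  rw [← map_smul, smul_eq_mul, mul_one]
  exact congr($((HomologicalComplex.singleObjXSelf (ComplexShape.up ℤ) 0 (ModuleCat.of A A)).hom_inv_id).hom u)

theorem oneCoord_gen : oneCoord (oneGen : (oneCx A).X 0) = (1 : A) :=
  congr($((HomologicalComplex.singleObjXSelf (ComplexShape.up ℤ) 0 (ModuleCat.of A A)).inv_hom_id).hom (1 : A))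

theorem oneCx_eq_zero {q : ℤ} (hq : q ≠ 0) (u : (oneCx A).X q) : u = 0 := by
  haveI : Subsingleton ((oneCx A).X q) := ModuleCat.subsingleton_of_isZero
    (HomologicalComplex.isZero_single_obj_X (ComplexShape.up ℤ) 0 (ModuleCat.of A A) q hq)
  exact Subsingleton.elim _ _

theorem cochain_sum_v {ι : Type*} (s : Finset ι) {K L : DRing.Cx A} {n : ℤ} (z : ι → Cochain K L n) (a b : ℤ)
    (h : a + n = b) : (∑ i ∈ s, z i).v a b h = ∑ i ∈ s, (z i).v a b h := by
  classical
  induction s using Finset.induction_on with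
  | empty => rw [Finset.sum_empty, Finset.sum_empty, Cochain.zero_v]
  | insert i s hi ih => rw [Finset.sum_insert hi, Finset.sum_insert hi, Cochain.add_v, ih]

/-- The bilinear coordinate. -/
def coordBil (G : DRing.Cx A) (n : ℤ) : G.X n →ₗ[A] (oneCx A).X 0 →ₗ[A] G.X n :=
  LinearMap.mk₂ A (fun g u => oneCoord u • g) (fun g g' u => smul_add _ g g') (fun r g u => smul_comm _ r g)
    (fun g u u' => by rw [map_add, add_smul]) (fun r g u => by rw [map_smul, smul_assoc])

/-- `G ⊗ A[0] ≅ G`. -/
def rightUnitDesc (G : DRing.Cx A) (n p q : ℤ) (h : p + q = n) : G.X p ⊗ (oneCx A).X q ⟶ G.X n :=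
  if hp : p = n then by
    subst hp
    exact if hq : q = 0 then by
      subst hq
      exact ModuleCat.ofHom (TensorProduct.lift (coordBil G p))
    else 0
  else 0

/-- The coordinate map. -/
def rightUnitTerm (G : DRing.Cx A) (n : ℤ) : (G ⊗ oneCx A : DRing.Cx A).X n ⟶ G.X n :=
  mapBifunctorDesc fun p q h => rightUnitDesc G n p q h

theorem rightUnitTerm_ιBil (G : DRing.Cx A) (n : ℤ) (g : G.X n) (u : (oneCx A).X 0) :
    (rightUnitTerm G n).hom (ιBil G (oneCx A) n 0 n (add_zero n) g u) = oneCoord u • g := by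
  have h1 : ιTensorObj G (oneCx A) n 0 n (add_zero n) ≫ rightUnitTerm G n = rightUnitDesc G n n 0 (add_zero n) := by
    unfold rightUnitTerm
    exact HomologicalComplex.ι_mapBifunctorDesc (K₁ := G) (K₂ := oneCx A)
      (F := curriedTensor (ModuleCat.{u} A)) _ n 0 (add_zero n)
  refine (congrArg (fun φ => φ.hom (g ⊗ₜ[A] u)) h1).trans ?_
  simp [rightUnitDesc, coordBil]
  rfl

/-- The map `G ⟶ G ⊗ A[0]`. -/
def toTensorOne (G : DRing.Cx A) : G ⟶ (G ⊗ oneCx A : DRing.Cx A) where
  f n := ModuleCat.ofHom ((ιBil G (oneCx A) n 0 n (add_zero n)).flip oneGen)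
  comm' n n' hn := by
    obtain rfl : n + 1 = n' := hn
    refine ModuleCat.hom_ext (LinearMap.ext fun g => ?_)
    show ((G ⊗ oneCx A : DRing.Cx A).d n (n + 1)).hom (ιBil G (oneCx A) n 0 n (add_zero n) g oneGen) =
      ιBil G (oneCx A) (n + 1) 0 (n + 1) (add_zero _) ((G.d n (n + 1)).hom g) oneGen
    rw [tensor_d_ιBil]
    rw [oneCx_eq_zero (by omega) (((oneCx A).d 0 (0 + 1)).hom oneGen), map_zero, smul_zero, add_zero]

theorem toTensorOne_rightUnitTerm (G : DRing.Cx A) (n : ℤ) (w : (G ⊗ oneCx A : DRing.Cx A).X n) :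
    ((toTensorOne G).f n).hom ((rightUnitTerm G n).hom w) = w := by
  induction w using ιBil_span with
  | h0 => rw [map_zero, map_zero]
  | hadd x y hx hy => rw [map_add, map_add, hx, hy]
  | hsmul a x hx => rw [map_smul, map_smul, hx]
  | h p q hpq x y =>
    by_cases hq : q = 0
    · subst hq
      obtain rfl : p = n := by omega
      rw [rightUnitTerm_ιBil]
      show ιBil G (oneCx A) p 0 p _ (oneCoord y • x) oneGen = ιBil G (oneCx A) p 0 p _ x y
      rw [LinearMap.map_smul₂, ← map_smul, oneCoord_smul]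
    · rw [oneCx_eq_zero hq y, map_zero, map_zero, map_zero]

instance isIso_toTensorOne (G : DRing.Cx A) : IsIso (toTensorOne G) := by
  haveI : ∀ n, IsIso ((toTensorOne G).f n) := fun n => by
    rw [ConcreteCategory.isIso_iff_bijective]
    refine Function.bijective_iff_has_inverse.2 ⟨fun w => (rightUnitTerm G n).hom w, fun (g : G.X n) => ?_,
      toTensorOne_rightUnitTerm G n⟩
    show (rightUnitTerm G n).hom (ιBil G (oneCx A) n 0 n (add_zero n) g oneGen) = g
    rw [rightUnitTerm_ιBil, oneCoord_gen, one_smul]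
  exact HomologicalComplex.Hom.isIso_of_components _

theorem isIso_tensorHomCx_one (G F : DRing.Cx A) (hF : Bdd FProj F) :
    IsIso (tensorHomCx G F (oneCx A)) := by
  classical
  obtain ⟨⟨lo, hi, hv⟩, hp⟩ := hF
  have hb : ∀ a, ∃ (r : ℕ) (e : Fin r → F.X a) (c : Fin r → Module.Dual A (F.X a)),
      ∀ x, ∑ k, c k x • e k = x := fun a => by
    haveI := (hp a).1
    haveI := (hp a).2
    obtain ⟨r, f, g, -, -, hfg⟩ := Module.Finite.exists_comp_eq_id_of_projective A (F.X a)
    refine ⟨r, fun k => f (Pi.single k 1), fun k => LinearMap.proj k ∘ₗ g, fun x => ?_⟩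
    conv_rhs => rw [← LinearMap.id_apply (R := A) x, ← hfg, LinearMap.comp_apply, pi_eq_sum_univ' (g x), map_sum]
    exact Finset.sum_congr rfl fun k _ => (map_smul f _ _).symm
  choose r e c hec using hb
  let φ : ∀ a, Fin (r a) → Cochain F (oneCx A) (-a) := fun a k => (dualE (add_neg_cancel a)).symm (c a k)
  have hφ : ∀ a k (x : F.X a), ((φ a k).v a 0 (add_neg_cancel a)).hom x = c a k x • oneGen := fun a k x => by
    rw [← oneCoord_smul (((φ a k).v a 0 (add_neg_cancel a)).hom x)]
    congr 1
    exact congr($((dualE (P := F) (add_neg_cancel a)).apply_symm_apply (c a k)) x)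
  haveI : ∀ n, IsIso ((tensorHomCx G F (oneCx A)).f n) := fun n => by
    rw [ConcreteCategory.isIso_iff_bijective]
    let σ : Cochain F (G ⊗ oneCx A : DRing.Cx A) n →ₗ[A] (G ⊗ DRing.homCx F (oneCx A) : DRing.Cx A).X n :=
      ∑ a ∈ Finset.Icc lo hi, ∑ k, (((ιBil G (DRing.homCx F (oneCx A)) (a + n) (-a) n (by omega)).flip (φ a k)).comp
        (rightUnitTerm G (a + n)).hom).comp
          ({ toFun := fun f => (f.v a (a + n) rfl).hom (e a k)
             map_add' := fun f f' => by simp
             map_smul' := fun t f => by simp } :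
            Cochain F (G ⊗ oneCx A : DRing.Cx A) n →ₗ[A] (G ⊗ oneCx A : DRing.Cx A).X (a + n))
    have hσ : ∀ f, σ f = ∑ a ∈ Finset.Icc lo hi, ∑ k, ιBil G (DRing.homCx F (oneCx A)) (a + n) (-a) n (by omega)
        ((rightUnitTerm G (a + n)).hom ((f.v a (a + n) rfl).hom (e a k))) (φ a k) := fun f => by
      simp [σ]
    have hzero : ∀ a, a ∉ Finset.Icc lo hi → ∀ x : F.X a, x = 0 := fun a ha x => by
      haveI := ModuleCat.subsingleton_of_isZero (hv a (by simp only [Finset.mem_Icc, not_and_or, not_le] at ha; exact ha))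
      exact Subsingleton.elim _ _
    refine Function.bijective_iff_has_inverse.2 ⟨σ, fun w => ?_, fun (f : Cochain F (G ⊗ oneCx A : DRing.Cx A) n) => ?_⟩
    · induction w using ιBil_span with
      | h0 => rw [map_zero, map_zero]
      | hadd x y hx hy => rw [map_add, map_add, hx, hy]
      | hsmul t x hx => rw [map_smul, map_smul, hx]
      | h p i hpi g f =>
        obtain ⟨a₀, rfl⟩ : ∃ a, i = -a := ⟨-i, by omega⟩
        rw [hσ, Finset.sum_eq_single a₀]
        · let a := a₀
          obtain rfl : p = a₀ + n := by omega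
          have hval : ∀ k, (rightUnitTerm G (a + n)).hom ((((((tensorHomCx G F (oneCx A)).f n).hom
              (ιBil G (DRing.homCx F (oneCx A)) (a + n) (-a) n hpi g f)) :
                Cochain F (G ⊗ oneCx A : DRing.Cx A) n).v a (a + n) rfl).hom (e a k)) =
              oneCoord ((Cochain.v (show Cochain F (oneCx A) (-a) from f) a 0 (add_neg_cancel a)).hom (e a k)) • g :=
            fun k => by
              rw [tensorHomCx_apply G F (oneCx A) (a + n) (-a) n hpi g f a (a + n) 0 rfl (add_neg_cancel a),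
                rightUnitTerm_ιBil]
          refine (Finset.sum_congr rfl fun k _ => by rw [hval k, LinearMap.map_smul₂, ← map_smul]).trans ?_
          rw [← map_sum]
          congr 1
          refine Cochain.ext _ _ fun a' b hab => ?_
          show (∑ k, oneCoord _ • φ a k : Cochain F (oneCx A) (-a)).v a' b hab = _
          by_cases hb0 : b = 0
          · subst hb0
            obtain rfl : a' = a := by omega
            refine ModuleCat.hom_ext (LinearMap.ext fun x => ?_)
            rw [show (∑ k, oneCoord ((Cochain.v (show Cochain F (oneCx A) (-a') from f) a' 0 hab).hom (e a' k)) • φ a' k :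
              Cochain F (oneCx A) (-a')).v a' 0 hab = ∑ k, oneCoord ((Cochain.v (show Cochain F (oneCx A) (-a') from f) a' 0 hab).hom (e a' k)) • (φ a' k).v a' 0 hab from ?_]
            · rw [ModuleCat.hom_sum, LinearMap.sum_apply]
              conv_rhs => rw [← hec a' x, map_sum]
              refine Finset.sum_congr rfl fun k _ => ?_
              rw [ModuleCat.hom_smul, LinearMap.smul_apply, hφ, map_smul, smul_comm, oneCoord_smul]
            · exact cochain_sum_v _ _ _ _ _
          · exact (HomologicalComplex.isZero_single_obj_X (ComplexShape.up ℤ) 0 (ModuleCat.of A A) b hb0).eq_of_tgt _ _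
        · intro a _ ha
          refine Finset.sum_eq_zero fun k _ => ?_
          rw [tensorHomCx_apply G F (oneCx A) p (-a₀) n hpi g f a (a + n) (a + -a₀) rfl rfl]
          rw [oneCx_eq_zero (by omega) ((Cochain.v (show Cochain F (oneCx A) (-a₀) from f) a (a + -a₀) rfl).hom (e a k)),
            map_zero, map_zero, map_zero, LinearMap.zero_apply]
        · intro ha
          refine Finset.sum_eq_zero fun k _ => ?_
          rw [hzero a₀ ha (e a₀ k), map_zero, map_zero, map_zero, LinearMap.zero_apply]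
    · refine Cochain.ext _ _ fun a b hab => ModuleCat.hom_ext (LinearMap.ext fun x => ?_)
      subst hab
      rw [hσ, map_sum]
      simp only [map_sum]
      rw [show (∑ a' ∈ Finset.Icc lo hi, ∑ k, ((tensorHomCx G F (oneCx A)).f n).hom
          (ιBil G (DRing.homCx F (oneCx A)) (a' + n) (-a') n (by omega)
            ((rightUnitTerm G (a' + n)).hom ((f.v a' (a' + n) rfl).hom (e a' k))) (φ a' k)) :
          Cochain F (G ⊗ oneCx A : DRing.Cx A) n).v a (a + n) rfl =
        ∑ a' ∈ Finset.Icc lo hi, ∑ k, ((((tensorHomCx G F (oneCx A)).f n).hom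
          (ιBil G (DRing.homCx F (oneCx A)) (a' + n) (-a') n (by omega)
            ((rightUnitTerm G (a' + n)).hom ((f.v a' (a' + n) rfl).hom (e a' k))) (φ a' k))) :
          Cochain F (G ⊗ oneCx A : DRing.Cx A) n).v a (a + n) rfl from by
        exact (cochain_sum_v _ _ _ _ _).trans (Finset.sum_congr rfl fun _ _ => cochain_sum_v _ _ _ _ _)]
      simp only [ModuleCat.hom_sum, LinearMap.sum_apply]
      by_cases ha : a ∈ Finset.Icc lo hi
      · rw [Finset.sum_eq_single_of_mem a ha]
        · conv_rhs => rw [← hec a x, map_sum]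
          refine Finset.sum_congr rfl fun k _ => ?_
          rw [tensorHomCx_apply G F (oneCx A) (a + n) (-a) n _ _ (φ a k) a (a + n) 0 rfl (add_neg_cancel a), hφ,
            map_smul, map_smul]
          congr 1
          exact toTensorOne_rightUnitTerm G (a + n) _
        · intro a' _ hne
          refine Finset.sum_eq_zero fun k _ => ?_
          rw [tensorHomCx_apply G F (oneCx A) (a' + n) (-a') n _ _ (φ a' k) a (a + n) (a + -a') rfl rfl]
          rw [oneCx_eq_zero (by omega) (((φ a' k).v a (a + -a') rfl).hom x), map_zero]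
      · rw [hzero a ha x, map_zero]
        simp
  exact HomologicalComplex.Hom.isIso_of_components _

theorem quasiIso_whiskerLeft_of_isKFlat {G : DRing.Cx A} (hG : DRing.IsKFlat A G) {L L' : DRing.Cx A}
    (f : L ⟶ L') (hf : QuasiIso f) : QuasiIso (G ◁ f) := by
  haveI := hf
  haveI := DTenLib.quasiIso_whiskerRight f hG
  have h : Arrow.mk (G ◁ f) ≅ Arrow.mk (f ▷ G) :=
    Arrow.isoMk (DTen.braidCx G L) (DTen.braidCx G L') (by
      have := DTen.braidCx_naturality (𝟙 G) f
      rw [tensorHom_id, id_tensorHom] at this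
      exact this.symm)
  exact (quasiIso_iff_of_arrow_mk_iso _ _ h).2 inferInstance

theorem quasiIso_tensorHomCx {G F : DRing.Cx A} (hG : DRing.IsKFlat A G) (hF : Bdd FProj F) {J : DRing.Cx A}
    (ι : oneCx A ⟶ J) (hι : QuasiIso ι) : QuasiIso (tensorHomCx G F J) := by
  haveI := hF.isKProjective projClass_fProj
  haveI := isIso_tensorHomCx_one G F hF
  haveI := isIso_Q_of_qis _ (quasiIso_whiskerLeft_of_isKFlat hG _ (quasiIso_homCxMap F ι hι))
  haveI := isIso_Q_of_qis _ (quasiIso_homCxMap F (G ◁ ι) (quasiIso_whiskerLeft_of_isKFlat hG ι hι))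
  have h := congrArg DerivedCategory.Q.map (tensorHomCx_naturality G F ι)
  rw [Functor.map_comp, Functor.map_comp] at h
  haveI : IsIso (DerivedCategory.Q.map (G ◁ DRing.homCxMap F ι) ≫ DerivedCategory.Q.map (tensorHomCx G F J)) := by
    rw [h]; infer_instance
  exact (DerivedCategory.isIso_Q_map_iff_quasiIso (φ := tensorHomCx G F J)).1
    (IsIso.of_isIso_comp_left (DerivedCategory.Q.map (G ◁ DRing.homCxMap F ι)) _)

end Groth.Agent.ShriekAlgLib
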