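import Groth.Agent.ShriekAlgLib.GradeTensor
import Groth.Agent.ShriekAlgLib.RelDualizing
import Groth.Agent.ShriekAlgLib.ResCoind

/-!
# The tor amplitude of the relative dualizing complex
-/

set_option autoImplicit false
set_option linter.style.haveILetI false
set_option maxRecDepth 4000

universe u

open CategoryTheory CategoryTheory.Limits CategoryTheory.MonoidalCategory AlgebraicGeometry TensorProduct
attribute [local instance] HasDerivedCategory.standard

noncomputable section

namespace Groth.Agent.ShriekAlgLib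

open DRingLib DCohLib

set_option backward.isDefEq.respectTransparency false in
theorem subsingleton_hom_inD_tensor (R A : Type u) [CommRing R] [CommRing A] [IsNoetherianRing R] [Algebra R A]
    (n : ℕ) (ψ : MvPolynomial (Fin n) R →ₐ[R] A) (hψ : Function.Surjective ψ) (d : ℕ)
    (hd : ∀ q : PrimeSpectrum A,
      FlatMor.fibreDimAt (Spec.map (CommRingCat.ofHom (algebraMap R A))) q ≤ (d : WithBot ℕ∞))
    (M : Type u) [AddCommGroup M] [Module R M] [Module.Finite R M] (j : ℤ) (hj : j < (n - d : ℕ)) :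
    Subsingleton ((DRing.restrictD ψ.toRingHom).obj (Dual.inD A A) ⟶
      (Dual.inD (MvPolynomial (Fin n) R) (ModuleCat.of (MvPolynomial (Fin n) R) (MvPolynomial (Fin n) R ⊗[R] M)))⟦j⟧) := by
  let P := MvPolynomial (Fin n) R
  haveI : Algebra.FiniteType R A := Algebra.FiniteType.of_surjective ψ hψ
  let N := ModuleCat.of P (P ⊗[R] M)
  let I := RingHom.ker ψ.toRingHom
  obtain ⟨r⟩ := nonempty_restrictD_inD ψ.toRingHom (ModuleCat.of A A)
  let A' := (ModuleCat.restrictScalars.{u} ψ.toRingHom).obj (ModuleCat.of A A)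
  have hdepth : ((n - d : ℕ) : ℕ∞) ≤ LocCoh.idealDepth I (P ⊗[R] M) := by
    refine (QGorLib.le_idealDepth_iff_forall (n - d)).2 fun p hp => ?_
    refine le_depth_presentation_tensor R A n ψ hψ ⟨p.asIdeal.map ψ.toRingHom, Ideal.map_isPrime_of_surjective hψ hp⟩ d
      (hd _) M p.asIdeal ?_
    show p.asIdeal = (p.asIdeal.map ψ.toRingHom).comap ψ.toRingHom
    rw [Ideal.comap_map_of_surjective ψ.toRingHom hψ, ← RingHom.ker_eq_comap_bot]
    exact (sup_eq_left.2 hp).symm
  obtain ⟨rs, hl, hm, hw⟩ := exists_isWeaklyRegular_of_le_idealDepth I _ _ hdepth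
  suffices h : Subsingleton (Dual.inD P A' ⟶ (Dual.inD P N)⟦j⟧) from r.homFromEquiv.subsingleton_congr.2 h
  by_cases h0 : 0 ≤ j
  · obtain ⟨i, rfl⟩ := Int.eq_ofNat_of_zero_le h0
    haveI := LocCohLib.subsingleton_ext_of_isWeaklyRegular I N A' rs hw hm 1
      (fun a ha x => by
        rw [pow_one] at ha
        show ψ a * (show A from x) = 0
        rw [show ψ a = 0 from ha, zero_mul]) i (by omega)
    exact (Abelian.Ext.homEquiv (n := i) (X := A') (Y := N)).symm.injective.subsingleton
  · refine subsingleton_of_forall_eq 0 fun u => ?_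
    haveI : DerivedCategory.IsLE (Dual.inD P A') 0 :=
      inferInstanceAs (((DerivedCategory.singleFunctor (ModuleCat.{u} P) 0).obj _).IsLE 0)
    haveI : (Dual.inD P N).IsGE 0 :=
      inferInstanceAs (((DerivedCategory.singleFunctor (ModuleCat.{u} P) 0).obj _).IsGE 0)
    exact DerivedCategory.TStructure.t.zero_of_isLE_of_isGE u 0 (-j) (by omega) inferInstance
      (DerivedCategory.TStructure.t.isGE_shift (Dual.inD P N) 0 j (-j) (by omega))

set_option backward.isDefEq.respectTransparency false in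
/-- The dual of a projective resolution of `A`, tensored over `R`, is exact below the codimension. -/
theorem exists_dual_amp (R A : Type u) [CommRing R] [CommRing A] [IsNoetherianRing R] [Algebra R A]
    (n : ℕ) (ψ : MvPolynomial (Fin n) R →ₐ[R] A) (hψ : Function.Surjective ψ) (d : ℕ)
    (hd : ∀ q : PrimeSpectrum A,
      FlatMor.fibreDimAt (Spec.map (CommRingCat.ofHom (algebraMap R A))) q ≤ (d : WithBot ℕ∞))
    (F : DRing.Cx (MvPolynomial (Fin n) R)) (hF : ∀ i, FProj (F.X i))
    (hFb : DRing.VanishesOutside F (-(n : ℤ)) 0)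
    (eF : DRing.toD F ≅ (DRing.restrictD ψ.toRingHom).obj (Dual.inD A A)) :
    DRing.HasTorAmplitudeIn R ((n - d : ℕ) : ℤ) n
      ((DRing.restrictD (algebraMap R (MvPolynomial (Fin n) R))).obj (DRing.toD (dualCx F))) := by
  let P := MvPolynomial (Fin n) R
  let φ := algebraMap R P
  let c := n - d
  let N : DRing.Cx R := (DTen.resCx φ).obj (dualCx F)
  haveI : F.IsKProjective := isKProjective_of_vanishesAbove (b := 0) (fun i hi => hFb i (Or.inr hi)) fun i => (hF i).2
  have hzero : ∀ i, (i < 0 ∨ (n : ℤ) < i) → IsZero (N.X i) := fun i hi => by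
    refine (ModuleCat.restrictScalars.{u} φ).map_isZero ?_
    haveI : Subsingleton (F.X (-i)) := ModuleCat.subsingleton_of_isZero (hFb (-i) (by omega))
    haveI : Subsingleton (Module.Dual P (F.X (-i))) :=
      ⟨fun f g => LinearMap.ext fun x => by rw [Subsingleton.elim x 0, map_zero, map_zero]⟩
    haveI : Subsingleton (CochainComplex.HomComplex.Cochain F (oneCx P) i) :=
      (dualE (neg_add_cancel i)).toEquiv.subsingleton
    exact ModuleCat.isZero_of_subsingleton (ModuleCat.of P (CochainComplex.HomComplex.Cochain F (oneCx P) i))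
  have hb : DRing.VanishesAbove N (n : ℤ) := fun i hi => hzero i (Or.inr hi)
  let ev : ∀ i : ℤ, N.X i ≃ₗ[R] Module.Dual P (F.X (-i)) := fun i =>
    { (dualE (P := F) (neg_add_cancel i)).toAddEquiv with
      map_smul' := fun r z => by
        refine ((dualE (P := F) (neg_add_cancel i)).map_smul (φ r) z).trans ?_
        exact algebraMap_smul P r _ }
  have hflat : ∀ i, Module.Flat R (Module.Dual P (F.X (-i))) := fun i => by
    haveI := (hF (-i)).1
    haveI := (hF (-i)).2
    haveI : Module.Projective P (Module.Dual P (F.X (-i))) := inferInstance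
    exact Module.Flat.trans R P _
  have hNflat : DRing.TermwiseFlat N := fun i => by
    haveI := hflat i
    exact Module.Flat.of_linearEquiv (ev i)
  have key : ∀ (M : ModuleCat.{u} R) (i : ℤ), i < (c : ℤ) → ((tensM M).obj N).ExactAt i := by
    intro M i hi
    rw [HomologicalComplex.exactAt_iff' _ (i - 1) i (i + 1) (by simp) (by simp),
      ShortComplex.ShortExact.moduleCat_exact_iff_function_exact]
    let gg : ∀ (a b : ℤ), a + 1 = b → Module.Dual P (F.X (-a)) →ₗ[R] Module.Dual P (F.X (-b)) := fun a b _ =>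
      (ev b).toLinearMap ∘ₗ (N.d a b).hom ∘ₗ (ev a).symm.toLinearMap
    have hgg : ∀ (a b : ℤ) (hab : a + 1 = b) (ξ : Module.Dual P (F.X (-a))) (x : F.X (-b)),
        gg a b hab ξ x = ((b.negOnePow : ℤˣ) : ℤ) • ξ ((F.d (-b) (-a)).hom x) := fun a b hab ξ x => by
      refine (dualE_d (P := F) (neg_add_cancel a) (neg_add_cancel b) hab _ x).trans ?_
      congr 1
      exact LinearMap.congr_fun ((dualE (P := F) (neg_add_cancel a)).apply_symm_apply ξ) _
    haveI := (hF (-(i - 1))).1
    haveI := (hF (-(i - 1))).2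
    haveI := (hF (-i)).1
    haveI := (hF (-i)).2
    haveI := (hF (-(i + 1))).1
    haveI := (hF (-(i + 1))).2
    haveI := hflat (i + 1)
    have hex := exact_lTensor_dual R P M (F.d (-(i + 1)) (-i)).hom (F.d (-i) (-(i - 1))).hom
      (by rw [← ModuleCat.hom_comp, HomologicalComplex.d_comp_d]; rfl)
      (gg i (i + 1) rfl) (gg (i - 1) i (sub_add_cancel i 1)) _ _
      (fun ξ x => hgg i (i + 1) rfl ξ x) (fun ξ x => hgg (i - 1) i (sub_add_cancel i 1) ξ x)
      (fun M₁ _ _ _ ξ hξ => by
        have hs := subsingleton_hom_inD_tensor R A n ψ hψ d hd M₁ i hi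
        let T := ModuleCat.of P (P ⊗[R] M₁)
        have hs' : Subsingleton (DRing.toD F ⟶ DRing.toD (sng (-i) T)) := by
          have h1 : Subsingleton (DRing.toD F ⟶ (Dual.inD P T)⟦i⟧) := eF.homFromEquiv.subsingleton_congr.2 hs
          have h2 : Subsingleton (DRing.toD F ⟶ (Dual.inD P T)⟦-(-i)⟧) := by rwa [neg_neg]
          exact (subsingleton_hom_sng_iff (DRing.toD F) (-i) T).1 h2
        suffices h : ∀ k l : ℤ, l + 1 = -i → k = -i + 1 → ∀ ξ' : F.X (-i) ⟶ T, F.d l (-i) ≫ ξ' = 0 →
            ∃ η : F.X k ⟶ T, F.d (-i) k ≫ η = ξ' by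
          obtain ⟨η, hη⟩ := h (-(i - 1)) (-(i + 1)) (by ring) (by ring) (ModuleCat.ofHom ξ) (ModuleCat.hom_ext hξ)
          exact ⟨η.hom, congr($(hη).hom)⟩
        intro k l hl hk ξ' hξ'
        subst hk
        obtain rfl : l = -i - 1 := by omega
        exact exists_extend_of_null (P := F) (-i) T (quotient_eq_zero_of_isKProjective hs') ξ' hξ')
    let e1 := fun j => (ev j).lTensor M.carrier
    refine (Function.Exact.iff_of_ladder_linearEquiv (e₁ := e1 (i - 1)) (e₂ := e1 i) (e₃ := e1 (i + 1)) ?_ ?_).1 hex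
    · refine TensorProduct.ext' fun m y => ?_
      exact congrArg (fun t => m ⊗ₜ[R] ev i ((N.d (i - 1) i).hom t)) ((ev (i - 1)).symm_apply_apply y)
    · refine TensorProduct.ext' fun m y => ?_
      exact congrArg (fun t => m ⊗ₜ[R] ev (i + 1) ((N.d i (i + 1)).hom t)) ((ev i).symm_apply_apply y)
  refine amp_of_iso ((DTen.resFactors φ).app (dualCx F)).symm ((tensVanish_iff hb hNflat _ _).2 ?_)
  intro M i hi
  rcases hi with hi | hi
  · exact key M i hi
  · exact HomologicalComplex.ExactAt.of_isZero ((tensorLeft M).map_isZero (hb i hi))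

end Groth.Agent.ShriekAlgLib
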